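import Cfsg.Agent.H22.Contrib
import Cfsg.Agent.H22.DeltaInt

/-!
# Integral major contributions and heights; integral forms of rank two
-/

set_option autoImplicit false
set_option linter.unusedSectionVars false

open Cfsg Finset
open scoped ComplexConjugate

namespace H22.SD

universe u

variable {G : Type u} [Group G] [Fintype G] {p : ℕ} [hp : Fact p.Prime] {M : Ideal AlgInt}
  [hMp : M.IsPrime]
  {B : Set (IrrCharacter G)} {x : G} [Fintype (Subgroup.centralizer ({x} : Set G))]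
  {b : Set (IrrCharacter (Subgroup.centralizer ({x} : Set G)))}

/-- An integral major contribution is divisible by the `p`-part of the degree, exactly so against
a member of height zero. -/
theorem dvd_aval (S : H22.Contrib.Setup p M x B b) (hM : IsPModular p M)
    (hq : blockDefect p b = blockDefect p B) {χ : IrrCharacter G} (hχ : χ ∈ B)
    {ψ : IrrCharacter G} {n : ℤ} (hn : S.aval 1 χ ψ = (n : ℂ)) :
    (p : ℤ) ^ blockHeight p B (χ : G → ℂ) ∣ n := by
  obtain ⟨w, hw, hweq, -⟩ := S.exists_aval_eq_pow_mul hq hχ ψ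
  rw [hn] at hweq
  refine H22.pow_dvd_of_memRing_int hM ?_
  rw [hweq]
  rwa [mul_div_cancel_left₀ _ (pow_ne_zero _ (Nat.cast_ne_zero.2 hp.out.ne_zero))]

theorem exact_aval (S : H22.Contrib.Setup p M x B b) (hM : IsPModular p M)
    (hq : blockDefect p b = blockDefect p B) {χ χ₀ : IrrCharacter G} (hχ : χ ∈ B) (hχ₀ : χ₀ ∈ B)
    (h0 : blockHeight p B (χ₀ : G → ℂ) = 0) {n : ℤ} (hn : S.aval 1 χ χ₀ = (n : ℂ)) :
    ¬ (p : ℤ) ^ (blockHeight p B (χ : G → ℂ) + 1) ∣ n := by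
  classical
  rintro ⟨t, ht⟩
  obtain ⟨c, hc, hcc⟩ := S.aval_factor hq χ₀
  have hu : ¬ MemLocalIdeal M (c χ₀) := by
    intro h
    apply S.aval_not_memIdeal hχ₀ hχ₀ h0 h0
    rw [(hc χ₀ hχ₀).2]
    exact H20.memIdeal_mul (H20.memRing_natCast _) h
  set h := blockHeight p B (χ : G → ℂ) with hh
  set m' := H22.mdeg p B χ / p ^ h
  have hfac : H22.mdeg p B χ = p ^ h * m' := by
    rw [Nat.mul_div_cancel']
    rw [hh, ← H22.mdeg_factorization hχ]
    exact Nat.ordProj_dvd _ _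
  have hm' : ¬ p ∣ m' := by
    show ¬ p ∣ H22.mdeg p B χ / p ^ h
    rw [hh, ← H22.mdeg_factorization hχ]
    exact Nat.not_dvd_ordCompl hp.out (H22.mdeg_pos hχ).ne'
  rw [(hc χ hχ).2, hfac, ht] at hn
  push_cast at hn
  have e : (m' : ℂ) * c χ = (t : ℂ) * (p : ℂ) := mul_left_cancel₀
    (pow_ne_zero h (Nat.cast_ne_zero.2 hp.out.ne_zero : (p : ℂ) ≠ 0))
    (by rw [pow_succ] at hn; linear_combination hn)
  have hI : MemLocalIdeal M ((m' : ℂ) * c χ) := by
    rw [e]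
    exact H20.memIdeal_mul (H20.memRing_intCast _) ((H20.natCast_memIdeal_iff hM _).2 dvd_rfl)
  have hm0 : (m' : ℂ) ≠ 0 := Nat.cast_ne_zero.2 fun e => hm' (e ▸ dvd_zero _)
  have h3 := H20.memIdeal_mul (H20.inv_natCast_memRing hM hm') hI
  rw [← mul_assoc, inv_mul_cancel₀ hm0, one_mul] at h3
  have h4 := H20.memIdeal_add (hcc χ₀ hχ₀ χ hχ) h3
  rw [sub_add_cancel] at h4
  exact hu h4

/-- The height read off from an integer. -/
theorem eq_of_dvd_exact {p j h : ℕ} (hp : p.Prime) {n m : ℤ} (hn : n = (p : ℤ) ^ j * m)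
    (hm : ¬ (p : ℤ) ∣ m) (h1 : (p : ℤ) ^ h ∣ n) (h2 : ¬ (p : ℤ) ^ (h + 1) ∣ n) : h = j := by
  refine le_antisymm ?_ ?_ <;> by_contra hlt
  · apply hm
    have h3 := (pow_dvd_pow (p : ℤ) (by omega : j + 1 ≤ h)).trans h1
    rw [hn, pow_succ] at h3
    exact (mul_dvd_mul_iff_left (pow_ne_zero _ (by exact_mod_cast hp.ne_zero))).1 h3
  · exact h2 ((pow_dvd_pow (p : ℤ) (by omega : h + 1 ≤ j)).trans (hn ▸ dvd_mul_right _ _))

/-- The norms of an integral form of rank two that is `N` times a projection. -/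
theorem form_two {ι : Type*} (s : Finset ι) (U X : ι → ℤ) (c N : ℤ) (hc : c ≠ 0) (hN : 0 < N)
    (hsq : ∀ φ ∈ s, ∀ χ ∈ s, ∑ ψ ∈ s, (U φ * U ψ + c * (X φ * X ψ)) * (U ψ * U χ + c * (X ψ * X χ))
      = N * (U φ * U χ + c * (X φ * X χ)))
    (htr : ∑ φ ∈ s, (U φ * U φ + c * (X φ * X φ)) = 2 * N) :
    ∑ φ ∈ s, U φ * U φ = N ∧ c * ∑ φ ∈ s, X φ * X φ = N ∧ ∑ φ ∈ s, U φ * X φ = 0 := by
  set A := ∑ φ ∈ s, U φ * U φ with hA
  set C := ∑ φ ∈ s, U φ * X φ with hC
  set Bx := ∑ φ ∈ s, X φ * X φ with hBx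
  have hQ : ∀ φ ∈ s, ∀ χ ∈ s, (A - N) * (U φ * U χ) + c * C * (U φ * X χ + X φ * U χ) +
      c * (c * Bx - N) * (X φ * X χ) = 0 := by
    intro φ hφ χ hχ
    have e := hsq φ hφ χ hχ
    rw [sum_congr rfl fun ψ _ => show (U φ * U ψ + c * (X φ * X ψ)) *
        (U ψ * U χ + c * (X ψ * X χ)) = (U φ * U χ) * (U ψ * U ψ) +
          c * (U φ * X χ + X φ * U χ) * (U ψ * X ψ) + c * c * (X φ * X χ) * (X ψ * X ψ) by ring,
      sum_add_distrib, sum_add_distrib, ← mul_sum, ← mul_sum, ← mul_sum] at e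
    linear_combination e
  by_cases hdet : ∃ i ∈ s, ∃ k ∈ s, U i * X k - U k * X i ≠ 0
  · obtain ⟨i, hi, k, hk, hd⟩ := hdet
    have hd2 : (U i * X k - U k * X i) ^ 2 ≠ 0 := pow_ne_zero _ hd
    have q1 := hQ i hi i hi
    have q2 := hQ i hi k hk
    have q3 := hQ k hk k hk
    have e1 : (A - N) * (U i * X k - U k * X i) ^ 2 = 0 := by
      linear_combination (X k * X k) * q1 - 2 * (X k * X i) * q2 + (X i * X i) * q3
    have e2 : c * (c * Bx - N) * (U i * X k - U k * X i) ^ 2 = 0 := by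
      linear_combination (U k * U k) * q1 - 2 * (U k * U i) * q2 + (U i * U i) * q3
    have e3 : c * C * (U i * X k - U k * X i) ^ 2 = 0 := by
      linear_combination -(U k * X k) * q1 + (U k * X i + X k * U i) * q2 - (U i * X i) * q3
    have f1 := (mul_eq_zero.1 e1).resolve_right hd2
    have f2 := (mul_eq_zero.1 ((mul_eq_zero.1 e2).resolve_right hd2)).resolve_left hc
    have f3 := (mul_eq_zero.1 ((mul_eq_zero.1 e3).resolve_right hd2)).resolve_left hc
    exact ⟨by linarith, by linarith, f3⟩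
  · exfalso
    push Not at hdet
    have hC2 : C * C = A * Bx := by
      have e : ∑ i ∈ s, ∑ k ∈ s, (U i * X k) * (U i * X k - U k * X i) = 0 :=
        sum_eq_zero fun i hi => sum_eq_zero fun k hk => by rw [hdet i hi k hk, mul_zero]
      rw [hA, hC, hBx, sum_mul_sum, sum_mul_sum]
      rw [eq_comm, ← sub_eq_zero, ← sum_sub_distrib, ← e]
      refine sum_congr rfl fun i _ => ?_
      rw [← sum_sub_distrib]
      exact sum_congr rfl fun k _ => by ring
    have e2 : ∑ φ ∈ s, ∑ ψ ∈ s, (U φ * U ψ + c * (X φ * X ψ)) * (U ψ * U φ + c * (X ψ * X φ)) =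
        N * (2 * N) := by
      rw [sum_congr rfl fun φ hφ => hsq φ hφ φ hφ, ← mul_sum, htr]
    rw [sum_congr rfl fun φ _ => sum_congr rfl fun ψ _ => show
        (U φ * U ψ + c * (X φ * X ψ)) * (U ψ * U φ + c * (X ψ * X φ)) =
          (U φ * U φ) * (U ψ * U ψ) + 2 * c * ((U φ * X φ) * (U ψ * X ψ)) +
            c * c * ((X φ * X φ) * (X ψ * X ψ)) by ring] at e2
    simp only [sum_add_distrib, ← mul_sum, ← sum_mul] at e2
    rw [sum_add_distrib, ← mul_sum] at htr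
    rw [← hA, ← hC, ← hBx] at e2
    rw [← hA, ← hBx] at htr
    have : (A + c * Bx) * (A + c * Bx) = N * (2 * N) := by
      linear_combination e2 - 2 * c * hC2
    rw [htr] at this
    nlinarith

end H22.SD
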