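import Cfsg.Agent.H22.SD.Centre
import Cfsg.Agent.H22.SD.Heights
import Cfsg.Agent.H22.DihCount

/-!
# The invariants of a 2-block with semidihedral defect group
-/

set_option autoImplicit false
set_option linter.unusedSectionVars false
set_option linter.style.haveILetI false
set_option maxHeartbeats 800000

open Cfsg Finset
open scoped MonoidAlgebra ComplexConjugate

namespace H22.SD.Semi

universe u

variable {G : Type u} [Group G] [Fintype G] {M : Ideal AlgInt} [hMp : M.IsPrime]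
  [CharP (H20.k M) 2] [IsAlgClosed (H20.k M)]
  {B : Set (IrrCharacter G)} {D : Subgroup G} {f0 : (H20.k M)[G]} {r s : G} {a : ℕ}

local notation "C[" x "]" => (Subgroup.centralizer ({x} : Set _))

/-- The members of height zero. -/
theorem card_height_zero (h : Semi M B D f0 r s a) (R : RotData M D f0 r a) :
    open Classical in
    ((H22.blockFinset B).filter
      fun χ : IrrCharacter G => blockHeight 2 B (χ : G → ℂ) = 0).card = 4 := by
  classical
  haveI : Fact (Nat.Prime 2) := ⟨Nat.prime_two⟩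
  obtain ⟨zm, -, hmat⟩ := H22.exists_isDeltaMatrix (p := 2) h.hM h.hB
  set sB := H22.blockFinset B
  set H := sB.filter fun χ : IrrCharacter G => blockHeight 2 B (χ : G → ℂ) = 0 with hHdef
  have hmem : ∀ χ ∈ sB, χ ∈ B := fun χ hχ => H22.mem_blockFinset.1 hχ
  obtain ⟨χ₀, hχ₀, he₀⟩ := H22.exists_height_zero (p := 2) (H20.block_nonempty h.hB)
  have h00 : blockHeight 2 B (χ₀ : G → ℂ) = 0 := Nat.sub_eq_zero_of_le he₀.le
  obtain ⟨hle, -⟩ := squares_card_le (H := H) (filter_subset _ sB) (h.sum_avg R) fun i hi e => by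
    obtain ⟨hi1, hi2⟩ := mem_filter.1 hi
    exact h.avg_odd R (hmem i hi1) hi2 (e ▸ dvd_zero _)
  have hmod : ((H.card : ℕ) : ZMod 4) = 0 := by
    have h4 : (4 : ZMod 4) = 0 := rfl
    have hrow : ((∑ ψ ∈ sB, zm χ₀ ψ ^ 2 : ℤ) : ZMod 4) = 0 := by
      rw [hmat.row χ₀ hχ₀, h.card_D.2, pow_add, mul_assoc]
      push_cast
      simp only [h4, zero_mul, mul_zero]
    rw [← hrow, Int.cast_sum, hHdef, card_filter, Nat.cast_sum]
    refine sum_congr rfl fun ψ hψ => ?_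
    split_ifs with h0
    · have e := hmat.exact_zero χ₀ hχ₀ ψ (hmem ψ hψ) h0
      rw [h00, zero_add, pow_one, Nat.cast_ofNat] at e
      obtain ⟨t, ht⟩ : ∃ t, zm χ₀ ψ = 2 * t + 1 := Int.odd_iff.2 (Int.two_dvd_ne_zero.1 e)
      rw [ht]
      push_cast
      linear_combination -((t : ZMod 4) * t + t) * h4
    · have e := hmat.dvd_succ χ₀ hχ₀ ψ (hmem ψ hψ) (Nat.pos_of_ne_zero h0)
      rw [h00, zero_add, pow_one, Nat.cast_ofNat] at e
      obtain ⟨t, ht⟩ := e
      rw [ht]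
      push_cast
      linear_combination -((t : ZMod 4) * t) * h4
  rw [ZMod.natCast_eq_zero_iff] at hmod
  have : 0 < H.card := card_pos.2 ⟨χ₀, mem_filter.2 ⟨H22.mem_blockFinset.2 hχ₀, h00⟩⟩
  omega

/-- A block of rank one is one too small. -/
theorem card_ne_of_rank_one (h : Semi M B D f0 r s a) (R : RotData M D f0 r a)
    (hl : blockRank 2 B = 1) : Nat.card B ≠ 2 ^ a + 2 := by
  classical
  haveI : Fact (Nat.Prime 2) := ⟨Nat.prime_two⟩
  obtain ⟨Dd⟩ := H22.One.exists_data (p := 2) h.hM h.hB hl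
  intro hk
  set sB := H22.blockFinset B
  set H := sB.filter fun χ : IrrCharacter G => blockHeight 2 B (χ : G → ℂ) = 0 with hHdef
  have hmem : ∀ χ ∈ sB, χ ∈ B := fun χ hχ => H22.mem_blockFinset.1 hχ
  have hdvd : ∀ χ ∈ sB, ((2 : ℤ) ∣ (Dd.e χ : ℤ)) ↔ blockHeight 2 B (χ : G → ℂ) ≠ 0 := by
    intro χ hχ
    rw [show (2 : ℤ) = ((2 : ℕ) : ℤ) from rfl, Int.natCast_dvd_natCast, ← Dd.val (hmem χ hχ),
      Nat.prime_two.dvd_iff_one_le_factorization (Dd.e_ne_zero (hmem χ hχ))]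
    omega
  obtain ⟨χ₀, hχ₀, he₀⟩ := H22.exists_height_zero (p := 2) (H20.block_nonempty h.hB)
  obtain ⟨-, -, -, -, hc⟩ := H22.DihCount.count sB H (filter_subset _ _)
    ⟨χ₀, mem_filter.2 ⟨H22.mem_blockFinset.2 hχ₀, Nat.sub_eq_zero_of_le he₀.le⟩⟩
    R.avg (fun χ => (Dd.e χ : ℤ))
    (fun χ hχ => h.avg_odd R (hmem χ (mem_filter.1 hχ).1) (mem_filter.1 hχ).2) (h.sum_avg R)
    (fun χ hχ e => (hdvd χ (mem_filter.1 hχ).1).1 e (mem_filter.1 hχ).2)
    (fun χ hχ hn => (hdvd χ hχ).2 fun e => hn (mem_filter.2 ⟨hχ, e⟩))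
    (fun χ hχ _ => Int.natCast_ne_zero.2 (Dd.e_ne_zero (hmem χ hχ))) (q := 2 ^ a)
    (by
      have e := Dd.sum_sq
      rw [h.card_D.2] at e
      have e2 : ((∑ χ ∈ sB, Dd.e χ ^ 2 : ℕ) : ℤ) = ((2 ^ (a + 2) : ℕ) : ℤ) := by rw [e]
      push_cast at e2 ⊢
      rw [e2, pow_add]
      ring)
    (by rw [← H22.natCard_block, hk]; omega)
  rw [← H22.natCard_block, hk] at hc
  rcases hc with ⟨e, -⟩ | ⟨e, -⟩ <;> omega

open Classical in
/-- The number of members. -/
theorem card_block (h : Semi M B D f0 r s a) [Fintype C[r ^ 2 ^ a]]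
    {bz : Set (IrrCharacter C[r ^ 2 ^ a])} (hbz : IsPBlock M bz)
    (hbe : H23.eG M C[r ^ 2 ^ a] bz = bl M D f0 (r ^ 2 ^ a)) :
    Nat.card B = blockRank 2 B + (2 ^ a - 1) + blockRank 2 bz +
      ((if Out M D f0 r (s * r) then 1 else 0) + if Out M D f0 r s then 1 else 0) := by
  haveI : Fact (Nat.Prime 2) := ⟨Nat.prime_two⟩
  rw [H12.SubsecFam.card_eq h.fam h.hM h.hB
    (Sum.elim (fun _ => 1) (Sum.elim (fun _ => blockRank 2 bz) fun _ => 1)) ?_,
    Fintype.sum_sum_type, Fintype.sum_sum_type]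
  · simp only [Sum.elim_inl, Sum.elim_inr]
    rw [sum_const, card_univ, Fintype.card_coe, card_reps h.ha,
      sum_out (fun b => Out M D f0 r (pick r s b)) (fun _ => 1),
      Fintype.sum_unique (f := fun _ : Unit => blockRank 2 bz)]
    simp only [pick, cond_true, cond_false, smul_eq_mul, mul_one]
    omega
  · rintro (i | i | i)
    · haveI : Fintype C[r ^ (i : ℕ)] := Fintype.ofFinite _
      rw [Sum.elim_inl, Nat.cast_one]
      exact (h.loc_rot (Subgroup.npow_mem_zpowers r _)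
        (h.rep_pow_mem (mem_reps.1 i.2).1)).sum_pairC_eq_one h.hB (h.bl_inBlk (pow_mem h.rD _))
    · rw [Sum.elim_inr, Sum.elim_inl]
      simp only [rep, Sum.elim_inr, Sum.elim_inl]
      rw [← hbe]
      exact H12.SubsecFam.sum_pairC_self h.hM h.hB (h.exists_orderOf (pow_mem h.rD _)) hbz
        (by rw [hbe]; exact h.bl_inBlk (pow_mem h.rD _))
    · rw [Sum.elim_inr, Sum.elim_inr, Nat.cast_one]
      obtain ⟨c, N, hN, hc, hcs, -⟩ := h.exists_out_col i.2
      simp only [rep, Sum.elim_inr]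
      rw [sum_congr rfl fun χ _ => hc χ χ, ← sum_div, hcs, div_self hN]

/-- The form at the centre seen in `G`. -/
theorem exists_form_centre (h : Semi M B D f0 r s a) [Fintype C[r ^ 2 ^ a]]
    {bz : Set (IrrCharacter C[r ^ 2 ^ a])} {U₀ X₀ : IrrCharacter C[r ^ 2 ^ a] → ℤ}
    (hpar : ∀ α ∈ bz, (2 : ℤ) ∣ U₀ α - X₀ α) (hd : blockDefect 2 bz = a + 2)
    (hform : ∀ α ∈ bz, ∀ β ∈ bz, (2 : ℂ) ^ (a + 2) * H22.Delta 2 α β =
      ((U₀ α * U₀ β + 2 ^ (a - 1) * (X₀ α * X₀ β) : ℤ) : ℂ))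
    (S : H22.Contrib.Setup 2 M (r ^ 2 ^ a) B bz) :
    ∃ U X : IrrCharacter G → ℤ, (∀ χ, (2 : ℤ) ∣ U χ - X χ) ∧ ∀ χ ψ,
      S.aval 1 χ ψ = ((U χ * U ψ + 2 ^ (a - 1) * (X χ * X ψ) : ℤ) : ℂ) := by
  classical
  haveI : Fact (Nat.Prime 2) := ⟨Nat.prime_two⟩
  set K := H22.blockFinset bz with hK
  have htw : ∀ η : IrrCharacter C[r ^ 2 ^ a], ∃ e : ℤ, H22.Contrib.twist (r ^ 2 ^ a) η = (e : ℂ) := by
    intro η
    rcases sq_eq_one_iff.1 (H22.Contrib.twist_pow (r ^ 2 ^ a) η (N := 2)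
      (by rw [pow_two]; exact h.z_sq)) with e | e
    · exact ⟨1, by rw [e]; norm_num⟩
    · exact ⟨-1, by rw [e]; norm_num⟩
  choose e he using htw
  let n : IrrCharacter G → IrrCharacter C[r ^ 2 ^ a] → ℤ := fun χ η =>
    (H22.Contrib.nres C[r ^ 2 ^ a] χ η : ℤ) * e η
  refine ⟨fun χ => ∑ η ∈ K, n χ η * U₀ η, fun χ => ∑ η ∈ K, n χ η * X₀ η, fun χ => ?_,
    fun χ ψ => ?_⟩
  · rw [← sum_sub_distrib]
    exact dvd_sum fun η hη => by
      rw [← mul_sub]; exact dvd_mul_of_dvd_right (hpar η (H22.mem_blockFinset.1 hη)) _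
  · rw [S.aval_one, hd, Nat.cast_ofNat, part_eq_sum, part_eq_sum, H12.classInner_sum_left,
      mul_sum, sum_mul_sum, sum_mul_sum, mul_sum (s := K) (a := (2 : ℤ) ^ (a - 1)),
      ← sum_add_distrib, Int.cast_sum]
    refine sum_congr rfl fun η hη => ?_
    rw [H12.classInner_sum_right, mul_sum, mul_sum, ← sum_add_distrib, Int.cast_sum]
    refine sum_congr rfl fun η' hη' => ?_
    rw [H12.classInner_smul_left, H12.classInner_smul_right, classInner_regPart, map_mul,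
      Complex.conj_natCast, he, he, map_intCast]
    have e2 := hform η (H22.mem_blockFinset.1 hη) η' (H22.mem_blockFinset.1 hη')
    simp only [n]
    push_cast at e2 ⊢
    linear_combination ((H22.Contrib.nres C[r ^ 2 ^ a] χ η : ℂ) * (e η : ℂ) *
      (H22.Contrib.nres C[r ^ 2 ^ a] ψ η' : ℂ) * (e η' : ℂ)) * e2

open Classical in
/-- **The invariants of a 2-block with semidihedral defect group.** -/
theorem invariants (h : Semi M B D f0 r s a) :
    (Nat.card B = 2 ^ a + 3 ∨ Nat.card B = 2 ^ a + 4) ∧ 1 ≤ blockRank 2 B ∧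
      blockRank 2 B ≤ 3 ∧ (blockRank 2 B = 3 → Nat.card B = 2 ^ a + 4) ∧
      (blockRank 2 B = 1 → Nat.card B = 2 ^ a + 3) ∧
      Nat.card {χ : IrrCharacter G // χ ∈ B ∧ blockHeight 2 B (χ : G → ℂ) = 0} = 4 ∧
      Nat.card {χ : IrrCharacter G // χ ∈ B ∧ blockHeight 2 B (χ : G → ℂ) = 1} = 2 ^ a - 1 ∧
      (∀ χ ∈ B, blockHeight 2 B (χ : G → ℂ) = 0 ∨ blockHeight 2 B (χ : G → ℂ) = 1 ∨
        blockHeight 2 B (χ : G → ℂ) = a) ∧
      (blockRank 2 B = 3 → ¬ Out M D f0 r s ∧ ¬ Out M D f0 r (s * r)) := by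
  haveI : Fact (Nat.Prime 2) := ⟨Nat.prime_two⟩
  haveI : Fintype C[r ^ 2 ^ a] := Fintype.ofFinite _
  obtain ⟨R⟩ := h.exists_rot
  obtain ⟨bz, hbz, hbe, rC, sC, fC, hrC, -, hS, hiff⟩ := h.exists_centre
  have hzC : rC ^ 2 ^ a ∈ Subgroup.center C[r ^ 2 ^ a] := Subgroup.mem_center_iff.2 fun c =>
    Subtype.ext (by simpa [hrC] using Subgroup.mem_centralizer_singleton_iff.1 c.2)
  have hlz := hS.rank_cases hzC
  rw [if_congr hiff rfl rfl] at hlz
  have hk := h.card_block hbz hbe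
  have hl1 := H19.CentralRank.one_le_blockRank (p := 2) (H20.block_nonempty h.hB)
  have h4 := h.four_le_q
  have hH4 := h.card_height_zero R
  set sB := H22.blockFinset B with hsB
  set H := sB.filter fun χ : IrrCharacter G => blockHeight 2 B (χ : G → ℂ) = 0 with hHdef
  have hHs : H ⊆ sB := filter_subset _ _
  have hmem : ∀ χ ∈ sB, χ ∈ B := fun χ hχ => H22.mem_blockFinset.1 hχ
  have hcount : ∀ j : ℕ, Nat.card {χ : IrrCharacter G // χ ∈ B ∧ blockHeight 2 B (χ : G → ℂ) = j} =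
      (sB.filter fun χ : IrrCharacter G => blockHeight 2 B (χ : G → ℂ) = j).card := by
    intro j
    rw [← Nat.card_eq_finsetCard]
    exact Nat.card_congr (Equiv.subtypeEquivRight fun χ => by
      rw [mem_filter, H22.mem_blockFinset])
  have hx := h.exists_orderOf (pow_mem h.rD (2 ^ a))
  have hin : H23.InBlk (H23.eB M B) (Subgroup.zpowers (r ^ 2 ^ a))
      (H23.eG M C[r ^ 2 ^ a] bz) := by rw [hbe]; exact h.bl_inBlk (pow_mem h.rD _)
  have hind := H20.Klein.induced_of_inBlk h.hM h.hB hx hbz hin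
  obtain ⟨S⟩ := H22.Contrib.exists_setup h.hM hx hind
  have hdz : blockDefect 2 bz = a + 2 := hS.card_D.2
  have hq : blockDefect 2 bz = blockDefect 2 B := hdz.trans h.card_D.2.symm
  obtain ⟨χ₀, hχ₀, he₀⟩ := H22.exists_height_zero (p := 2) (H20.block_nonempty h.hB)
  have h00 : blockHeight 2 B (χ₀ : G → ℂ) = 0 := Nat.sub_eq_zero_of_le he₀.le
  have hχ₀H : χ₀ ∈ H := mem_filter.2 ⟨H22.mem_blockFinset.2 hχ₀, h00⟩
  have hoffH : ∀ χ ∈ sB, χ ∉ H → blockHeight 2 B (χ : G → ℂ) ≠ 0 := fun χ hχ hn e =>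
    hn (mem_filter.2 ⟨hχ, e⟩)
  have hsH : (sB \ H).card + 4 = sB.card := by
    rw [← hH4]; exact card_sdiff_add_card_eq_card hHs
  have hkB : Nat.card B = sB.card := H22.natCard_block B
  rw [hcount 0, hcount 1]
  by_cases ht : Out M D f0 r (s * r)
  · -- rank one at the centre
    rw [if_pos ht] at hlz hk
    have hlz1 : blockRank 2 bz = 1 := by omega
    obtain ⟨Dz⟩ := H22.One.exists_data h.hM hbz hlz1
    choose v hv using fun χ => H22.One.exists_col_int (G := G) Dz (by rw [pow_two]; exact h.z_sq) χ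
    have haval : ∀ χ ψ, S.aval 1 χ ψ = ((v χ * v ψ : ℤ) : ℂ) := fun χ ψ => by
      rw [H22.One.aval_eq Dz S, hv, hv, map_intCast]; push_cast; rfl
    have hodd : ∀ χ ∈ H, ¬ (2 : ℤ) ∣ v χ := by
      intro χ hχ hdvd
      obtain ⟨hχs, hh⟩ := mem_filter.1 hχ
      apply S.aval_not_memIdeal (hmem χ hχs) (hmem χ hχs) hh hh
      rw [haval, H20.intCast_memIdeal_iff h.hM]
      exact dvd_mul_of_dvd_left hdvd _
    have heven : ∀ χ ∈ sB, χ ∉ H → (2 : ℤ) ∣ v χ := by
      intro χ hχ hn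
      have e := (dvd_pow_self (2 : ℤ) (hoffH χ hχ hn)).trans
        (by exact_mod_cast dvd_aval S h.hM hq (hmem χ hχ) (haval χ χ₀))
      exact (Int.prime_two.dvd_or_dvd e).resolve_right (hodd χ₀ hχ₀H)
    have hne : ∀ χ ∈ sB, χ ∉ H → v χ ≠ 0 := fun χ hχ _ e => by
      apply S.aval_ne_zero hq (hmem χ hχ) hχ₀ h00
      rw [haval, e, zero_mul, Int.cast_zero]
    have hsum : ∑ χ ∈ sB, v χ ^ 2 = 4 * ((2 ^ a : ℕ) : ℤ) := by
      have e := H22.One.sum_col_sq Dz h.hM hx hind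
      simp only [hv, map_intCast, hdz] at e
      apply Int.cast_injective (α := ℂ)
      push_cast at e ⊢
      rw [sum_congr rfl fun χ _ => pow_two (v χ : ℂ), e, pow_add]
      ring
    have hk2 : 2 ^ a + 2 ≤ sB.card := by rw [← hkB, hk]; omega
    obtain ⟨-, -, -, hv4, hc⟩ := H22.DihCount.count sB H hHs ⟨χ₀, hχ₀H⟩ R.avg v
      (fun χ hχ => h.avg_odd R (hmem χ (mem_filter.1 hχ).1) (mem_filter.1 hχ).2) (h.sum_avg R)
      hodd heven hne hsum (by omega)
    have hk3 : sB.card = 2 ^ a + 3 := by rcases hc with ⟨e, -⟩ | ⟨e, -⟩ <;> omega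
    have hh1 : ∀ χ ∈ sB, χ ∉ H → blockHeight 2 B (χ : G → ℂ) = 1 := by
      intro χ hχ hn
      refine eq_of_dvd_exact Nat.prime_two (j := 1) (m := v χ₀ * (v χ / 2)) ?_ ?_
        (dvd_aval S h.hM hq (hmem χ hχ) (haval χ χ₀))
        (exact_aval S h.hM hq (hmem χ hχ) hχ₀ h00 (haval χ χ₀))
      · obtain ⟨m, hm⟩ := heven χ hχ hn
        rw [hm, Int.mul_ediv_cancel_left _ two_ne_zero]
        push_cast
        ring
      · intro e
        rcases Int.prime_two.dvd_or_dvd (by exact_mod_cast e) with e | e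
        · exact hodd χ₀ hχ₀H e
        · rcases sq_eq_sq_iff_eq_or_eq_neg.1 (show v χ ^ 2 = 2 ^ 2 by rw [hv4 χ hχ hn]; norm_num)
            with e2 | e2 <;> rw [e2] at e <;> norm_num at e
    refine ⟨Or.inl (hkB.trans hk3), hl1, by omega, fun e => by omega, fun _ => hkB.trans hk3,
      hH4, ?_, fun χ hχ => ?_, fun e => by omega⟩
    · rw [show (sB.filter fun χ : IrrCharacter G => blockHeight 2 B (χ : G → ℂ) = 1) = sB \ H by
        ext χ
        rw [mem_filter, mem_sdiff]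
        constructor
        · exact fun ⟨h1, h2⟩ => ⟨h1, fun e => by rw [(mem_filter.1 e).2] at h2; omega⟩
        · exact fun ⟨h1, h2⟩ => ⟨h1, hh1 χ h1 h2⟩]
      omega
    · by_cases hn : χ ∈ H
      · exact Or.inl (mem_filter.1 hn).2
      · exact Or.inr (Or.inl (hh1 χ (H22.mem_blockFinset.2 hχ) hn))
  · -- rank two at the centre
    rw [if_neg ht, add_zero] at hlz
    rw [if_neg ht, zero_add] at hk
    obtain ⟨U₀, X₀, hpar₀, hform⟩ := hS.exists_form hzC (mt hiff.1 ht)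
    obtain ⟨U, X, hpar, haval⟩ := h.exists_form_centre hpar₀ hdz hform S
    set c : ℤ := 2 ^ (a - 1) with hcdef
    have hc0 : c ≠ 0 := pow_ne_zero _ two_ne_zero
    have hce : (2 : ℤ) ∣ c := dvd_pow_self _ (by have := h.ha; omega)
    have h2c : (2 : ℤ) ^ a = 2 * c := by
      rw [hcdef, ← pow_succ', Nat.sub_add_cancel (le_of_lt h.ha)]
    obtain ⟨hA, hBx, -⟩ := form_two sB U X c (2 ^ (a + 2)) hc0 (by positivity)
      (fun φ _ χ _ => by
        have e := S.sum_aval_mul_one φ χ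
        simp only [haval, hdz] at e
        exact_mod_cast e)
      (by
        have e := S.sum_aval_self_one
        simp only [haval, hdz, hlz] at e
        apply Int.cast_injective (α := ℂ)
        push_cast at e ⊢
        rw [e]
        ring)
    have hX8 : ∑ χ ∈ sB, X χ * X χ = 8 := by
      refine mul_left_cancel₀ hc0 (hBx.trans ?_)
      rw [pow_add, h2c]
      ring
    have hU4q : ∑ χ ∈ sB, U χ * U χ = 4 * ((2 ^ a : ℕ) : ℤ) := by
      rw [hA, pow_add]; push_cast; ring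
    have hUodd : ∀ χ ∈ H, ¬ (2 : ℤ) ∣ U χ := by
      intro χ hχ hdvd
      obtain ⟨hχs, hh⟩ := mem_filter.1 hχ
      apply S.aval_not_memIdeal (hmem χ hχs) (hmem χ hχs) hh hh
      rw [haval, H20.intCast_memIdeal_iff h.hM]
      exact dvd_add (dvd_mul_of_dvd_left hdvd _) (dvd_mul_of_dvd_left hce _)
    have hXodd : ∀ χ ∈ H, ¬ (2 : ℤ) ∣ X χ := fun χ hχ e =>
      hUodd χ hχ (by have := dvd_add (hpar χ) e; rwa [sub_add_cancel] at this)
    have hUeven : ∀ χ ∈ sB, χ ∉ H → (2 : ℤ) ∣ U χ := by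
      intro χ hχ hn
      have e := (dvd_pow_self (2 : ℤ) (hoffH χ hχ hn)).trans
        (by exact_mod_cast dvd_aval S h.hM hq (hmem χ hχ) (haval χ χ₀))
      exact (Int.prime_two.dvd_or_dvd
        ((dvd_add_left (dvd_mul_of_dvd_left hce _)).1 e)).resolve_right (hUodd χ₀ hχ₀H)
    have hXeven : ∀ χ ∈ sB, χ ∉ H → (2 : ℤ) ∣ X χ := fun χ hχ hn => by
      have := dvd_sub (hUeven χ hχ hn) (hpar χ)
      rwa [sub_sub_cancel] at this
    have hnz : ∀ χ ∈ sB, U χ = 0 → X χ ≠ 0 := fun χ hχ e1 e2 => by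
      apply S.aval_ne_zero hq (hmem χ hχ) hχ₀ h00
      rw [haval, e1, e2]; simp
    have hsq1 : ∀ {f : IrrCharacter G → ℤ}, (∀ χ ∈ H, ¬ (2 : ℤ) ∣ f χ) →
        ∀ χ ∈ H, f χ * f χ = 1 ∨ 9 ≤ f χ * f χ := fun {f} hf χ hχ => by
      rw [← pow_two]; exact H22.DihCount.odd_sq_dichotomy (hf χ hχ)
    have hsq4 : ∀ {f : IrrCharacter G → ℤ} {χ : IrrCharacter G}, (2 : ℤ) ∣ f χ → f χ ≠ 0 →
        f χ * f χ = 4 ∨ 16 ≤ f χ * f χ := fun {f χ} ⟨m, hm⟩ hne => by
      rw [hm]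
      rcases (show m = 1 ∨ m = -1 ∨ 2 ≤ m ∨ m ≤ -2 by omega) with e | e | e | e
      · left; rw [e]; norm_num
      · left; rw [e]; norm_num
      · right; nlinarith
      · right; nlinarith
    have hlow : ∀ {f : IrrCharacter G → ℤ}, (∀ χ ∈ H, ¬ (2 : ℤ) ∣ f χ) →
        (4 : ℤ) ≤ ∑ χ ∈ H, f χ * f χ := fun {f} hf => by
      have := card_nsmul_le_sum H (fun χ => f χ * f χ) 1 fun χ hχ => by
        rcases hsq1 hf χ hχ with e | e <;> omega
      rw [hH4] at this
      simpa using this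
    have hone : ∀ {f : IrrCharacter G → ℤ}, (∀ χ ∈ H, ¬ (2 : ℤ) ∣ f χ) →
        ∑ χ ∈ H, f χ * f χ ≤ 11 → ∑ χ ∈ H, f χ * f χ = 4 := fun {f} hf hle => by
      rw [sum_congr rfl fun χ hχ => show f χ * f χ = 1 by
        rcases hsq1 hf χ hχ with e | e
        · exact e
        · exfalso
          have h1 := add_sum_erase H (fun χ => f χ * f χ) hχ
          have h2 := card_nsmul_le_sum (H.erase χ) (fun χ => f χ * f χ) 1 fun ψ hψ => by
            rcases hsq1 hf ψ (mem_of_mem_erase hψ) with e | e <;> omega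
          rw [card_erase_of_mem hχ, hH4] at h2
          norm_num at h2
          omega, sum_const, hH4]
      rfl
    have hsplit : ∀ f : IrrCharacter G → ℤ,
        ∑ χ ∈ sB, f χ = ∑ χ ∈ H, f χ + ∑ χ ∈ sB \ H, f χ := fun f => by
      rw [add_comm, sum_sdiff hHs]
    have hXoff0 : ∀ χ ∈ sB \ H, X χ = 0 ∨ 4 ≤ X χ * X χ := fun χ hχ => by
      by_cases e : X χ = 0
      · exact Or.inl e
      · rcases hsq4 (hXeven χ (mem_sdiff.1 hχ).1 (mem_sdiff.1 hχ).2) e with e' | e' <;>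
          exact Or.inr (by omega)
    rw [hsplit] at hX8 hU4q
    have hXH4 := hone hXodd (by
      have : 0 ≤ ∑ χ ∈ sB \ H, X χ * X χ := sum_nonneg fun χ _ => mul_self_nonneg _
      omega)
    obtain ⟨P, hP, hP0⟩ : ∃ P ∈ sB \ H, X P ≠ 0 := by
      by_contra hcon
      push Not at hcon
      rw [sum_eq_zero (fun χ hχ => by rw [hcon χ hχ, mul_zero] :
        ∀ χ ∈ sB \ H, X χ * X χ = 0)] at hX8
      omega
    have hXP := add_sum_erase (sB \ H) (fun χ => X χ * X χ) hP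
    have hXP4 : 4 ≤ X P * X P := (hXoff0 P hP).resolve_left hP0
    have hX0 : ∀ χ ∈ (sB \ H).erase P, X χ = 0 := fun χ hχ => by
      refine mul_self_eq_zero.1
        ((sum_eq_zero_iff_of_nonneg fun χ _ => mul_self_nonneg (X χ)).1 ?_ χ hχ)
      have : 0 ≤ ∑ χ ∈ (sB \ H).erase P, X χ * X χ := sum_nonneg fun χ _ => mul_self_nonneg _
      omega
    set O := (sB \ H).erase P with hO
    have hU4 : ∀ χ ∈ O, U χ * U χ = 4 ∨ 16 ≤ U χ * U χ := fun χ hχ => by
      obtain ⟨h1, h2⟩ := mem_sdiff.1 (mem_of_mem_erase hχ)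
      exact hsq4 (hUeven χ h1 h2) fun e => hnz χ h1 e (hX0 χ hχ)
    have hUO : ((4 * O.card : ℕ) : ℤ) ≤ ∑ χ ∈ O, U χ * U χ := by
      have := card_nsmul_le_sum O (fun χ => U χ * U χ) 4 fun χ hχ => by
        rcases hU4 χ hχ with e | e <;> omega
      simpa [mul_comm] using this
    have hUP := add_sum_erase (sB \ H) (fun χ => U χ * U χ) hP
    have hUPnn := mul_self_nonneg (U P)
    have hOc : O.card + 5 = sB.card := by
      rw [hO, card_erase_of_mem hP]
      have := card_pos.2 ⟨P, hP⟩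
      omega
    have hUH := hlow hUodd
    simp only [← hO] at hUP
    have hcast : ((2 ^ a : ℕ) : ℤ) = 2 * c := by push_cast; exact h2c
    have hkle : sB.card ≤ 2 ^ a + 4 := by omega
    have hkge : 2 ^ a + 3 ≤ sB.card := by
      by_contra hlt
      have : blockRank 2 B = 1 := by omega
      exact h.card_ne_of_rank_one R this (by omega)
    have hUH4 := hone hUodd (by omega)
    have hO4 : ∀ χ ∈ O, U χ * U χ = 4 := by
      intro χ hχ
      refine (hU4 χ hχ).resolve_right fun e => ?_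
      have h1 := add_sum_erase O (fun χ => U χ * U χ) hχ
      have h2 := card_nsmul_le_sum (O.erase χ) (fun χ => U χ * U χ) 4 fun ψ hψ => by
        rcases hU4 ψ (mem_of_mem_erase hψ) with e | e <;> omega
      rw [card_erase_of_mem hχ, nsmul_eq_mul] at h2
      have := card_pos.2 ⟨χ, hχ⟩
      push_cast [show 1 ≤ O.card by omega] at h2
      omega
    have hOsum : ∑ χ ∈ O, U χ * U χ = ((4 * O.card : ℕ) : ℤ) := by
      rw [sum_congr rfl hO4, sum_const, nsmul_eq_mul]; push_cast; ring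
    have hheight : ∀ χ ∈ sB, ∀ (j : ℕ) (m : ℤ),
        U χ * U χ₀ + c * (X χ * X χ₀) = 2 ^ j * m → ¬ (2 : ℤ) ∣ m →
          blockHeight 2 B (χ : G → ℂ) = j := fun χ hχ j m e hm =>
      eq_of_dvd_exact Nat.prime_two (by exact_mod_cast e) (by exact_mod_cast hm)
        (dvd_aval S h.hM hq (hmem χ hχ) (haval χ χ₀))
        (exact_aval S h.hM hq (hmem χ hχ) hχ₀ h00 (haval χ χ₀))
    have htwo : ∀ χ, U χ * U χ = 4 → ∃ m, U χ = 2 * m ∧ ¬ (2 : ℤ) ∣ m := fun χ e => by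
      rcases sq_eq_sq_iff_eq_or_eq_neg.1 (show U χ ^ 2 = 2 ^ 2 by rw [pow_two, e]; norm_num)
        with e | e
      · exact ⟨1, by rw [e]; norm_num, by norm_num⟩
      · exact ⟨-1, by rw [e]; norm_num, by norm_num⟩
    have hone' : ∀ χ ∈ sB, χ ∉ H → U χ * U χ = 4 → blockHeight 2 B (χ : G → ℂ) = 1 := by
      intro χ hχ hn e
      obtain ⟨m, hm, hmo⟩ := htwo χ e
      obtain ⟨n, hn'⟩ := hXeven χ hχ hn
      refine hheight χ hχ 1 (m * U χ₀ + c * (n * X χ₀)) (by rw [hm, hn']; ring) fun e2 => ?_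
      rcases Int.prime_two.dvd_or_dvd ((dvd_add_left (dvd_mul_of_dvd_left hce _)).1 e2) with e3 | e3
      · exact hmo e3
      · exact hUodd χ₀ hχ₀H e3
    have hh1 : ∀ χ ∈ O, blockHeight 2 B (χ : G → ℂ) = 1 := fun χ hχ =>
      hone' χ (mem_sdiff.1 (mem_of_mem_erase hχ)).1 (mem_sdiff.1 (mem_of_mem_erase hχ)).2 (hO4 χ hχ)
    obtain ⟨hPs, hPn⟩ := mem_sdiff.1 hP
    have hPh : (sB.card = 2 ^ a + 3 ∧ blockHeight 2 B (P : G → ℂ) = 1) ∨
        (sB.card = 2 ^ a + 4 ∧ blockHeight 2 B (P : G → ℂ) = a) := by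
      rcases (show sB.card = 2 ^ a + 3 ∨ sB.card = 2 ^ a + 4 by omega) with e | e
      · exact Or.inl ⟨e, hone' P hPs hPn (by omega)⟩
      · refine Or.inr ⟨e, ?_⟩
        have hU0 : U P = 0 := mul_self_eq_zero.1 (by omega)
        obtain ⟨n, hn⟩ := hXeven P hPs hPn
        refine hheight P hPs a (n * X χ₀) (by rw [hU0, hn, h2c]; ring) fun e2 => ?_
        rcases Int.prime_two.dvd_or_dvd e2 with e3 | e3
        · obtain ⟨k, hk'⟩ := e3
          have hbig : X P * X P = 16 * (k * k) := by rw [hn, hk']; ring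
          have hk0 : k * k = 0 := by
            have := mul_self_nonneg k
            have h0 : ∑ χ ∈ O, X χ * X χ = 0 := sum_eq_zero fun χ hχ => by rw [hX0 χ hχ, mul_zero]
            omega
          exact hP0 (mul_self_eq_zero.1 (by rw [hbig, hk0]; ring))
        · exact hXodd χ₀ hχ₀H e3
    refine ⟨by omega, hl1, by omega, fun e => by omega, fun e => ?_, hH4, ?_, fun χ hχ => ?_,
      fun e => ⟨fun hs => ?_, ht⟩⟩
    · split_ifs at hk <;> omega
    · have ha2 := h.ha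
      rcases hPh with ⟨e, hp⟩ | ⟨e, hp⟩
      · rw [show (sB.filter fun χ : IrrCharacter G => blockHeight 2 B (χ : G → ℂ) = 1) = sB \ H by
          ext χ
          rw [mem_filter, mem_sdiff]
          constructor
          · exact fun ⟨h1, h2⟩ => ⟨h1, fun e => by rw [(mem_filter.1 e).2] at h2; omega⟩
          · intro hh
            refine ⟨hh.1, ?_⟩
            by_cases hPe : χ = P
            · rw [hPe, hp]
            · exact hh1 χ (mem_erase.2 ⟨hPe, mem_sdiff.2 hh⟩)]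
        omega
      · rw [show (sB.filter fun χ : IrrCharacter G => blockHeight 2 B (χ : G → ℂ) = 1) = O by
          ext χ
          rw [mem_filter, hO, mem_erase, mem_sdiff]
          constructor
          · intro ⟨h1, h2⟩
            refine ⟨fun e => ?_, h1, fun e => ?_⟩
            · rw [e, hp] at h2; omega
            · rw [(mem_filter.1 e).2] at h2; omega
          · exact fun hh => ⟨hh.2.1, hh1 χ (mem_erase.2 ⟨hh.1, mem_sdiff.2 hh.2⟩)⟩]
        omega
    · by_cases hn : χ ∈ H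
      · exact Or.inl (mem_filter.1 hn).2
      · by_cases hPe : χ = P
        · subst hPe
          rcases hPh with ⟨-, hp⟩ | ⟨-, hp⟩
          · exact Or.inr (Or.inl hp)
          · exact Or.inr (Or.inr hp)
        · exact Or.inr (Or.inl (hh1 χ
            (mem_erase.2 ⟨hPe, mem_sdiff.2 ⟨H22.mem_blockFinset.2 hχ, hn⟩⟩)))
    · rw [if_pos hs] at hk
      omega

end H22.SD.Semi
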