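import Cfsg.Agent.H22.SD.Quot
import Cfsg.Agent.H67.QuasiDihedral

/-!
# The data of a 2-block with semidihedral defect group
-/

set_option autoImplicit false
set_option linter.unusedSectionVars false

open Cfsg Finset

namespace H22.SD

universe u

variable {G : Type u} [Group G] [Fintype G] {M : Ideal AlgInt} [hMp : M.IsPrime]
  [CharP (H20.k M) 2] [IsAlgClosed (H20.k M)] {B : Set (IrrCharacter G)}

/-- A semidihedral defect group of order `2 ^ n` gives the data. -/
theorem exists_semi (hM : IsPModular 2 M) (hB : IsPBlock M B) {D : Subgroup G}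
    (hD : IsDefectGroup 2 M B D) {n : ℕ} (hcard : Nat.card D = 2 ^ n) (hsd : IsQuasiDihedral D) :
    4 ≤ n ∧ ∃ (f0 : MonoidAlgebra (H20.k M) G) (r s : G), Semi M B D f0 r s (n - 2) := by
  classical
  obtain ⟨n', x, y, hq⟩ := H67.exists_QD hsd
  have hn' : n = n' + 1 := Nat.pow_right_injective le_rfl (hcard.symm.trans hq.card_eq)
  have h3 := hq.three_le
  obtain ⟨f0, hmax⟩ := exists_isMax_at hM hB hD
  have hyx : y ∉ Subgroup.zpowers x := by
    intro hy
    obtain ⟨k, hk⟩ := Subgroup.mem_zpowers_iff.1 hy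
    have hcomm : y * x * y⁻¹ = x := by
      rw [← hk, ← zpow_neg, ← zpow_one (x), ← zpow_mul, ← zpow_mul, ← zpow_add, ← zpow_add]
      congr 1
      ring
    rw [hq.rel] at hcomm
    have h8 : 8 ≤ 2 ^ n' := le_of_eq_of_le (by norm_num) (Nat.pow_le_pow_right two_pos h3)
    have h4 : 2 * 2 ^ (n' - 1) = 2 ^ n' := by rw [← pow_succ', Nat.sub_add_cancel (by omega)]
    obtain ⟨t, ht⟩ : orderOf x ∣ 2 ^ (n' - 1) - 2 := by
      rw [orderOf_dvd_iff_pow_eq_one]
      refine mul_right_cancel (b := x) ?_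
      rw [← pow_succ, show 2 ^ (n' - 1) - 2 + 1 = 2 ^ (n' - 1) - 1 by omega, hcomm, one_mul]
    rw [hq.ordx] at ht
    rcases t with _ | t
    · omega
    · have : 2 ^ n' ≤ 2 ^ n' * (t + 1) := Nat.le_mul_of_pos_right _ (Nat.succ_pos t)
      omega
  refine ⟨by omega, f0, (x : G), (y : G), ⟨hM, hB, hmax, by omega, ?_, x.2, y.2, ?_, ?_, ?_, ?_⟩⟩
  · rw [Subgroup.orderOf_coe, hq.ordx]
    congr 1
    omega
  · exact congrArg Subtype.val hq.y_mul_y
  · intro hy
    obtain ⟨k, hk⟩ := Subgroup.mem_zpowers_iff.1 hy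
    exact hyx (Subgroup.mem_zpowers_iff.2 ⟨k, Subtype.ext (by rw [Subgroup.coe_zpow]; exact hk)⟩)
  · have e := congrArg Subtype.val hq.rel
    rw [show n - 2 = n' - 1 by omega]
    simpa using e
  · intro d hd
    have hidx : (Subgroup.zpowers x).index = 2 := by
      have h1 := Subgroup.card_mul_index (Subgroup.zpowers x)
      rw [Nat.card_zpowers, hq.ordx, hq.card_eq, pow_succ] at h1
      exact Nat.eq_of_mul_eq_mul_left (by positivity) h1
    have hcoe : ∀ u : D, u ∈ Subgroup.zpowers x → (u : G) ∈ Subgroup.zpowers (x : G) := by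
      intro u hu
      obtain ⟨k, rfl⟩ := Subgroup.mem_zpowers_iff.1 hu
      exact Subgroup.mem_zpowers_iff.2 ⟨k, (Subgroup.coe_zpow _ _ _).symm⟩
    by_cases hdx : (⟨d, hd⟩ : D) ∈ Subgroup.zpowers x
    · exact Or.inl (hcoe _ hdx)
    · exact Or.inr (hcoe (y * ⟨d, hd⟩)
        ((Subgroup.mul_mem_iff_of_index_two hidx).2 ⟨fun h => absurd h hyx, fun h => absurd h hdx⟩))

end H22.SD
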