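import Mathlib

/-!
# Arithmetic behind the blocks with semidihedral defect group

Families of orthogonal projections, and the variance of an integer function on a finite set.
-/

set_option autoImplicit false
set_option linter.unusedSectionVars false

open Finset
open scoped ComplexConjugate

namespace H22.SD

/-! ### Orthogonal projections -/

variable {ι κ : Type*}

open Classical in
/-- The complement of a family of projections. -/
noncomputable def resid [Fintype ι] (P : ι → κ → κ → ℂ) (a b : κ) : ℂ :=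
  (if a = b then 1 else 0) - ∑ i, P i a b

section

variable [Fintype ι] [DecidableEq ι] (s : Finset κ) (P : ι → κ → κ → ℂ)
  (hsym : ∀ i a b, conj (P i a b) = P i b a)
  (hmul : ∀ i j, ∀ a ∈ s, ∀ c ∈ s, ∑ b ∈ s, P i a b * P j b c = if i = j then P i a c else 0)

include hsym in
theorem conj_resid (a b : κ) : conj (resid P a b) = resid P b a := by
  classical
  simp only [resid, map_sub, map_sum, hsym]
  congr 1
  by_cases h : a = b
  · subst h; simp
  · rw [if_neg h, if_neg (Ne.symm h), map_zero]

include hmul in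
theorem resid_mul {a c : κ} (ha : a ∈ s) (hc : c ∈ s) :
    ∑ b ∈ s, resid P a b * resid P b c = resid P a c := by
  classical
  have h1 : ∀ b, resid P a b * resid P b c =
      (if a = b then resid P b c else 0) - (∑ i, P i a b) * (if b = c then 1 else 0) +
        ∑ i, ∑ j, P i a b * P j b c := by
    intro b
    simp only [resid]
    rw [← Finset.sum_mul_sum]
    by_cases h : a = b
    · rw [if_pos h, if_pos h]; ring
    · rw [if_neg h, if_neg h]; ring
  have h2 : ∑ b ∈ s, ∑ i, ∑ j, P i a b * P j b c = ∑ i, P i a c := by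
    rw [Finset.sum_comm]
    refine sum_congr rfl fun i _ => ?_
    rw [Finset.sum_comm, sum_congr rfl fun j _ => hmul i j a ha c hc, sum_ite_eq,
      if_pos (mem_univ i)]
  rw [sum_congr rfl fun b _ => h1 b, sum_add_distrib, sum_sub_distrib, sum_ite_eq, if_pos ha, h2]
  simp [hc]

include hsym hmul in
theorem resid_diag {a : κ} (ha : a ∈ s) :
    (resid P a a).re = ∑ b ∈ s, Complex.normSq (resid P a b) := by
  conv_lhs => rw [← resid_mul s P hmul ha ha]
  rw [Complex.re_sum]
  refine sum_congr rfl fun b _ => ?_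
  rw [← conj_resid P hsym a b, Complex.mul_conj, Complex.ofReal_re]

include hsym hmul in
/-- The diagonals add up to at most one. -/
theorem sum_diag_le_one {a : κ} (ha : a ∈ s) : ∑ i, (P i a a).re ≤ 1 := by
  have h := resid_diag s P hsym hmul ha
  have h2 : (resid P a a).re = 1 - ∑ i, (P i a a).re := by simp [resid]
  have h3 : 0 ≤ ∑ b ∈ s, Complex.normSq (resid P a b) :=
    sum_nonneg fun b _ => Complex.normSq_nonneg _
  linarith

include hsym hmul in
/-- Hence the traces add up to at most the size. -/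
theorem sum_trace_le : ∑ i, ∑ a ∈ s, (P i a a).re ≤ (s.card : ℝ) := by
  rw [Finset.sum_comm]
  calc ∑ a ∈ s, ∑ i, (P i a a).re ≤ ∑ _a ∈ s, (1 : ℝ) :=
        sum_le_sum fun a ha => sum_diag_le_one s P hsym hmul ha
    _ = _ := by simp

omit [DecidableEq ι] in
/-- A vanishing complement is a resolution of the identity. -/
theorem sum_eq_of_resid [DecidableEq κ] {a b : κ} (h : resid P a b = 0) :
    ∑ i, P i a b = if a = b then 1 else 0 := by
  classical
  rw [resid, sub_eq_zero] at h
  rw [← h]
  congr!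

end

/-! ### The variance of an integer function -/

/-- `|s|` times the sum of squares, less the square of the sum. -/
def vr {α : Type*} (s : Finset α) (v : α → ℤ) : ℤ :=
  (s.card : ℤ) * ∑ i ∈ s, v i ^ 2 - (∑ i ∈ s, v i) ^ 2

theorem vr_shift {α : Type*} (s : Finset α) (v : α → ℤ) (c : ℤ) :
    vr s (fun i => v i - c) = vr s v := by
  simp only [vr, sub_sq, sum_add_distrib, sum_sub_distrib, sum_const, nsmul_eq_mul, ← mul_sum,
    ← sum_mul]
  ring

/-- Constant, one deviation, or large. -/
theorem vr_cases {α : Type*} [DecidableEq α] (s : Finset α) (v : α → ℤ) (hs : 4 ≤ s.card) :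
    (vr s v = 0 ∧ ∃ c, ∀ i ∈ s, v i = c) ∨
      (vr s v = (s.card : ℤ) - 1 ∧ ∃ (c e : ℤ) (j : α), j ∈ s ∧ e ^ 2 = 1 ∧
        ∀ i ∈ s, v i = c + if i = j then e else 0) ∨
      2 * (s.card : ℤ) - 4 ≤ vr s v := by
  set q : ℤ := (s.card : ℤ) with hq
  have hq4 : 4 ≤ q := by rw [hq]; exact_mod_cast hs
  set S := ∑ i ∈ s, v i with hS
  obtain ⟨c, hc1, hc2⟩ : ∃ c : ℤ, -q ≤ 2 * (S - q * c) ∧ 2 * (S - q * c) ≤ q := by
    refine ⟨(2 * S + q) / (2 * q), ?_, ?_⟩
    · have := Int.ediv_mul_le (2 * S + q) (show 2 * q ≠ 0 by omega)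
      nlinarith
    · have := Int.lt_ediv_add_one_mul_self (2 * S + q) (show 0 < 2 * q by omega)
      nlinarith
  set w : α → ℤ := fun i => v i - c with hw
  have hvw : vr s v = vr s w := (vr_shift s v c).symm
  set T := ∑ i ∈ s, w i ^ 2 with hT
  set R := ∑ i ∈ s, w i with hR
  have hRS : R = S - q * c := by
    rw [hR, hS, hq, hw, sum_sub_distrib, sum_const, nsmul_eq_mul]
  have hTR : |R| ≤ T := (abs_sum_le_sum_abs _ _).trans (sum_le_sum fun i _ => by
    rcases eq_or_ne (w i) 0 with h | h
    · simp [h]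
    · nlinarith [Int.one_le_abs h, sq_abs (w i)])
  have hpar : (2 : ℤ) ∣ T - R := by
    rw [hT, hR, ← sum_sub_distrib]
    exact dvd_sum fun i _ => by
      rw [show w i ^ 2 - w i = (w i - 1) * w i by ring]
      have := (Int.even_mul_succ_self (w i - 1)).two_dvd
      simpa using this
  have hval : vr s v = q * T - R ^ 2 := hvw
  have hR2 : 2 * |R| ≤ q := by rw [← abs_two, ← abs_mul, abs_le, hRS]; exact ⟨hc1, hc2⟩
  have hzero : ∀ i ∈ s, T = 0 → w i = 0 := fun i hi h0 =>
    pow_eq_zero_iff two_ne_zero |>.1 ((sum_eq_zero_iff_of_nonneg fun j _ => sq_nonneg (w j)).1 h0 i hi)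
  have habs : 0 ≤ |R| := abs_nonneg R
  have hsq := sq_abs R
  obtain ⟨k, hk⟩ := hpar
  by_cases h0 : |R| = 0
  · have hR0 : R = 0 := abs_eq_zero.1 h0
    by_cases hT0 : T = 0
    · refine Or.inl ⟨by rw [hval, hT0, hR0]; ring, c, fun i hi => ?_⟩
      have := hzero i hi hT0
      simp only [hw] at this
      linarith
    · refine Or.inr (Or.inr ?_)
      rw [hval, hR0]
      have : 2 ≤ T := by omega
      nlinarith
  by_cases h1 : |R| = 1
  · by_cases hT1 : T = 1
    · obtain ⟨j, hj, hj0⟩ : ∃ j ∈ s, w j ≠ 0 := by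
        by_contra hall
        push Not at hall
        rw [hT, sum_eq_zero fun i hi => by rw [hall i hi]; ring] at hT1
        exact zero_ne_one hT1
      have h2 := add_sum_erase s (fun i => w i ^ 2) hj
      simp only [← hT, hT1] at h2
      have h3 : 1 ≤ w j ^ 2 := by nlinarith [Int.one_le_abs hj0, sq_abs (w j)]
      have h4 : 0 ≤ ∑ i ∈ s.erase j, w i ^ 2 := sum_nonneg fun i _ => sq_nonneg _
      refine Or.inr (Or.inl ⟨by rw [hval, hT1, ← hsq, h1]; ring, c, w j, j, hj, by linarith,
        fun i hi => ?_⟩)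
      by_cases hij : i = j
      · subst hij; rw [if_pos rfl, hw]; ring
      · have h5 := (sum_eq_zero_iff_of_nonneg fun k _ => sq_nonneg (w k)).1
          (show ∑ k ∈ s.erase j, w k ^ 2 = 0 by linarith) i (mem_erase.2 ⟨hij, hi⟩)
        have h6 : v i - c = 0 := pow_eq_zero_iff two_ne_zero |>.1 h5
        rw [if_neg hij]
        linarith
    · refine Or.inr (Or.inr ?_)
      rw [hval, ← hsq, h1]
      have : 3 ≤ T := by
        rcases abs_eq (zero_le_one (α := ℤ)) |>.1 h1 with h | h <;> omega
      nlinarith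
  refine Or.inr (Or.inr ?_)
  rw [hval, ← hsq]
  have h2 : 2 ≤ |R| := by omega
  nlinarith

/-- The excluded value in the smallest case. -/
theorem vr_ne_five {α : Type*} (s : Finset α) (v : α → ℤ) (hs : s.card = 4) : vr s v ≠ 5 := by
  intro h
  rw [vr, hs] at h
  push_cast at h
  have h2 : ((∑ i ∈ s, v i) ^ 2) % 4 = 3 := by omega
  rcases Int.even_or_odd (∑ i ∈ s, v i) with ⟨k, hk⟩ | ⟨k, hk⟩ <;> rw [hk] at h2 <;>
    ring_nf at h2 <;> omega

end H22.SD
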