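import Cfsg.Agent.H23.PPower
import Cfsg.Agent.H23.DefectPair
import Cfsg.Agent.H17.MajorPairs
import Cfsg.Agent.H23.LocalBlock

/-!
# Pairs seen inside a subgroup containing their centralisers
-/

set_option autoImplicit false
set_option linter.unusedSectionVars false
set_option linter.style.haveILetI false

open Cfsg
open scoped MonoidAlgebra

namespace H22.SD

universe u

variable {G : Type u} [Group G] [Fintype G] {M : Ideal AlgInt} [M.IsPrime] {p : ℕ} [Fact p.Prime]
  [CharP (H20.k M) p] [IsAlgClosed (H20.k M)] {C : Subgroup G} [Fintype C]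

theorem isPair_res {Q : Subgroup G} {f : (H20.k M)[G]} (h : H23.IsPair p Q f) (hQ : Q ≤ C)
    (hc : Subgroup.centralizer (Q : Set G) ≤ C) :
    H23.IsPair p (Q.subgroupOf C) (H23.res C f) := by
  refine ⟨h.1.comap_of_injective _ Subtype.val_injective, ?_⟩
  rw [H23.centralizer_subgroupOf hQ]
  exact H23.isBlk_res hc h.2

theorem isFix_res {Q : Subgroup G} {a : (H20.k M)[G]} (h : H23.IsFix Q a) :
    H23.IsFix (Q.subgroupOf C) (H23.res C a) := fun x hx c => by
  rw [H23.coeff_res, H23.coeff_res]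
  exact h _ (Subgroup.mem_subgroupOf.1 hx) c

theorem cj_res (g : C) (a : (H20.k M)[G]) :
    H23.res C (H23.cj (g : G) a) = H23.cj g (H23.res C a) := by
  ext c
  rw [H23.coeff_res, H23.coeff_cj, H23.coeff_cj, H23.coeff_res]
  rfl

theorem inBlk_res {Q : Subgroup G} {f E : (H20.k M)[G]} (hQ : Q ≤ C) (hf : H23.Supp C f)
    (hc : Subgroup.centralizer (Q : Set G) ≤ C) (h : H23.InBlk E Q f) :
    H23.InBlk (H23.res C E) (Q.subgroupOf C) (H23.res C f) := by
  show _ * _ = _
  rw [H23.res_Br hQ, ← H23.res_mul hf ((H23.supp_Br Q E).mono hc),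
    show f * H23.Br Q E = f from h]

/-- Inclusions of pairs restrict. -/
theorem le_res {Q R : Subgroup G} {f e : (H20.k M)[G]} (h : H23.Le p (Q, f) (R, e)) (hR : R ≤ C)
    (hc : Subgroup.centralizer (Q : Set G) ≤ C) :
    H23.Le p (Q.subgroupOf C, H23.res C f) (R.subgroupOf C, H23.res C e) := by
  suffices hh : ∀ b : Subgroup G × (H20.k M)[G], H23.Le p (Q, f) b → b.1 ≤ C →
      H23.Le p (Q.subgroupOf C, H23.res C f) (b.1.subgroupOf C, H23.res C b.2) from hh _ h hR
  intro b hb
  induction hb with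
  | refl => exact fun _ => Relation.ReflTransGen.refl
  | @tail a b h1 h2 ih =>
    intro hbC
    have haC : a.1 ≤ C := h2.le.trans hbC
    have hQa : Q ≤ a.1 := (show H23.Le p (Q, f) a from h1).le p
    have hca : Subgroup.centralizer (a.1 : Set G) ≤ C :=
      (Subgroup.centralizer_le (SetLike.coe_subset_coe.2 hQa)).trans hc
    have hcb : Subgroup.centralizer (b.1 : Set G) ≤ C :=
      (Subgroup.centralizer_le (SetLike.coe_subset_coe.2 h2.le)).trans hca
    refine (ih haC).tail ⟨isPair_res h2.fst haC hca, isPair_res h2.snd hbC hcb,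
      fun x hx => h2.le hx, fun x hx => ?_, isFix_res h2.fix, ?_⟩
    · rw [Subgroup.mem_normalizer_iff]
      intro y
      exact Subgroup.mem_normalizer_iff.1 (h2.norm hx) (y : G)
    · show _ * _ = _
      rw [H23.res_Br hbC, ← H23.res_mul (h2.snd.2.cidem.supp.mono hcb)
        ((H23.supp_Br _ _).mono hcb), h2.mul]

/-- The maximal pair of a subsection block, seen in the centraliser. -/
theorem isMax_res (hM : IsPModular p M) {B : Set (IrrCharacter G)} (hB : IsPBlock M B)
    {D : Subgroup G} {f0 : (H20.k M)[G]} (hmax : H23.IsMax p (H23.eB M B) D f0) {Q : Subgroup G}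
    (hT : Subgroup.centralizer (Q : Set G) = C) {b : Set (IrrCharacter C)} (hb : IsPBlock M b)
    (hle : H23.Le p (Q, H23.eG M C b) (D, f0)) (hDC : D ≤ C) :
    H23.IsMax p (H23.eB M b) (D.subgroupOf C) (H23.res C f0) := by
  have hf := hle.pair_left p hmax.1
  have hQD := hle.le p
  have hl : H23.LocMax p Q (H23.eG M C b) C D f0 := by
    have hm' := H17.Major.maxIn_of_max hB hmax hle (hDC.trans hT.ge)
    rw [hT] at hm'
    exact ⟨hf, hQD.trans hDC, hT.le, hT.ge.trans (H23.centralizer_le_stab p hf), hm', hle⟩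
  have hDdef := H23.isDefectGroup_locMax hM hl hb rfl
  have hc : Subgroup.centralizer (D : Set G) ≤ C :=
    (Subgroup.centralizer_le (SetLike.coe_subset_coe.2 hQD)).trans hT.le
  have hp := isPair_res hmax.1 hDC hc
  have hin : H23.InBlk (H23.eB M b) (D.subgroupOf C) (H23.res C f0) := by
    have h1 := inBlk_res hDC (hmax.1.2.cidem.supp.mono hc) hc hl.max.2.2.1
    rwa [H23.res_eG] at h1
  refine ⟨hp, hin, fun R g hg hgin hle' => ?_⟩
  have hblk := H23.isBlk_eB (M := M) hb
  obtain ⟨R', g', hR'⟩ := H23.exists_max p hblk.cidem hg hgin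
  refine (Subgroup.eq_of_le_of_card_ge (hle'.le p) ?_).symm
  calc Nat.card R ≤ Nat.card R' := Subgroup.card_le_of_le (hR'.2.le p)
    _ = Nat.card (D.subgroupOf C) := by
        rw [H20.card_defectGroup hM hb (H23.isDefectGroup_of_isMax hb hR'.1),
          H20.card_defectGroup hM hb hDdef]

end H22.SD
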