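import Cfsg.Agent.H22.SD.Major
import Cfsg.Agent.H22.SD.PairRes

/-!
# A 2-block with semidihedral defect group seen in the centralizer of the central involution
-/

set_option autoImplicit false
set_option linter.unusedSectionVars false
set_option linter.style.haveILetI false
set_option maxHeartbeats 800000

open Cfsg Finset
open scoped MonoidAlgebra ComplexConjugate

namespace H22.SD

universe u

variable {G : Type u} [Group G] [Fintype G] {M : Ideal AlgInt} [hMp : M.IsPrime]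
  [CharP (H20.k M) 2] [IsAlgClosed (H20.k M)]
  {B : Set (IrrCharacter G)} {D : Subgroup G} {f0 : (H20.k M)[G]} {r s : G} {a : ℕ}

local notation "C[" x "]" => (Subgroup.centralizer ({x} : Set _))

theorem zpowers_subgroupOf {C : Subgroup G} (x : C) :
    (Subgroup.zpowers (x : G)).subgroupOf C = Subgroup.zpowers x := by
  ext y
  rw [Subgroup.mem_subgroupOf, Subgroup.mem_zpowers_iff, Subgroup.mem_zpowers_iff]
  simp [Subtype.ext_iff]

theorem Semi.mem_centre (h : Semi M B D f0 r s a) {d : G} (hd : d ∈ D) :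
    d ∈ C[r ^ 2 ^ a] :=
  Subgroup.mem_centralizer_singleton_iff.2 (h.z_central hd)

/-- **The block at the central involution.** -/
theorem Semi.exists_centre (h : Semi M B D f0 r s a) [Fintype C[r ^ 2 ^ a]] :
    ∃ bz : Set (IrrCharacter C[r ^ 2 ^ a]), IsPBlock M bz ∧
      H23.eG M C[r ^ 2 ^ a] bz = bl M D f0 (r ^ 2 ^ a) ∧
      ∃ (rC sC : C[r ^ 2 ^ a]) (fC : (H20.k M)[↥C[r ^ 2 ^ a]]), (rC : G) = r ∧ (sC : G) = s ∧
        Semi M bz (D.subgroupOf C[r ^ 2 ^ a]) fC rC sC a ∧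
        (Out M (D.subgroupOf C[r ^ 2 ^ a]) fC rC (sC * rC) ↔ Out M D f0 r (s * r)) := by
  classical
  haveI : Fact (Nat.Prime 2) := ⟨Nat.prime_two⟩
  have hzD : (r ^ 2 ^ a) ∈ D := pow_mem h.rD _
  have hDC : D ≤ C[r ^ 2 ^ a] := fun d hd => h.mem_centre hd
  obtain ⟨bz, hbz, hbe⟩ := H20.Klein.exists_block (h.bl_pair hzD)
  have hmax := isMax_res h.hM h.hB h.hmax
    (H17.Major.centralizer_zpowers_eq (r ^ 2 ^ a)) hbz (by rw [hbe]; exact h.bl_le hzD) hDC
  set rC : C[r ^ 2 ^ a] := ⟨r, hDC h.rD⟩ with hrC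
  set sC : C[r ^ 2 ^ a] := ⟨s, hDC h.sD⟩ with hsC
  have hmr : ∀ x : C[r ^ 2 ^ a], x ∈ Subgroup.zpowers rC ↔ (x : G) ∈ Subgroup.zpowers r := fun x => by
    rw [← zpowers_subgroupOf rC, Subgroup.mem_subgroupOf]
  have hS : Semi M bz (D.subgroupOf C[r ^ 2 ^ a]) (H23.res C[r ^ 2 ^ a] f0) rC sC a := by
    refine ⟨h.hM, hbz, hmax, h.ha, by rw [← Subgroup.orderOf_coe]; exact h.hord,
      Subgroup.mem_subgroupOf.2 h.rD, Subgroup.mem_subgroupOf.2 h.sD, Subtype.ext h.s2,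
      fun e => h.snot ((hmr sC).1 e), Subtype.ext (by simpa [hrC, hsC] using h.sr), fun d hd => ?_⟩
    exact (h.cover d (Subgroup.mem_subgroupOf.1 hd)).imp (hmr d).2 (hmr (sC * d)).2
  refine ⟨bz, hbz, hbe, rC, sC, H23.res C[r ^ 2 ^ a] f0, rfl, rfl, hS, ?_⟩
  -- the blocks agree at elements whose centralizer is inside
  have hblC : ∀ x : C[r ^ 2 ^ a], (x : G) ∈ D → C[(x : G)] ≤ C[r ^ 2 ^ a] →
      bl M (D.subgroupOf C[r ^ 2 ^ a]) (H23.res C[r ^ 2 ^ a] f0) x = H23.res C[r ^ 2 ^ a] (bl M D f0 x) := by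
    intro x hx hc
    apply hS.bl_eq
    rw [← zpowers_subgroupOf]
    exact le_res (h.bl_le hx) hDC (by rwa [H23.centralizer_zpowers])
  have hle : ∀ x : G, x * x = (r ^ 2 ^ a) → C[x] ≤ C[r ^ 2 ^ a] := fun x hx g hg => by
    rw [Subgroup.mem_centralizer_singleton_iff] at hg ⊢
    rw [← hx, ← mul_assoc, hg, mul_assoc, hg, mul_assoc]
  have htD : s * r ∈ D := mul_mem h.sD h.rD
  have htC : ((sC * rC : C[r ^ 2 ^ a]) : G) = s * r := rfl
  constructor
  · intro hout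
    refine ⟨htD, fun v hv hf => ?_⟩
    obtain ⟨g, hg, hgb⟩ := hf
    have hv2 : v * v = g * (r ^ 2 ^ a) * g⁻¹ := by rw [← hg, ← h.sr_sq]; group
    have hvz : v * v = (r ^ 2 ^ a) := by
      refine (h.sq_eq_one_cases (mul_mem hv hv) (by
        rw [hv2]
        calc g * (r ^ 2 ^ a) * g⁻¹ * (g * (r ^ 2 ^ a) * g⁻¹) = g * ((r ^ 2 ^ a) * (r ^ 2 ^ a)) * g⁻¹ := by group
          _ = 1 := by rw [h.z_sq]; group)).resolve_left fun e => h.z_ne_one ?_
      rw [e] at hv2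
      exact conj_eq_one_iff.1 hv2.symm
    have hgC : g ∈ C[r ^ 2 ^ a] := by
      rw [Subgroup.mem_centralizer_singleton_iff]
      rw [hvz] at hv2
      exact (eq_mul_inv_iff_mul_eq.1 hv2).symm
    have hvC : v ∈ C[r ^ 2 ^ a] := hDC (h.zpowers_le hv)
    refine hout.2 ⟨v, hvC⟩ ((hmr _).2 hv) ⟨⟨g, hgC⟩, Subtype.ext hg, ?_⟩
    rw [hblC _ htD (htC.symm ▸ hle _ h.sr_sq), hblC ⟨v, hvC⟩ (h.zpowers_le hv) (hle _ hvz), ← cj_res,
      htC]
    exact congrArg _ hgb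
  · intro hout
    refine ⟨Subgroup.mem_subgroupOf.2 htD, fun v hv hf => ?_⟩
    obtain ⟨g, hg, hgb⟩ := hf
    have hv' := (hmr v).1 hv
    have hg' : (g : G) * (s * r) * (g : G)⁻¹ = v := congrArg Subtype.val hg
    have hvz : (v : G) * v = (r ^ 2 ^ a) := by
      rw [← hg']
      calc (g : G) * (s * r) * (g : G)⁻¹ * ((g : G) * (s * r) * (g : G)⁻¹) =
            (g : G) * (s * r * (s * r)) * (g : G)⁻¹ := by group
        _ = (r ^ 2 ^ a) := by rw [h.sr_sq, Subgroup.mem_centralizer_singleton_iff.1 g.2, mul_inv_cancel_right]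
    refine hout.2 v hv' ⟨g, hg', ?_⟩
    rw [hblC _ htD (htC.symm ▸ hle _ h.sr_sq), hblC v (h.zpowers_le hv') (hle _ hvz), ← cj_res,
      htC] at hgb
    have hsupp : ∀ x ∈ D, C[x] ≤ C[r ^ 2 ^ a] → H23.Supp C[r ^ 2 ^ a] (bl M D f0 x) := fun x hx hc =>
      (h.bl_pair hx).2.cidem.supp.mono (by rwa [H23.centralizer_zpowers])
    have h1 : H23.Supp C[r ^ 2 ^ a] (H23.cj (g : G) (bl M D f0 (s * r))) := by
      intro y hy
      rw [H23.coeff_cj]
      refine hsupp _ htD (hle _ h.sr_sq) _ fun h2 => hy ?_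
      have h3 := mul_mem (mul_mem g.2 h2) (inv_mem g.2)
      simpa [mul_assoc] using h3
    rw [← H23.emb_res h1, ← H23.emb_res (hsupp _ (h.zpowers_le hv') (hle _ hvz)), hgb]

end H22.SD
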