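import Cfsg.Agent.H22.SD.Arith

/-!
# Fourier sums over a cyclic group of order `2 q`, away from the elements of order at most two
-/

set_option autoImplicit false
set_option linter.unusedSectionVars false

open Finset
open scoped ComplexConjugate

namespace H22.SD

variable {q : ℕ}

/-- The exponents of one parity. -/
def par (q b : ℕ) : Finset ℕ := (range (2 * q)).filter fun l => l % 2 = b

/-- The exponents other than `0` and `q`. -/
def offs (q : ℕ) : Finset ℕ := (range (2 * q)).filter fun i => i ≠ 0 ∧ i ≠ q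

/-- The Fourier sum. -/
noncomputable def four (q : ℕ) (ζ : ℂ) (v : ℕ → ℤ) (i : ℕ) : ℂ :=
  ∑ l ∈ range (2 * q), (v l : ℂ) * ζ ^ (i * l)

theorem mem_par {b l : ℕ} : l ∈ par q b ↔ l < 2 * q ∧ l % 2 = b := by simp [par]

theorem mem_offs {i : ℕ} : i ∈ offs q ↔ i < 2 * q ∧ i ≠ 0 ∧ i ≠ q := by simp [offs]

theorem card_par {b : ℕ} (hb : b < 2) : (par q b).card = q := by
  have h : par q b = (range q).image fun t => 2 * t + b := by
    ext l
    simp only [mem_par, mem_image, mem_range]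
    exact ⟨fun h => ⟨l / 2, by omega, by omega⟩, by rintro ⟨t, ht, rfl⟩; omega⟩
  rw [h, card_image_of_injective _ fun a c h => by simpa using h, card_range]

theorem sum_range_par {β : Type*} [AddCommMonoid β] (f : ℕ → β) :
    ∑ l ∈ range (2 * q), f l = ∑ l ∈ par q 0, f l + ∑ l ∈ par q 1, f l := by
  rw [← sum_filter_add_sum_filter_not (range (2 * q)) (fun l => l % 2 = 0)]
  congr 2
  ext l
  simp [par]

theorem offs_eq : offs q = ((range (2 * q)).erase 0).erase q := by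
  ext i
  simp only [mem_offs, mem_erase, mem_range]
  tauto

theorem sum_offs {β : Type*} [AddCommGroup β] (hq : 0 < q) (f : ℕ → β) :
    ∑ i ∈ offs q, f i = ∑ i ∈ range (2 * q), f i - f 0 - f q := by
  rw [offs_eq, sum_erase_eq_sub (mem_erase.2 ⟨hq.ne', mem_range.2 (by omega)⟩),
    sum_erase_eq_sub (mem_range.2 (by omega))]

theorem card_offs (hq : 0 < q) : ((offs q).card : ℤ) = 2 * (q : ℤ) - 2 := by
  have := sum_offs hq fun _ => (1 : ℤ)
  simp only [sum_const, card_range, nsmul_eq_mul, mul_one] at this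
  push_cast at this
  omega

theorem pow_half {ζ : ℂ} (hζ : IsPrimitiveRoot ζ (2 * q)) (hq : 0 < q) : ζ ^ q = -1 :=
  (hζ.pow (by omega) (mul_comm 2 q)).eq_neg_one_of_two_right

theorem pow_q_mul {ζ : ℂ} (hζ : IsPrimitiveRoot ζ (2 * q)) (hq : 0 < q) (l : ℕ) :
    ζ ^ (q * l) = if l % 2 = 0 then 1 else -1 := by
  rw [pow_mul, pow_half hζ hq]
  rcases Nat.mod_two_eq_zero_or_one l with h | h <;> rw [h]
  · rw [if_pos rfl, (Nat.even_iff.2 h).neg_one_pow]
  · rw [if_neg one_ne_zero, (Nat.odd_iff.2 h).neg_one_pow]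

/-- Orthogonality of the powers. -/
theorem sum_pow_mul_conj {ζ : ℂ} (hζ : IsPrimitiveRoot ζ (2 * q)) (hq : 0 < q) {l l' : ℕ}
    (hl : l < 2 * q) (hl' : l' < 2 * q) :
    ∑ i ∈ range (2 * q), ζ ^ (i * l) * conj (ζ ^ (i * l')) =
      if l = l' then ((2 * q : ℕ) : ℂ) else 0 := by
  have hn : ‖ζ‖ = 1 := hζ.norm'_eq_one (by omega)
  have hc : ∀ j, ζ ^ j * conj (ζ ^ j) = 1 := fun j => by
    rw [Complex.mul_conj, Complex.normSq_eq_norm_sq, norm_pow, hn]; simp
  by_cases h : l = l'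
  · subst h
    rw [if_pos rfl, sum_congr rfl fun i _ => hc (i * l), sum_const, card_range, nsmul_eq_mul,
      mul_one]
  rw [if_neg h]
  set w := ζ ^ l * conj (ζ ^ l') with hw
  have hw1 : w ≠ 1 := by
    intro h1
    apply h
    refine hζ.pow_inj hl hl' ?_
    calc ζ ^ l = w * ζ ^ l' := by rw [hw, mul_assoc, mul_comm (conj _), hc, mul_one]
      _ = ζ ^ l' := by rw [h1, one_mul]
  have hwN : w ^ (2 * q) = 1 := by
    rw [hw, mul_pow, ← map_pow, pow_right_comm ζ l, pow_right_comm ζ l', hζ.pow_eq_one]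
    simp
  rw [sum_congr rfl fun i _ => show ζ ^ (i * l) * conj (ζ ^ (i * l')) = w ^ i by
    rw [hw, mul_pow, ← map_pow, ← pow_mul, ← pow_mul, mul_comm i l, mul_comm i l'],
    geom_sum_eq hw1, hwN, sub_self, zero_div]

/-- Parseval away from `0` and `q`. -/
theorem sum_offs_four {ζ : ℂ} (hζ : IsPrimitiveRoot ζ (2 * q)) (hq : 0 < q) (v : ℕ → ℤ) :
    ∑ i ∈ offs q, four q ζ v i * conj (four q ζ v i) =
      2 * ((vr (par q 0) v + vr (par q 1) v : ℤ) : ℂ) := by
  have hall : ∑ i ∈ range (2 * q), four q ζ v i * conj (four q ζ v i) =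
      ((2 * q : ℕ) : ℂ) * ∑ l ∈ range (2 * q), (v l : ℂ) ^ 2 := by
    simp only [four, map_sum, sum_mul, mul_sum]
    rw [sum_comm]
    refine sum_congr rfl fun l hl => ?_
    rw [sum_comm, sum_congr rfl fun l' hl' => show ∑ i ∈ range (2 * q),
        (v l' : ℂ) * ζ ^ (i * l') * conj ((v l : ℂ) * ζ ^ (i * l)) =
        (v l' : ℂ) * (v l : ℂ) * if l' = l then ((2 * q : ℕ) : ℂ) else 0 by
      rw [← sum_pow_mul_conj hζ hq (mem_range.1 hl') (mem_range.1 hl), mul_sum]
      exact sum_congr rfl fun i _ => by rw [map_mul, map_intCast]; ring]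
    simp only [mul_ite, mul_zero]
    rw [sum_ite_eq', if_pos hl]
    ring
  have h0 : four q ζ v 0 = ((∑ l ∈ par q 0, v l + ∑ l ∈ par q 1, v l : ℤ) : ℂ) := by
    rw [← sum_range_par, four]
    push_cast
    exact sum_congr rfl fun l _ => by simp
  have hqv : four q ζ v q = ((∑ l ∈ par q 0, v l - ∑ l ∈ par q 1, v l : ℤ) : ℂ) := by
    rw [four, sum_range_par]
    push_cast
    rw [sum_congr rfl fun l hl => by rw [pow_q_mul hζ hq, if_pos (mem_par.1 hl).2, mul_one],
      sum_congr (s₁ := par q 1) rfl fun l hl => by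
        rw [pow_q_mul hζ hq, if_neg (by rw [(mem_par.1 hl).2]; omega), mul_neg_one],
      sum_neg_distrib]
    ring
  rw [sum_offs hq fun i => four q ζ v i * conj (four q ζ v i), hall, h0, hqv, map_intCast,
    map_intCast, sum_range_par fun l => (v l : ℂ) ^ 2, vr, vr, card_par (by omega),
    card_par (by omega)]
  push_cast
  ring

theorem sum_offs_pow {ζ : ℂ} (hζ : IsPrimitiveRoot ζ (2 * q)) (hq : 0 < q) {j j' : ℕ}
    (hj : j < 2 * q) (hj' : j' < 2 * q) (hpar : j % 2 = j' % 2) :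
    ∑ i ∈ offs q, ζ ^ (i * j) * conj (ζ ^ (i * j')) =
      if j = j' then ((2 * q : ℕ) : ℂ) - 2 else -2 := by
  rw [sum_offs hq fun i => ζ ^ (i * j) * conj (ζ ^ (i * j')), sum_pow_mul_conj hζ hq hj hj',
    zero_mul, zero_mul, pow_zero, map_one, pow_q_mul hζ hq, pow_q_mul hζ hq, hpar]
  by_cases h : j' % 2 = 0
  · rw [if_pos h, map_one]; split_ifs <;> ring
  · rw [if_neg h, map_neg, map_one]; split_ifs <;> ring

/-- Constant classes leave nothing, a single deviation leaves one power. -/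
theorem four_single {ζ : ℂ} (hζ : IsPrimitiveRoot ζ (2 * q)) (hq : 0 < q) (v : ℕ → ℤ) (c₀ c₁ e : ℤ)
    (j : ℕ) (hj : j < 2 * q)
    (hv : ∀ l < 2 * q, v l = (if l % 2 = 0 then c₀ else c₁) + if l = j then e else 0) {i : ℕ}
    (hi : i ∈ offs q) : four q ζ v i = (e : ℂ) * ζ ^ (i * j) := by
  obtain ⟨hi1, hi2, hi3⟩ := mem_offs.1 hi
  have hwne : ∀ k : ℕ, k = 0 ∨ k = q →
      ∑ l ∈ range (2 * q), ζ ^ (i * l) * conj (ζ ^ (k * l)) = 0 := by
    intro k hk
    rw [sum_congr rfl fun l _ => by rw [mul_comm i l, mul_comm k l],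
      sum_pow_mul_conj hζ hq hi1 (by rcases hk with rfl | rfl <;> omega),
      if_neg (by rcases hk with rfl | rfl <;> omega)]
  have h1 : ∑ l ∈ par q 0, ζ ^ (i * l) + ∑ l ∈ par q 1, ζ ^ (i * l) = 0 := by
    rw [← sum_range_par, ← hwne 0 (Or.inl rfl)]
    exact sum_congr rfl fun l _ => by simp
  have h2 : ∑ l ∈ par q 0, ζ ^ (i * l) - ∑ l ∈ par q 1, ζ ^ (i * l) = 0 := by
    rw [sub_eq_add_neg, ← sum_neg_distrib, ← hwne q (Or.inr rfl), sum_range_par]
    congr 1 <;> refine sum_congr rfl fun l hl => ?_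
    · rw [pow_q_mul hζ hq, if_pos (mem_par.1 hl).2, map_one, mul_one]
    · rw [pow_q_mul hζ hq, if_neg (by rw [(mem_par.1 hl).2]; omega), map_neg, map_one, mul_neg_one]
  have hp0 : ∑ l ∈ par q 0, ζ ^ (i * l) = 0 := by linear_combination (h1 + h2) / 2
  have hp1 : ∑ l ∈ par q 1, ζ ^ (i * l) = 0 := by linear_combination (h1 - h2) / 2
  rw [four, sum_congr rfl fun l hl => by rw [hv l (mem_range.1 hl), Int.cast_add, add_mul],
    sum_add_distrib, sum_range_par,
    sum_congr rfl fun l hl => by rw [if_pos (mem_par.1 hl).2], ← mul_sum, hp0,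
    sum_congr rfl fun l hl => by rw [if_neg (by rw [(mem_par.1 hl).2]; omega : ¬ l % 2 = 0)],
    ← mul_sum, hp1, sum_eq_single j (fun l _ hne => by rw [if_neg hne, Int.cast_zero, zero_mul])
      (fun h => absurd (mem_range.2 hj) h), if_pos rfl]
  ring

/-- The shape of a function whose total variance is below `3 q / 2`. -/
theorem shape {ζ : ℂ} (hζ : IsPrimitiveRoot ζ (2 * q)) (hq : 4 ≤ q) (hq' : q = 4 ∨ 8 ≤ q)
    (v : ℕ → ℤ)
    (hlt : 2 * (vr (par q 0) v + vr (par q 1) v) < 3 * (q : ℤ))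
    (hne : ∃ i ∈ offs q, four q ζ v i ≠ 0)
    (h5 : q = 4 → Odd (vr (par q 0) v + vr (par q 1) v)) :
    vr (par q 0) v + vr (par q 1) v = (q : ℤ) - 1 ∧ ∃ (e : ℤ) (j : ℕ), j < 2 * q ∧ e ^ 2 = 1 ∧
      ∀ i ∈ offs q, four q ζ v i = (e : ℂ) * ζ ^ (i * j) := by
  have hq0 : 0 < q := by omega
  have hc : ∀ b < 2, ((par q b).card : ℤ) = q := fun b hb => by rw [card_par hb]
  have hc0 := vr_cases (par q 0) v (by rw [card_par (by omega)]; omega)
  have hc1 := vr_cases (par q 1) v (by rw [card_par (by omega)]; omega)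
  rw [hc 0 (by omega)] at hc0
  rw [hc 1 (by omega)] at hc1
  have hbig : ∀ b < 2, 2 * vr (par q b) v < 3 * (q : ℤ) → 2 * (q : ℤ) - 4 ≤ vr (par q b) v →
      q = 4 ∧ (vr (par q b) v = 4 ∨ vr (par q b) v = 5) := by
    intro b _ h1 h2
    clear hc0 hc1 hne hlt h5 hc
    have : q < 8 := by omega
    constructor <;> omega
  have h5' : ∀ b < 2, q = 4 → vr (par q b) v ≠ 5 := fun b hb hq4 =>
    vr_ne_five _ _ (by rw [card_par hb, hq4])
  have hmem : ∀ l < 2 * q, l % 2 = 0 → l ∈ par q 0 := fun l hl h => mem_par.2 ⟨hl, h⟩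
  have hmem' : ∀ l < 2 * q, l % 2 = 1 → l ∈ par q 1 := fun l hl h => mem_par.2 ⟨hl, h⟩
  rcases hc0 with ⟨e0, c₀, hv0⟩ | ⟨e0, c₀, e, j, hj, he, hv0⟩ | e0 <;>
    rcases hc1 with ⟨e1, c₁, hv1⟩ | ⟨e1, c₁, e', j', hj', he', hv1⟩ | e1
  · obtain ⟨i, hi, hne⟩ := hne
    refine absurd ?_ hne
    rw [four_single hζ hq0 v c₀ c₁ 0 0 (by omega) (fun l hl => ?_) hi, Int.cast_zero, zero_mul]
    rcases Nat.mod_two_eq_zero_or_one l with h | h
    · rw [hv0 l (hmem l hl h), h]; simp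
    · rw [hv1 l (hmem' l hl h), h]; simp
  · refine ⟨by omega, e', j', (mem_par.1 hj').1, he', fun i hi => four_single hζ hq0 v c₀ c₁ e' j'
      (mem_par.1 hj').1 (fun l hl => ?_) hi⟩
    rcases Nat.mod_two_eq_zero_or_one l with h | h
    · rw [hv0 l (hmem l hl h), h, if_pos rfl, if_neg, add_zero]
      rintro rfl
      have := (mem_par.1 hj').2
      omega
    · rw [hv1 l (hmem' l hl h), h, if_neg one_ne_zero]
  · exfalso
    obtain ⟨hq4, h | h⟩ := hbig 1 (by omega) (by omega) e1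
    · obtain ⟨k, hk⟩ := h5 hq4; omega
    · exact h5' 1 (by omega) hq4 h
  · refine ⟨by omega, e, j, (mem_par.1 hj).1, he, fun i hi => four_single hζ hq0 v c₀ c₁ e j
      (mem_par.1 hj).1 (fun l hl => ?_) hi⟩
    rcases Nat.mod_two_eq_zero_or_one l with h | h
    · rw [hv0 l (hmem l hl h), h, if_pos rfl]
    · rw [hv1 l (hmem' l hl h), h, if_neg one_ne_zero, if_neg, add_zero]
      rintro rfl
      have := (mem_par.1 hj).2
      omega
  · exfalso; omega
  · exfalso; omega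
  · exfalso
    obtain ⟨hq4, h | h⟩ := hbig 0 (by omega) (by omega) e0
    · obtain ⟨k, hk⟩ := h5 hq4; omega
    · exact h5' 0 (by omega) hq4 h
  · exfalso; omega
  · exfalso; omega

end H22.SD
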