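import Cfsg.Agent.H22.SD.Orbit
import Cfsg.Agent.H22.SD.Local
import Cfsg.Agent.H23.LocalIndex

/-!
# A 2-block with semidihedral defect group: the group

The data `SD`, the element arithmetic of `D = ⟨r, s⟩` and fusion on `⟨r⟩`.
-/

set_option autoImplicit false
set_option linter.unusedSectionVars false
set_option linter.style.haveILetI false
set_option maxHeartbeats 800000

open Cfsg Finset
open scoped MonoidAlgebra

namespace H22.SD

universe u

variable {G : Type u} [Group G] [Fintype G] {M : Ideal AlgInt} [hMp : M.IsPrime]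
  [CharP (H20.k M) 2] [IsAlgClosed (H20.k M)]

local notation "C[" x "]" => (Subgroup.centralizer ({x} : Set _))

/-- A 2-block with maximal pair `(D, f₀)`, `D = ⟨r, s⟩` semidihedral of order `2 ^ (a + 2)`. -/
structure Semi (M : Ideal AlgInt) [M.IsPrime] [CharP (H20.k M) 2] [IsAlgClosed (H20.k M)]
    (B : Set (IrrCharacter G)) (D : Subgroup G) (f0 : (H20.k M)[G]) (r s : G) (a : ℕ) : Prop where
  hM : IsPModular 2 M
  hB : IsPBlock M B
  hmax : H23.IsMax 2 (H23.eB M B) D f0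
  ha : 2 ≤ a
  hord : orderOf r = 2 ^ (a + 1)
  rD : r ∈ D
  sD : s ∈ D
  s2 : s * s = 1
  snot : s ∉ Subgroup.zpowers r
  sr : s * r * s⁻¹ = r ^ (2 ^ a - 1)
  cover : ∀ d ∈ D, d ∈ Subgroup.zpowers r ∨ s * d ∈ Subgroup.zpowers r

namespace Semi

variable {B : Set (IrrCharacter G)} {D : Subgroup G} {f0 : (H20.k M)[G]} {r s : G} {a : ℕ}

theorem two_pow_succ (_h : Semi M B D f0 r s a) : 2 ^ (a + 1) = 2 * 2 ^ a := pow_succ' 2 a

theorem hord2 (h : Semi M B D f0 r s a) : orderOf r = 2 * 2 ^ a := h.hord.trans h.two_pow_succ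

theorem four_le_q (h : Semi M B D f0 r s a) : 4 ≤ 2 ^ a := four_le_pow h.ha

theorem zpowers_le (h : Semi M B D f0 r s a) : Subgroup.zpowers r ≤ D :=
  Subgroup.zpowers_le.2 h.rD

theorem pow_eq_iff (h : Semi M B D f0 r s a) {i j : ℕ} :
    r ^ i = r ^ j ↔ i ≡ j [MOD 2 * 2 ^ a] := by
  rw [pow_eq_pow_iff_modEq, h.hord2]

theorem pow_inj (h : Semi M B D f0 r s a) {i j : ℕ} (hi : i < 2 * 2 ^ a) (hj : j < 2 * 2 ^ a)
    (e : r ^ i = r ^ j) : i = j :=
  Nat.ModEq.eq_of_lt_of_lt (h.pow_eq_iff.1 e) hi hj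

theorem exists_pow (h : Semi M B D f0 r s a) {c : G} (hc : c ∈ Subgroup.zpowers r) :
    ∃ i < 2 * 2 ^ a, c = r ^ i := by
  classical
  obtain ⟨i, hi, hi'⟩ := Finset.mem_image.1
    (show c ∈ (Finset.range (orderOf r)).image (r ^ ·) from mem_zpowers_iff_mem_range_orderOf.1 hc)
  exact ⟨i, h.hord2 ▸ Finset.mem_range.1 hi, hi'.symm⟩

theorem r_pow_two_q (h : Semi M B D f0 r s a) : r ^ (2 * 2 ^ a) = 1 :=
  h.hord2 ▸ pow_orderOf_eq_one r

theorem s_inv (h : Semi M B D f0 r s a) : s⁻¹ = s := inv_eq_of_mul_eq_one_right h.s2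

theorem s_pow (h : Semi M B D f0 r s a) (i : ℕ) :
    s * r ^ i * s⁻¹ = r ^ ((2 ^ a - 1) * i) := by
  rw [← conj_pow, h.sr, ← pow_mul]

theorem s_sig (h : Semi M B D f0 r s a) (i : ℕ) : s * r ^ i * s⁻¹ = r ^ sig (2 ^ a) i := by
  rw [h.s_pow, h.pow_eq_iff]
  exact (Nat.mod_modEq _ _).symm

theorem s_conj_mem (h : Semi M B D f0 r s a) {c : G} (hc : c ∈ Subgroup.zpowers r) :
    s * c * s⁻¹ ∈ Subgroup.zpowers r := by
  obtain ⟨i, -, rfl⟩ := h.exists_pow hc
  rw [h.s_pow]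
  exact Subgroup.npow_mem_zpowers r _

theorem s_conj_conj (h : Semi M B D f0 r s a) (c : G) : s * (s * c * s⁻¹) * s⁻¹ = c := by
  calc s * (s * c * s⁻¹) * s⁻¹ = (s * s) * c * (s * s)⁻¹ := by group
    _ = c := by rw [h.s2]; group

theorem comm_r (_h : Semi M B D f0 r s a) {c d : G} (hc : c ∈ Subgroup.zpowers r)
    (hd : d ∈ Subgroup.zpowers r) : c * d = d * c := by
  obtain ⟨i, rfl⟩ := Subgroup.mem_zpowers_iff.1 hc
  obtain ⟨j, rfl⟩ := Subgroup.mem_zpowers_iff.1 hd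
  exact (Commute.zpow_zpow (Commute.refl r) i j).eq

theorem orderOf_z (h : Semi M B D f0 r s a) : orderOf (r ^ 2 ^ a) = 2 := by
  rw [orderOf_pow' _ (by positivity), h.hord, Nat.gcd_eq_right (pow_dvd_pow 2 (by omega)),
    Nat.pow_div (by omega) (by norm_num), show a + 1 - a = 1 by omega, pow_one]

theorem z_sq (h : Semi M B D f0 r s a) : r ^ 2 ^ a * r ^ 2 ^ a = 1 := by
  have := pow_orderOf_eq_one (r ^ 2 ^ a)
  rwa [h.orderOf_z, pow_two] at this

theorem z_inv (h : Semi M B D f0 r s a) : (r ^ 2 ^ a)⁻¹ = r ^ 2 ^ a :=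
  inv_eq_of_mul_eq_one_right h.z_sq

theorem z_ne_one (h : Semi M B D f0 r s a) : r ^ 2 ^ a ≠ 1 := fun e => by
  have := h.orderOf_z
  rw [e, orderOf_one] at this
  omega

theorem orderOf_w (h : Semi M B D f0 r s a) : orderOf (r ^ 2 ^ (a - 1)) = 4 := by
  have := h.ha
  rw [orderOf_pow' _ (by positivity), h.hord, Nat.gcd_eq_right (pow_dvd_pow 2 (by omega)),
    Nat.pow_div (by omega) (by norm_num), show a + 1 - (a - 1) = 2 by omega]

theorem w_sq (h : Semi M B D f0 r s a) :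
    r ^ 2 ^ (a - 1) * r ^ 2 ^ (a - 1) = r ^ 2 ^ a := by
  have := h.ha
  rw [← pow_add, ← two_mul, ← pow_succ', show a - 1 + 1 = a by omega]

theorem sq_eq_one_cases (h : Semi M B D f0 r s a) {c : G} (hc : c ∈ Subgroup.zpowers r)
    (h2 : c * c = 1) : c = 1 ∨ c = r ^ 2 ^ a := by
  obtain ⟨i, hi, rfl⟩ := h.exists_pow hc
  rw [← pow_add] at h2
  have h3 := h.hord2 ▸ orderOf_dvd_of_pow_eq_one h2
  obtain ⟨k, hk⟩ := h3
  rcases k with _ | _ | k
  · exact Or.inl (by rw [show i = 0 by omega, pow_zero])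
  · exact Or.inr (by rw [show i = 2 ^ a by omega])
  · exfalso; nlinarith

/-- Only the elements of order at most two are fixed by `s`. -/
theorem s_fix (h : Semi M B D f0 r s a) {c : G} (hc : c ∈ Subgroup.zpowers r)
    (e : s * c * s⁻¹ = c) : c * c = 1 := by
  obtain ⟨i, -, rfl⟩ := h.exists_pow hc
  rw [h.s_pow, h.pow_eq_iff] at e
  obtain ⟨k, rfl⟩ := dvd_of_fixed h.ha e
  rw [pow_mul, ← (Commute.refl (r ^ 2 ^ a)).mul_pow, h.z_sq, one_pow]

theorem s_fix_of_sq (h : Semi M B D f0 r s a) {c : G} (hc : c ∈ Subgroup.zpowers r)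
    (h2 : c * c = 1) : s * c * s⁻¹ = c := by
  have h3 : s * c * s⁻¹ * (s * c * s⁻¹) = 1 := by
    calc s * c * s⁻¹ * (s * c * s⁻¹) = s * (c * c) * s⁻¹ := by group
      _ = 1 := by rw [h2]; group
  rcases h.sq_eq_one_cases hc h2 with rfl | rfl
  · group
  rcases h.sq_eq_one_cases (h.s_conj_mem hc) h3 with e | e
  · exact absurd (conj_eq_one_iff.1 e) h.z_ne_one
  · exact e

theorem s_w (h : Semi M B D f0 r s a) :
    s * r ^ 2 ^ (a - 1) * s⁻¹ = (r ^ 2 ^ (a - 1))⁻¹ := by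
  refine eq_inv_of_mul_eq_one_left ?_
  rw [h.s_pow, ← pow_add, ← orderOf_dvd_iff_pow_eq_one, h.hord2, ← Nat.succ_mul,
    Nat.succ_eq_add_one, Nat.sub_add_cancel Nat.one_le_two_pow]
  have := h.ha
  refine mul_dvd_mul ?_ dvd_rfl |>.trans (dvd_of_eq (mul_comm _ _))
  exact dvd_pow_self 2 (by omega)

theorem exists_eq (h : Semi M B D f0 r s a) {d : G} (hd : d ∈ D) (hn : d ∉ Subgroup.zpowers r) :
    ∃ c ∈ Subgroup.zpowers r, d = s * c :=
  ⟨s * d, (h.cover d hd).resolve_left hn, by rw [← mul_assoc, h.s2, one_mul]⟩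

theorem not_mem (h : Semi M B D f0 r s a) {c : G} (hc : c ∈ Subgroup.zpowers r) :
    s * c ∉ Subgroup.zpowers r := fun e => h.snot (by
  have := mul_mem e (inv_mem hc)
  rwa [mul_inv_cancel_right] at this)

theorem conj_cases (h : Semi M B D f0 r s a) {d c : G} (hd : d ∈ D)
    (hc : c ∈ Subgroup.zpowers r) :
    (d ∈ Subgroup.zpowers r → d * c * d⁻¹ = c) ∧
      (d ∉ Subgroup.zpowers r → d * c * d⁻¹ = s * c * s⁻¹) := by
  have hcomm : ∀ b ∈ Subgroup.zpowers r, b * c * b⁻¹ = c := fun b hb => by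
    rw [h.comm_r hb hc, mul_inv_cancel_right]
  refine ⟨hcomm d, fun hn => ?_⟩
  obtain ⟨e, he, rfl⟩ := h.exists_eq hd hn
  calc s * e * c * (s * e)⁻¹ = s * (e * c * e⁻¹) * s⁻¹ := by group
    _ = _ := by rw [hcomm e he]

theorem conj_or (h : Semi M B D f0 r s a) {d c : G} (hd : d ∈ D) (hc : c ∈ Subgroup.zpowers r) :
    d * c * d⁻¹ = c ∨ d * c * d⁻¹ = s * c * s⁻¹ := by
  by_cases hn : d ∈ Subgroup.zpowers r
  · exact Or.inl ((h.conj_cases hd hc).1 hn)
  · exact Or.inr ((h.conj_cases hd hc).2 hn)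

theorem z_central (h : Semi M B D f0 r s a) {d : G} (hd : d ∈ D) :
    d * r ^ 2 ^ a = r ^ 2 ^ a * d := by
  have hz := Subgroup.npow_mem_zpowers r (2 ^ a)
  rcases h.conj_or hd hz with e | e
  · exact mul_inv_eq_iff_eq_mul.1 e
  · rw [h.s_fix_of_sq hz h.z_sq] at e
    exact mul_inv_eq_iff_eq_mul.1 e

theorem sq_outside (h : Semi M B D f0 r s a) (i : ℕ) :
    s * r ^ i * (s * r ^ i) = (r ^ 2 ^ a) ^ i := by
  calc s * r ^ i * (s * r ^ i) = (s * r ^ i * s⁻¹) * (s * s) * r ^ i := by group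
    _ = _ := by
        rw [h.s2, mul_one, h.s_pow, ← pow_add, ← Nat.succ_mul, Nat.succ_eq_add_one,
          Nat.sub_add_cancel Nat.one_le_two_pow, pow_mul]

theorem sq_cases (h : Semi M B D f0 r s a) {d : G} (hd : d ∈ D)
    (hn : d ∉ Subgroup.zpowers r) : d * d = 1 ∨ d * d = r ^ 2 ^ a := by
  obtain ⟨c, hc, rfl⟩ := h.exists_eq hd hn
  obtain ⟨i, -, rfl⟩ := h.exists_pow hc
  rw [h.sq_outside]
  rcases Nat.even_or_odd i with ⟨k, hk⟩ | ⟨k, hk⟩
  · left
    rw [hk, pow_add, ← (Commute.refl (r ^ 2 ^ a)).mul_pow, h.z_sq, one_pow]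
  · right
    rw [hk, pow_succ, pow_mul, pow_two, h.z_sq, one_pow, one_mul]

theorem orderOf_outside (h : Semi M B D f0 r s a) {d : G} (hd : d ∈ D)
    (hn : d ∉ Subgroup.zpowers r) (h2 : d * d ≠ 1) : orderOf d = 4 := by
  haveI : Fact (Nat.Prime 2) := ⟨Nat.prime_two⟩
  have e := (h.sq_cases hd hn).resolve_left h2
  rw [orderOf_eq_prime_pow (p := 2) (n := 1) (by rw [pow_one, pow_two]; exact h2)
    (by rw [show (2 : ℕ) ^ (1 + 1) = 2 * 2 by norm_num, pow_mul, pow_two d, e, pow_two, h.z_sq])]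
  norm_num

/-- The centralizer in `D` of an element of `⟨r⟩` that is no involution. -/
theorem mem_of_comm (h : Semi M B D f0 r s a) {c d : G} (hc : c ∈ Subgroup.zpowers r)
    (hc2 : c * c ≠ 1) (hd : d ∈ D) (hcd : d * c = c * d) : d ∈ Subgroup.zpowers r := by
  by_contra hn
  have e := (h.conj_cases hd hc).2 hn
  rw [hcd, mul_inv_cancel_right] at e
  exact hc2 (h.s_fix hc e.symm)

/-- The centralizer in `D` of an element outside `⟨r⟩`. -/
theorem four_of_comm (h : Semi M B D f0 r s a) {v d : G} (hv : v ∈ D)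
    (hvn : v ∉ Subgroup.zpowers r) (hd : d ∈ D) (hcd : d * v = v * d) :
    d = 1 ∨ d = r ^ 2 ^ a ∨ d = v ∨ d = v * r ^ 2 ^ a := by
  have key : ∀ c ∈ Subgroup.zpowers r, c * v = v * c → c = 1 ∨ c = r ^ 2 ^ a := by
    intro c hc hcv
    have e := (h.conj_cases hv hc).2 hvn
    rw [← hcv, mul_inv_cancel_right] at e
    exact h.sq_eq_one_cases hc (h.s_fix hc e.symm)
  by_cases hn : d ∈ Subgroup.zpowers r
  · rcases key d hn hcd with e | e
    · exact Or.inl e
    · exact Or.inr (Or.inl e)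
  · obtain ⟨c, hc, rfl⟩ := h.exists_eq hd hn
    obtain ⟨c', hc', hvc'⟩ := h.exists_eq hv hvn
    have hw : v⁻¹ * (s * c) ∈ Subgroup.zpowers r := by
      rw [hvc', show (s * c')⁻¹ * (s * c) = c'⁻¹ * c by group]
      exact mul_mem (inv_mem hc') hc
    have hwv : v⁻¹ * (s * c) * v = v * (v⁻¹ * (s * c)) := by
      rw [mul_inv_cancel_left, mul_assoc, hcd, inv_mul_cancel_left]
    rcases key _ hw hwv with e | e
    · exact Or.inr (Or.inr (Or.inl (inv_mul_eq_one.1 e).symm))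
    · exact Or.inr (Or.inr (Or.inr (by rw [← e, mul_inv_cancel_left])))

theorem card_le_four (h : Semi M B D f0 r s a) {v : G} (hv : v ∈ D)
    (hvn : v ∉ Subgroup.zpowers r) {R : Subgroup G} (hR : R ≤ D)
    (hc : ∀ d ∈ R, d * v = v * d) : Nat.card R ≤ 4 := by
  classical
  rw [Nat.card_eq_fintype_card]
  let T : Finset G := {1, r ^ 2 ^ a, v, v * r ^ 2 ^ a}
  calc Fintype.card R ≤ T.card := by
        rw [← Fintype.card_coe]
        exact Fintype.card_le_of_injective (fun d : R => (⟨(d : G), by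
          simpa [T] using h.four_of_comm hv hvn (hR d.2) (hc d d.2)⟩ : T))
          fun d e hde => Subtype.ext (congrArg Subtype.val hde :)
    _ ≤ 4 := Finset.card_le_four

theorem exists_orderOf (h : Semi M B D f0 r s a) {x : G} (hx : x ∈ D) :
    ∃ j : ℕ, orderOf x = 2 ^ j := by
  haveI : Fact (Nat.Prime 2) := ⟨Nat.prime_two⟩
  exact H23.exists_orderOf_of_mem h.hmax.1.1 hx

theorem card_D (h : Semi M B D f0 r s a) :
    Nat.card D = 2 ^ (a + 2) ∧ blockDefect 2 B = a + 2 := by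
  have hcard : Nat.card D = 2 ^ (a + 2) := by
    let φ : Subgroup.zpowers r ⊕ Subgroup.zpowers r → D := Sum.elim
      (fun c => ⟨c, h.zpowers_le c.2⟩) (fun c => ⟨s * c, mul_mem h.sD (h.zpowers_le c.2)⟩)
    have hφ : Function.Bijective φ := by
      refine ⟨?_, fun d => ?_⟩
      · rintro (c | c) (b | b) hab <;> have hab' := congrArg Subtype.val hab
        · exact congrArg Sum.inl (Subtype.ext hab')
        · exact absurd (show s * (b : G) ∈ Subgroup.zpowers r from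
            (show (c : G) = s * b from hab') ▸ c.2) (h.not_mem b.2)
        · exact absurd (show s * (c : G) ∈ Subgroup.zpowers r from
            (show s * (c : G) = b from hab').symm ▸ b.2) (h.not_mem c.2)
        · exact congrArg Sum.inr (Subtype.ext (mul_left_cancel hab'))
      · by_cases hd : (d : G) ∈ Subgroup.zpowers r
        · exact ⟨Sum.inl ⟨d, hd⟩, Subtype.ext rfl⟩
        · obtain ⟨c, hc, e⟩ := h.exists_eq d.2 hd
          exact ⟨Sum.inr ⟨c, hc⟩, Subtype.ext e.symm⟩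
    rw [← Nat.card_congr (Equiv.ofBijective φ hφ), Nat.card_sum, Nat.card_zpowers, h.hord,
      pow_succ _ (a + 1), mul_two]
  refine ⟨hcard, ?_⟩
  haveI : Fact (Nat.Prime 2) := ⟨Nat.prime_two⟩
  have h1 := H20.card_defectGroup h.hM h.hB (H23.isDefectGroup_of_isMax h.hB h.hmax)
  rw [hcard] at h1
  exact (Nat.pow_right_injective le_rfl h1).symm

theorem zpowers_s_conj (h : Semi M B D f0 r s a) {c : G} (hc : c ∈ Subgroup.zpowers r) :
    Subgroup.zpowers (s * c * s⁻¹) = Subgroup.zpowers c :=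
  H28.PG.zpowers_eq_of_orderOf_eq (h.s_conj_mem hc) hc
    (by rw [← MulAut.conj_apply, MulEquiv.orderOf_eq])

theorem le_normalizer (h : Semi M B D f0 r s a) {c : G} (hc : c ∈ Subgroup.zpowers r) :
    D ≤ Subgroup.normalizer (Subgroup.zpowers c : Set G) := by
  intro d hd
  apply H23.mem_normalizer_of_cjS_eq
  rw [H23.cjS_zpowers]
  rcases h.conj_or hd hc with e | e <;> rw [e]
  exact h.zpowers_s_conj hc

/-- Fusion on the cyclic subgroup. -/
theorem fusion_pow (h : Semi M B D f0 r s a) {c : G} (hc : c ∈ Subgroup.zpowers r)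
    {f : (H20.k M)[G]} (hle : H23.Le 2 (Subgroup.zpowers c, f) (D, f0)) {g : G}
    (hg : g ∈ H23.stab (Subgroup.zpowers c) f) :
    g * c * g⁻¹ = c ∨ g * c * g⁻¹ = s * c * s⁻¹ := by
  classical
  haveI : Fact (Nat.Prime 2) := ⟨Nat.prime_two⟩
  set Q := Subgroup.zpowers c with hQ
  set T := H23.stab Q f with hT
  have hf := hle.pair_left 2 h.hmax.1
  have hDT : D ≤ T := fun d hd => H23.inf_normalizer_le_stab 2 hle h.hmax.1
    ⟨hd, h.le_normalizer hc hd⟩
  have hl : H23.LocMax 2 Q f T D f0 :=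
    ⟨hf, H23.le_stab 2 hf, H23.centralizer_le_stab 2 hf, le_rfl,
      ⟨h.hmax.1, hDT, (H23.le_iff_inBlk 2 hf (H23.centralizer_le_stab 2 hf) le_rfl h.hmax.1
          (hle.le 2) hDT).1 hle,
        fun R' g' hg' _ _ hl' => h.hmax.2.2 R' g' hg'
          ((hl'.inBlk_iff 2 (H23.cidem_eB h.hB)).2 h.hmax.2.1) hl'⟩, hle⟩
  obtain ⟨j, -, hj⟩ := (Nat.dvd_prime_pow Nat.prime_two).1
    (h.hord ▸ orderOf_dvd_of_mem_zpowers hc : orderOf c ∣ 2 ^ (a + 1))
  have hA : IsPGroup 2 (H23.autImg Q T) := by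
    refine (IsPGroup.of_card (n := if j = 0 then 0 else j - 1) ?_ :
      IsPGroup 2 (MulAut Q)).to_subgroup _
    haveI : NeZero (Nat.card Q) := ⟨Nat.card_pos.ne'⟩
    rw [Nat.card_congr (IsCyclic.mulAutMulEquiv Q).toEquiv, Nat.card_eq_fintype_card,
      ZMod.card_units_eq_totient, hQ, Nat.card_zpowers, hj]
    split_ifs with h0
    · subst h0; simp
    · rw [Nat.totient_prime_pow Nat.prime_two (Nat.pos_of_ne_zero h0)]
      simp
  have heq : H23.autImg Q D = H23.autImg Q T :=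
    Subgroup.eq_of_le_of_card_ge (H23.autImg_mono Q hDT) (hl.card_le_image hA le_rfl)
  have hgn := hg.1
  have hmem : H23.toAut Q ⟨g, hgn⟩ ∈ H23.autImg Q D := heq ▸ ⟨⟨g, hgn⟩, hg, rfl⟩
  obtain ⟨d, hd, -, hact⟩ := H23.mem_autImg.1 hmem
  have h1 := hact ⟨c, Subgroup.mem_zpowers c⟩
  rw [H23.toAut_apply] at h1
  simp only at h1
  rw [h1]
  exact h.conj_or hd hc

end Semi

end H22.SD
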