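import Cfsg.Agent.H22.SD.MajorCount

/-!
# A 2-block with semidihedral defect group and a central involution of it: the form of the
Cartan inner products when the outside element of order four is fused into `⟨r⟩`
-/

set_option autoImplicit false
set_option linter.unusedSectionVars false
set_option linter.style.haveILetI false
set_option maxHeartbeats 400000

open Cfsg Finset
open scoped MonoidAlgebra ComplexConjugate

namespace H22.SD

theorem squares_card_le {ι : Type*} {S H : Finset ι} (hH : H ⊆ S) {f : ι → ℤ}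
    (hsum : ∑ x ∈ S, f x ^ 2 = 4) (hne : ∀ x ∈ H, f x ≠ 0) :
    H.card ≤ 4 ∧ (H.card = 4 → (∀ x ∈ H, f x ^ 2 = 1) ∧ ∀ x ∈ S, x ∉ H → f x = 0) := by
  classical
  have h1 : ∀ x ∈ H, (1 : ℤ) ≤ f x ^ 2 := fun x hx => by
    have : 0 < f x ^ 2 := by have := hne x hx; positivity
    omega
  have hsplit : ∑ x ∈ H, f x ^ 2 + ∑ x ∈ S \ H, f x ^ 2 = 4 := by
    rw [add_comm, sum_sdiff hH, hsum]
  have h0 : 0 ≤ ∑ x ∈ S \ H, f x ^ 2 := sum_nonneg fun x _ => sq_nonneg _
  have h2 : (H.card : ℤ) ≤ ∑ x ∈ H, f x ^ 2 := by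
    simpa using card_nsmul_le_sum H _ _ h1
  refine ⟨by omega, fun h4 => ⟨fun x hx => ?_, fun x hx hxH => ?_⟩⟩
  · have e : ∑ y ∈ H, (f y ^ 2 - 1) = 0 := by
      rw [sum_sub_distrib, sum_const, h4, nsmul_one]
      push_cast
      omega
    have := (sum_eq_zero_iff_of_nonneg fun y hy => by have := h1 y hy; omega).1 e x hx
    omega
  · have e : ∑ x ∈ S \ H, f x ^ 2 = 0 := by omega
    exact pow_eq_zero_iff two_ne_zero |>.1
      ((sum_eq_zero_iff_of_nonneg fun y _ => sq_nonneg _).1 e x (mem_sdiff.2 ⟨hx, hxH⟩))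

/-- The two geometric sums over the exponents. -/
theorem sum_offs_sign {a : ℕ} (ha : 2 ≤ a) {x : ℤ} (hx : x = 1 ∨ x = -1) :
    ∑ l ∈ offs (2 ^ a), x ^ l = if x = 1 then 2 * (2 : ℤ) ^ a - 2 else -2 := by
  rcases hx with rfl | rfl
  · rw [if_pos rfl]
    simp only [one_pow, sum_const, nsmul_one]
    rw [card_offs (by positivity)]
    push_cast
    rfl
  · rw [if_neg (by norm_num), sum_offs (by positivity), neg_one_geom_sum, if_pos (even_two_mul _),
      pow_zero, (Even.neg_one_pow ((Nat.even_pow).2 ⟨even_two, by omega⟩))]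
    norm_num

universe u

variable {G : Type u} [Group G] [Fintype G] {M : Ideal AlgInt} [hMp : M.IsPrime]
  [CharP (H20.k M) 2] [IsAlgClosed (H20.k M)]
  {B : Set (IrrCharacter G)} {D : Subgroup G} {f0 : (H20.k M)[G]} {r s : G} {a : ℕ}

local notation "ε" => H19.MajorBound.eps (r ^ 2 ^ a)

namespace Semi

open Classical in
/-- **The form.** -/
theorem exists_form (h : Semi M B D f0 r s a) (hz : r ^ 2 ^ a ∈ Subgroup.center G)
    (ht : ¬ Out M D f0 r (s * r)) :
    ∃ U X : IrrCharacter G → ℤ, (∀ α ∈ B, (2 : ℤ) ∣ U α - X α) ∧ ∀ α ∈ B, ∀ β ∈ B,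
      (2 : ℂ) ^ (a + 2) * H22.Delta 2 α β =
        ((U α * U β + 2 ^ (a - 1) * (X α * X β) : ℤ) : ℂ) := by
  haveI : Fact (Nat.Prime 2) := ⟨Nat.prime_two⟩
  obtain ⟨R⟩ := h.exists_rot
  obtain ⟨y, hy, hy4, hyodd⟩ := h.exists_scol (h.out_s hz)
  obtain ⟨hHT, -⟩ := h.eps_height_zero hz hy hyodd
  have hl : blockRank 2 B = 2 := by
    have e := h.rank_cases hz
    rwa [if_neg ht, add_zero] at e
  obtain ⟨zm, hzm, hmat⟩ := H22.exists_isDeltaMatrix (p := 2) h.hM h.hB
  have hd : blockDefect 2 B = a + 2 := h.card_D.2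
  set c : ℤ := 2 ^ (a - 1) with hc
  have hc2 : 2 ≤ c := by
    rw [hc]
    calc (2 : ℤ) = 2 ^ 1 := (pow_one 2).symm
      _ ≤ _ := pow_le_pow_right₀ (by norm_num) (by have := h.ha; omega)
  have hce : (2 : ℤ) ∣ c := dvd_pow_self _ (by have := h.ha; omega)
  have h2a : (2 : ℤ) ^ a = 2 * c := by
    rw [hc, ← pow_succ', Nat.sub_add_cancel (le_of_lt h.ha)]
  set T := H19.CentralPrime.triv B (r ^ 2 ^ a) with hT
  set sB := H22.blockFinset B with hsB
  have hTB : ∀ η ∈ T, η ∈ B := fun η hη => (H19.CentralPrime.mem_triv.1 hη).1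
  have hεT : ∀ η ∈ T, ε η = 1 := fun η hη =>
    (H19.CentralPrime.eps_eq_one_iff hz η).2 (H19.CentralPrime.mem_triv.1 hη).2
  have hrow : ∀ α ∈ B, ∀ β, ∑ η ∈ T, zm α η * zm η β = 4 * c * zm α β := fun α hα β => by
    rw [H19.CentralPrime.sum_triv_matrix h.hM h.hB hz h.orderOf_z hzm (d := a + 1) hd α β hα,
      Nat.cast_ofNat, pow_succ', h2a]
    ring
  have hsymm : ∀ α ∈ B, ∀ β ∈ B, zm α β = zm β α := hmat.symm
  have hrow2 : ∀ α ∈ B, ∀ β ∈ B, ∑ η ∈ T, zm α η * zm β η = 4 * c * zm α β := fun α hα β hβ => by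
    rw [← hrow α hα β]
    exact sum_congr rfl fun η hη => by rw [hsymm β hβ η (hTB η hη)]
  have htr : ∑ η ∈ T, zm η η = 8 * c := by
    rw [H19.CentralPrime.sum_triv_diag h.hM h.hB hz h.orderOf_z hzm (d := a + 1) hd, hl,
      Nat.cast_ofNat, pow_succ', h2a]
    push_cast
    ring
  have hcardT : (T.card : ℤ) = c + 3 := by rw [hT, h.card_triv hz, hc]; push_cast; rfl
  -- the members of height zero
  set H := T.filter fun η : IrrCharacter G => blockHeight 2 B (η : G → ℂ) = 0 with hHdef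
  have hHT' : H ⊆ T := filter_subset _ _
  have hHs : H ⊆ sB := fun η hη => H22.mem_blockFinset.2 (hTB η (hHT' hη))
  have hH0 : ∀ η ∈ H, η ∈ B ∧ blockHeight 2 B (η : G → ℂ) = 0 := fun η hη =>
    ⟨hTB η (hHT' hη), (mem_filter.1 hη).2⟩
  have hzodd : ∀ i ∈ H, ∀ η ∈ H, ¬ (2 : ℤ) ∣ zm i η := fun i hi η hη => by
    have e := hmat.exact_zero i (hH0 i hi).1 η (hH0 η hη).1 (hH0 η hη).2
    rwa [(hH0 i hi).2, zero_add, pow_one, Nat.cast_ofNat] at e
  have hzeven : ∀ i ∈ H, ∀ η ∈ T \ H, (2 : ℤ) ∣ zm i η := fun i hi η hη => by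
    obtain ⟨hηT, hηH⟩ := mem_sdiff.1 hη
    have e := hmat.dvd_succ i (hH0 i hi).1 η (hTB η hηT)
      (Nat.pos_of_ne_zero fun e => hηH (mem_filter.2 ⟨hηT, e⟩))
    rwa [(hH0 i hi).2, zero_add, pow_one, Nat.cast_ofNat] at e
  obtain ⟨χ₀, hχ₀, he₀⟩ := H22.exists_height_zero (p := 2) (H20.block_nonempty h.hB)
  have h00 : blockHeight 2 B (χ₀ : G → ℂ) = 0 := Nat.sub_eq_zero_of_le he₀.le
  have hχ₀H : χ₀ ∈ H := mem_filter.2 ⟨H19.CentralPrime.mem_triv.2
    ⟨hχ₀, (H19.CentralPrime.eps_eq_one_iff hz χ₀).1 (hHT χ₀ hχ₀ h00)⟩, h00⟩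
  obtain ⟨hcle, hc4⟩ := squares_card_le hHs hy4 fun i hi e =>
    hyodd i (hH0 i hi).1 (hH0 i hi).2 (e ▸ dvd_zero _)
  have hcard : H.card = 4 := by
    have hmod : ((H.card : ℕ) : ZMod 4) = 0 := by
      have h4 : (4 : ZMod 4) = 0 := rfl
      have e := congrArg (fun n : ℤ => (n : ZMod 4)) (hrow2 χ₀ hχ₀ χ₀ hχ₀)
      rw [← sum_sdiff hHT'] at e
      push_cast at e
      rw [show ((4 : ZMod 4)) = 0 from rfl, zero_mul, zero_mul,
        sum_eq_zero fun η hη => ?_, zero_add, sum_congr rfl fun η hη => ?_, sum_const,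
        nsmul_one] at e
      · exact e
      · obtain ⟨t, ht⟩ : ∃ t, zm χ₀ η = 2 * t + 1 :=
          Int.odd_iff.2 (Int.two_dvd_ne_zero.1 (hzodd χ₀ hχ₀H η hη))
        rw [ht]
        push_cast
        linear_combination ((t : ZMod 4) * t + t) * h4
      · obtain ⟨t, ht⟩ := hzeven χ₀ hχ₀H η hη
        rw [ht]
        push_cast
        linear_combination ((t : ZMod 4) * t) * h4
    rw [ZMod.natCast_eq_zero_iff] at hmod
    have := card_pos.2 ⟨χ₀, hχ₀H⟩
    omega
  obtain ⟨hy1, -⟩ := hc4 hcard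
  -- orthogonality among the members of height zero
  have hmaster : ∀ i ∈ H, ∀ k ∈ H, ((4 * (2 * c) * (if i = k then 1 else 0) : ℤ) : ℂ) =
      ((2 * zm i k + 2 * c * (y i * y k) : ℤ) : ℂ) +
        ∑ l ∈ offs (2 ^ a), R.F i l * conj (R.F k l) := by
    intro i hi k hk
    have e := h.master hz R hy (hH0 i hi).1 (hH0 k hk).1
    rw [if_neg ht, add_zero, hεT i (hHT' hi), hεT k (hHT' hk)] at e
    have e2 : (4 * ((2 ^ a : ℕ) : ℂ) * H22.Delta 2 i k) = (zm i k : ℂ) := by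
      rw [hzm i (hH0 i hi).1, hd]
      push_cast
      ring
    have e3 : ((2 ^ a : ℕ) : ℂ) = ((2 * c : ℤ) : ℂ) := by rw [← h2a]; push_cast; rfl
    rw [e2, e3] at e
    split_ifs with hik
    · subst hik
      rw [H12.classInner_irr_self] at e
      push_cast at e ⊢
      linear_combination e
    · rw [H12.classInner_irr_ne hik] at e
      push_cast at e ⊢
      linear_combination e
  have hshape : ∀ i ∈ H, ∃ e σ : ℤ, e ^ 2 = 1 ∧ (σ = 1 ∨ σ = -1) ∧ zm i i = c + 1 ∧
      ∀ l ∈ offs (2 ^ a), R.F i l = ((e * σ ^ l : ℤ) : ℂ) := by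
    intro i hi
    have e := hmaster i hi i hi
    rw [if_pos rfl] at e
    simp only [RotData.F] at e
    rw [sum_offs_four R.prim (by positivity)] at e
    set W := vr (par (2 ^ a) 0) (R.m i) + vr (par (2 ^ a) 1) (R.m i) with hW
    have e' : 4 * (2 * c) = 2 * zm i i + 2 * c * (y i * y i) + 2 * W := by
      apply Int.cast_injective (α := ℂ)
      push_cast at e ⊢
      linear_combination e
    rw [← pow_two, hy1 i hi, mul_one] at e'
    have hodd := hzodd i hi i hi
    have hpos : 1 ≤ zm i i := by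
      have e2 := hrow2 i (hH0 i hi).1 i (hH0 i hi).1
      have h1 := single_le_sum (f := fun η => zm i η * zm i η) (fun η _ => mul_self_nonneg _)
        (hHT' hi)
      have h2 : 0 < zm i i * zm i i := mul_self_pos.2 fun e => hodd (e ▸ dvd_zero _)
      rw [e2] at h1
      exact pos_of_mul_pos_right (lt_of_lt_of_le h2 h1) (by omega)
    have hne : ∃ l ∈ offs (2 ^ a), four (2 ^ a) R.ζ (R.m i) l ≠ 0 := by
      by_contra hcon
      push Not at hcon
      apply h.avg_odd R (hH0 i hi).1 (hH0 i hi).2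
      have e3 := R.sum_F_par i
      rw [sum_eq_zero fun l hl => (show R.F i l = 0 from hcon l (h.par_one_offs hl)), eq_comm,
        mul_eq_zero] at e3
      rw [Int.cast_eq_zero.1 (e3.resolve_left (Nat.cast_ne_zero.2 (by positivity)))]
      exact dvd_zero _
    have hqZ : ((2 ^ a : ℕ) : ℤ) = 2 * c := by push_cast; exact h2a
    have hq8 : 2 ^ a = 4 ∨ 8 ≤ 2 ^ a := by
      rcases Nat.lt_or_ge a 3 with h3 | h3
      · left; rw [show a = 2 by have := h.ha; omega]; norm_num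
      · right
        exact le_of_eq_of_le (by norm_num) (Nat.pow_le_pow_right two_pos h3)
    obtain ⟨hWq, e₀, j, hj, he₀, hF⟩ := shape R.prim h.four_le_q hq8 (R.m i) (by omega) hne
      fun _ => Int.odd_iff.2 (by omega)
    have hj0 : j = 0 ∨ j = 2 ^ a := by
      by_contra hcon
      push Not at hcon
      refine sig_ne h.ha (mem_offs.2 ⟨hj, hcon.1, hcon.2⟩) (R.prim.pow_inj (sig_lt j) hj ?_)
      have h1o : (1 : ℕ) ∈ offs (2 ^ a) := mem_offs.2 ⟨by have := h.four_le_q; omega, one_ne_zero,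
        by have := h.four_le_q; omega⟩
      have e1 := R.F_sig h.ha i 1
      simp only [RotData.F] at e1
      rw [hF _ (sig_mem h.ha h1o), hF 1 h1o, one_mul] at e1
      have e4 := mul_left_cancel₀ (Int.cast_ne_zero.2 (fun e : e₀ = 0 => by simp [e] at he₀)) e1
      rw [← R.pow_mod (sig (2 ^ a) 1 * j)] at e4
      rw [← e4, sig, sig, Nat.mod_mul_mod, mul_one]
    refine ⟨e₀, if j = 0 then 1 else -1, he₀, by split <;> simp, by omega, fun l hl => ?_⟩
    show four (2 ^ a) R.ζ (R.m i) l = _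
    rw [hF l hl]
    rcases hj0 with rfl | rfl
    · simp
    · rw [mul_comm l, pow_mul, pow_half R.prim (by positivity), if_neg (by positivity)]
      push_cast
      rfl
  choose! e σ he hσ hMii hF using hshape
  set U₀ := e
  set X₀ : IrrCharacter G → ℤ := fun i => σ i * y i with hX₀
  have hσ2 : ∀ i ∈ H, σ i ^ 2 = 1 := fun i hi => by rcases hσ i hi with e' | e' <;> rw [e'] <;> norm_num
  have hX2 : ∀ i ∈ H, X₀ i ^ 2 = 1 := fun i hi => by
    rw [hX₀]; simp only [mul_pow]; rw [hσ2 i hi, hy1 i hi, one_mul]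
  have hoff : ∀ i ∈ H, ∀ k ∈ H, i ≠ k →
      zm i k = -(c * (y i * y k)) - e i * e k * (if σ i = σ k then 2 * c - 1 else -1) := by
    intro i hi k hk hik
    have em := hmaster i hi k hk
    rw [if_neg hik, sum_congr rfl fun l hl => show R.F i l * conj (R.F k l) =
        (((e i * e k) * (σ i * σ k) ^ l : ℤ) : ℂ) by
      rw [hF i hi l hl, hF k hk l hl, map_intCast, mul_pow]; push_cast; ring,
      ← Int.cast_sum, ← mul_sum, sum_offs_sign h.ha (by
        rcases hσ i hi with h1 | h1 <;> rcases hσ k hk with h2 | h2 <;> simp [h1, h2]),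
      ← Int.cast_add, Int.cast_inj, h2a] at em
    have hiff : σ i * σ k = 1 ↔ σ i = σ k := by
      rcases hσ i hi with h1 | h1 <;> rcases hσ k hk with h2 | h2 <;> simp [h1, h2]
    by_cases hs' : σ i = σ k
    · rw [if_pos (hiff.2 hs')] at em
      rw [if_pos hs']
      linarith
    · rw [if_neg (mt hiff.1 hs')] at em
      rw [if_neg hs']
      linarith
  have hey : ∀ i ∈ H, ∀ k ∈ H, i ≠ k → σ i = σ k → e i * e k = -(y i * y k) := by
    intro i hi k hk hik hs'
    have h1 : (e i * e k) ^ 2 = 1 := by rw [mul_pow, he i hi, he k hk, one_mul]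
    have h2 : (y i * y k) ^ 2 = 1 := by rw [mul_pow, hy1 i hi, hy1 k hk, one_mul]
    rcases eq_or_eq_neg_of_sq_eq_sq _ _ (h1.trans h2.symm) with e1 | e1
    · exfalso
      have hb := hrow2 i (hH0 i hi).1 i (hH0 i hi).1
      have hsub : ({i, k} : Finset (IrrCharacter G)) ⊆ T := by
        intro x hx
        rcases mem_insert.1 hx with rfl | hx
        · exact hHT' hi
        · rw [mem_singleton.1 hx]; exact hHT' hk
      have hle := sum_le_sum_of_subset_of_nonneg (f := fun η => zm i η * zm i η) hsub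
        fun η _ _ => mul_self_nonneg _
      rw [sum_pair hik, hb, hMii i hi, hoff i hi k hk hik, if_pos hs', e1] at hle
      have h3 : (-(c * (y i * y k)) - y i * y k * (2 * c - 1)) * (-(c * (y i * y k)) -
          y i * y k * (2 * c - 1)) = (3 * c - 1) ^ 2 := by
        linear_combination (3 * c - 1) ^ 2 * h2
      rw [h3] at hle
      have h4 : 0 ≤ c * (6 * c - 8) := mul_nonneg (by omega) (by omega)
      have h5 : (c + 1) * (c + 1) + (3 * c - 1) ^ 2 = 4 * c * (c + 1) + (c * (6 * c - 8) + 2) := by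
        ring
      linarith
    · exact e1
  have hUU : ∀ i ∈ H, ∀ k ∈ H, zm i k = U₀ i * U₀ k + c * (X₀ i * X₀ k) := by
    intro i hi k hk
    by_cases hik : i = k
    · subst hik
      rw [hMii i hi, ← pow_two, ← pow_two, he i hi, hX2 i hi]
      ring
    · rw [hoff i hi k hk hik]
      simp only [hX₀]
      by_cases hs' : σ i = σ k
      · rw [if_pos hs', hey i hi k hk hik hs', ← hs']
        linear_combination -(c * (y i * y k)) * hσ2 i hi
      · rw [if_neg hs']
        have : σ i * σ k = -1 := by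
          rcases hσ i hi with h1 | h1 <;> rcases hσ k hk with h2 | h2 <;>
            first | (rw [h1, h2]; norm_num; done) | exact absurd (h1.trans h2.symm) hs'
        linear_combination -(c * (y i * y k)) * this
  have hUX : ∑ i ∈ H, U₀ i * X₀ i = 0 := by
    set S : Finset ℤ := {1, -1}
    have hey1 : ∀ i ∈ H, (e i * y i) ^ 2 = 1 := fun i hi => by
      rw [mul_pow, he i hi, hy1 i hi, one_mul]
    have hinj : Set.InjOn (fun i => (σ i, e i * y i)) (H : Set (IrrCharacter G)) := by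
      intro i hi k hk hik
      by_contra hne
      rw [Prod.mk.injEq] at hik
      have h1 := hey i hi k hk hne hik.1
      have h2 : (e i * y i) ^ 2 = -((y i * y k) ^ 2) := by
        calc (e i * y i) ^ 2 = e i * y i * (e k * y k) := by rw [← hik.2, pow_two]
          _ = e i * e k * (y i * y k) := by ring
          _ = _ := by rw [h1]; ring
      rw [hey1 i hi, mul_pow, hy1 i hi, hy1 k hk] at h2
      norm_num at h2
    have himg : H.image (fun i => (σ i, e i * y i)) = S ×ˢ S := by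
      refine eq_of_subset_of_card_le (fun x hx => ?_)
        (by rw [card_image_of_injOn hinj, hcard]; simp [S])
      obtain ⟨i, hi, rfl⟩ := mem_image.1 hx
      simp only [S, mem_product, mem_insert, mem_singleton]
      exact ⟨hσ i hi, sq_eq_one_iff.1 (hey1 i hi)⟩
    have := sum_image (f := fun x : ℤ × ℤ => x.1 * x.2) hinj
    rw [himg] at this
    rw [sum_congr rfl fun i _ => show U₀ i * X₀ i = σ i * (e i * y i) by simp only [hX₀, U₀]; ring,
      ← this]
    simp [S, sum_product]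
  have hU4 : ∑ i ∈ H, U₀ i * U₀ i = 4 := by
    rw [sum_congr rfl fun i hi => by rw [← pow_two, he i hi], sum_const, hcard]; rfl
  have hX4 : ∑ i ∈ H, X₀ i * X₀ i = 4 := by
    rw [sum_congr rfl fun i hi => by rw [← pow_two, hX2 i hi], sum_const, hcard]; rfl
  -- the other members trivial at the involution
  set t : IrrCharacter G → ℤ := fun η => U₀ χ₀ * zm χ₀ η with htdef
  have hprop : ∀ i ∈ H, ∀ η ∈ T \ H, zm i η = U₀ i * t η := by
    intro i hi η hη
    have hsum : ∑ x ∈ T, (zm i x * U₀ χ₀ - zm χ₀ x * U₀ i) ^ 2 =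
        U₀ χ₀ * U₀ χ₀ * (4 * c * zm i i) + U₀ i * U₀ i * (4 * c * zm χ₀ χ₀) -
          2 * (U₀ i * U₀ χ₀) * (4 * c * zm i χ₀) := by
      rw [← hrow2 i (hH0 i hi).1 i (hH0 i hi).1, ← hrow2 χ₀ hχ₀ χ₀ hχ₀,
        ← hrow2 i (hH0 i hi).1 χ₀ hχ₀]
      simp only [mul_sum, ← sum_add_distrib, ← sum_sub_distrib]
      exact sum_congr rfl fun x _ => by ring
    have hon : ∑ x ∈ H, (zm i x * U₀ χ₀ - zm χ₀ x * U₀ i) ^ 2 =
        (c * (X₀ i * U₀ χ₀ - X₀ χ₀ * U₀ i)) ^ 2 * 4 := by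
      rw [← hX4, mul_sum]
      refine sum_congr rfl fun x hx => ?_
      rw [hUU i hi x hx, hUU χ₀ hχ₀H x hx]
      ring
    rw [← sum_sdiff hHT', hon, hUU i hi i hi, hUU χ₀ hχ₀H χ₀ hχ₀H, hUU i hi χ₀ hχ₀H] at hsum
    have hz' : ∑ x ∈ T \ H, (zm i x * U₀ χ₀ - zm χ₀ x * U₀ i) ^ 2 = 0 := by
      have h1 := he i hi
      have h2 := he χ₀ hχ₀H
      linear_combination hsum + (0 : ℤ) * h1 + (0 : ℤ) * h2
    have h3 := pow_eq_zero_iff two_ne_zero |>.1
      ((sum_eq_zero_iff_of_nonneg fun x _ => sq_nonneg _).1 hz' η hη)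
    simp only [htdef]
    linear_combination (U₀ χ₀) * h3 - zm i η * he χ₀ hχ₀H
  set U : IrrCharacter G → ℤ := fun η => if η ∈ H then U₀ η else t η with hUdef
  set X : IrrCharacter G → ℤ := fun η => if η ∈ H then X₀ η else 0 with hXdef
  have hUH : ∀ i ∈ H, U i = U₀ i := fun i hi => if_pos hi
  have hXH : ∀ i ∈ H, X i = X₀ i := fun i hi => if_pos hi
  have hMH : ∀ i ∈ H, ∀ η ∈ T, zm i η = U₀ i * U η + c * (X₀ i * X η) := by
    intro i hi η hη
    by_cases hηH : η ∈ H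
    · rw [hUH η hηH, hXH η hηH]; exact hUU i hi η hηH
    · rw [hprop i hi η (mem_sdiff.2 ⟨hη, hηH⟩)]
      simp [hUdef, hXdef, hηH]
  have hX4' : ∑ η ∈ T, X η * X η = 4 := by
    rw [← sum_sdiff hHT', sum_eq_zero fun η hη => by simp [hXdef, (mem_sdiff.1 hη).2], zero_add,
      ← hX4]
    exact sum_congr rfl fun i hi => by rw [hXH i hi]
  have hUX' : ∑ η ∈ T, U η * X η = 0 := by
    rw [← sum_sdiff hHT', sum_eq_zero fun η hη => by simp [hXdef, (mem_sdiff.1 hη).2], zero_add,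
      ← hUX]
    exact sum_congr rfl fun i hi => by rw [hUH i hi, hXH i hi]
  have hU4' : ∑ η ∈ T, U η * U η = 4 * c := by
    have e1 := hrow2 χ₀ hχ₀ χ₀ hχ₀
    rw [sum_congr rfl fun η hη => show zm χ₀ η * zm χ₀ η = U₀ χ₀ ^ 2 * (U η * U η) +
        2 * c * (U₀ χ₀ * X₀ χ₀) * (U η * X η) + c ^ 2 * X₀ χ₀ ^ 2 * (X η * X η) by
      rw [hMH χ₀ hχ₀H η hη]; ring, sum_add_distrib, sum_add_distrib, ← mul_sum, ← mul_sum,
      ← mul_sum, hUX', hX4', he χ₀ hχ₀H, hX2 χ₀ hχ₀H, hMii χ₀ hχ₀H] at e1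
    linear_combination e1
  have hMU : ∀ η ∈ T, ∑ κ ∈ T, zm η κ * U κ = 4 * c * U η := by
    intro η hη
    have e4 : ∀ κ ∈ T, ∑ i ∈ H, U₀ i * zm i κ = 4 * U κ := fun κ hκ => by
      rw [sum_congr rfl fun i hi => show U₀ i * zm i κ =
          U κ * (U₀ i * U₀ i) + c * X κ * (U₀ i * X₀ i) by rw [hMH i hi κ hκ]; ring,
        sum_add_distrib, ← mul_sum, ← mul_sum, hU4, hUX]
      ring
    refine mul_left_cancel₀ (four_ne_zero' ℤ) ?_
    rw [show 4 * (4 * c * U η) = 4 * c * (4 * U η) by ring, mul_sum,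
      sum_congr rfl fun κ hκ => show 4 * (zm η κ * U κ) = ∑ i ∈ H, U₀ i * (zm η κ * zm i κ) by
        rw [mul_left_comm, ← e4 κ hκ, mul_sum]; exact sum_congr rfl fun i _ => by ring,
      sum_comm, ← e4 η hη, mul_sum]
    refine sum_congr rfl fun i hi => ?_
    rw [← mul_sum, hrow2 η (hTB η hη) i (hH0 i hi).1, hsymm η (hTB η hη) i (hH0 i hi).1]
    ring
  have hMX : ∀ η ∈ T, ∑ κ ∈ T, zm η κ * X κ = 4 * c * X η := by
    intro η hη
    have e4 : ∀ κ ∈ T, ∑ i ∈ H, X₀ i * zm i κ = 4 * c * X κ := fun κ hκ => by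
      rw [sum_congr rfl fun i hi => show X₀ i * zm i κ =
          U κ * (U₀ i * X₀ i) + c * X κ * (X₀ i * X₀ i) by rw [hMH i hi κ hκ]; ring,
        sum_add_distrib, ← mul_sum, ← mul_sum, hX4, hUX]
      ring
    refine mul_left_cancel₀ (show (4 * c : ℤ) ≠ 0 by omega) ?_
    rw [mul_sum,
      sum_congr rfl fun κ hκ => show 4 * c * (zm η κ * X κ) = ∑ i ∈ H, X₀ i * (zm η κ * zm i κ) by
        rw [mul_left_comm, ← e4 κ hκ, mul_sum]; exact sum_congr rfl fun i _ => by ring,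
      sum_comm, ← e4 η hη, mul_sum]
    refine sum_congr rfl fun i hi => ?_
    rw [← mul_sum, hrow2 η (hTB η hη) i (hH0 i hi).1, hsymm η (hTB η hη) i (hH0 i hi).1]
    ring
  have hP : ∀ η ∈ T, ∀ κ ∈ T, zm η κ = U η * U κ + c * (X η * X κ) := by
    have e1 : ∀ η ∈ T, ∑ κ ∈ T, (zm η κ - (U η * U κ + c * (X η * X κ))) ^ 2 =
        4 * c * (zm η η - U η * U η - c * (X η * X η)) := by
      intro η hη
      rw [sum_congr rfl fun κ _ => show (zm η κ - (U η * U κ + c * (X η * X κ))) ^ 2 =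
          zm η κ * zm η κ - 2 * U η * (zm η κ * U κ) - 2 * c * X η * (zm η κ * X κ) +
          U η * U η * (U κ * U κ) + 2 * c * (U η * X η) * (U κ * X κ) +
          c * c * (X η * X η) * (X κ * X κ) by ring]
      simp only [sum_add_distrib, sum_sub_distrib, ← mul_sum]
      rw [hrow2 η (hTB η hη) η (hTB η hη), hMU η hη, hMX η hη, hU4', hX4', hUX']
      ring
    have e0 : ∑ η ∈ T, ∑ κ ∈ T, (zm η κ - (U η * U κ + c * (X η * X κ))) ^ 2 = 0 := by
      rw [sum_congr rfl e1, ← mul_sum, sum_sub_distrib, sum_sub_distrib, ← mul_sum, htr, hU4', hX4']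
      ring
    intro η hη κ hκ
    have e2 := (sum_eq_zero_iff_of_nonneg fun η _ => sum_nonneg fun κ _ => sq_nonneg _).1 e0 η hη
    exact sub_eq_zero.1 (pow_eq_zero_iff two_ne_zero |>.1
      ((sum_eq_zero_iff_of_nonneg fun κ _ => sq_nonneg _).1 e2 κ hκ))
  have hpar : ∀ η ∈ T, (2 : ℤ) ∣ U η - X η := by
    intro η hη
    by_cases hηH : η ∈ H
    · rw [hUH η hηH, hXH η hηH]
      rcases sq_eq_one_iff.1 (he η hηH) with h1 | h1 <;>
        rcases sq_eq_one_iff.1 (hX2 η hηH) with h2 | h2 <;> simp [U₀, h1, h2]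
    · simp only [hUdef, hXdef, if_neg hηH, sub_zero, htdef]
      exact dvd_mul_of_dvd_right (hzeven χ₀ hχ₀H η (mem_sdiff.2 ⟨hη, hηH⟩)) _
  -- all members
  choose n hn using exists_lift h.hM h.hB hz ⟨1, h.orderOf_z.trans (pow_one 2).symm⟩
  have hn' : ∀ α ∈ B, ∀ β ∈ B, zm α β = ∑ η ∈ T, n α η * zm η β := by
    intro α hα β hβ
    apply Int.cast_injective (α := ℂ)
    push_cast
    rw [hzm α hα, hn α β hβ, mul_sum]
    refine sum_congr rfl fun η hη => ?_
    rw [hzm η (hTB η hη)]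
    push_cast
    ring
  refine ⟨fun α => ∑ η ∈ T, n α η * U η, fun α => ∑ η ∈ T, n α η * X η, fun α _ => ?_,
    fun α hα β hβ => ?_⟩
  · rw [← sum_sub_distrib]
    exact dvd_sum fun η hη => by rw [← mul_sub]; exact dvd_mul_of_dvd_right (hpar η hη) _
  · have e1 : ∀ α ∈ B, ∀ κ ∈ T, zm α κ =
        (∑ η ∈ T, n α η * U η) * U κ + c * ((∑ η ∈ T, n α η * X η) * X κ) := by
      intro α hα κ hκ
      rw [hn' α hα κ (hTB κ hκ), sum_mul, sum_mul, mul_sum, ← sum_add_distrib]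
      exact sum_congr rfl fun η hη => by rw [hP η hη κ hκ]; ring
    have e2 : zm α β = (∑ η ∈ T, n α η * U η) * (∑ η ∈ T, n β η * U η) +
        c * ((∑ η ∈ T, n α η * X η) * (∑ η ∈ T, n β η * X η)) := by
      rw [hn' α hα β hβ, sum_mul (s := T) (f := fun η => n α η * U η),
        sum_mul (s := T) (f := fun η => n α η * X η), mul_sum (s := T) (a := c), ← sum_add_distrib]
      exact sum_congr rfl fun η hη => by
        rw [hsymm η (hTB η hη) β hβ, e1 β hβ η hη]; ring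
    rw [← e2, hzm α hα, hd, Nat.cast_ofNat]

end Semi

end H22.SD
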