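import Cfsg.Agent.H22.SD.Group
import Cfsg.Agent.H22.QuatQuot
import Cfsg.Agent.H22.DihBlock

/-!
# The maximal pair at a given defect group, and the members trivial at the central involution
of a semidihedral defect group
-/

set_option autoImplicit false
set_option linter.unusedSectionVars false
set_option linter.style.haveILetI false

open Cfsg Finset
open scoped MonoidAlgebra

namespace H22.SD

universe u

variable {G : Type u} [Group G] [Fintype G] {M : Ideal AlgInt} [hMp : M.IsPrime]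
  [CharP (H20.k M) 2] [IsAlgClosed (H20.k M)] {B : Set (IrrCharacter G)}

/-- A maximal pair at a given defect group. -/
theorem exists_isMax_at (hM : IsPModular 2 M) (hB : IsPBlock M B) {D : Subgroup G}
    (hD : IsDefectGroup 2 M B D) : ∃ f0, H23.IsMax 2 (H23.eB M B) D f0 := by
  classical
  haveI : Fact (Nat.Prime 2) := ⟨Nat.prime_two⟩
  have hcid := H23.cidem_eB (M := M) hB
  have hC : Subgroup.centralizer ((⊥ : Subgroup G) : Set G) = ⊤ := by
    ext g
    simp [Subgroup.mem_centralizer_iff]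
  have hpair : H23.IsPair 2 (⊥ : Subgroup G) (H23.eB M B) := by
    refine ⟨IsPGroup.of_bot, ?_⟩
    rw [hC]
    exact H23.isBlk_eB hB
  have hin : H23.InBlk (H23.eB M B) (⊥ : Subgroup G) (H23.eB M B) := by
    show _ * H23.Br ⊥ _ = _
    rw [H23.Br_eq_self (hcid.supp.mono hC.ge), hcid.idem]
  obtain ⟨R, e, hmax, -⟩ := H23.exists_max 2 hcid hpair hin
  obtain ⟨g, hg⟩ := H20.defectGroup_conj hM hB (H23.isDefectGroup_of_isMax hB hmax) hD
  have hmax' := hmax.cj' hcid.fix g
  rw [show H23.cjS g R = D from hg] at hmax'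
  exact ⟨_, hmax'⟩

variable {D : Subgroup G} {f0 : (H20.k M)[G]} {r s : G} {a : ℕ}

/-- The members trivial at the central involution. -/
theorem Semi.card_triv (h : Semi M B D f0 r s a) (hz : r ^ 2 ^ a ∈ Subgroup.center G) :
    (H19.CentralPrime.triv B (r ^ 2 ^ a)).card = 2 ^ (a - 1) + 3 := by
  classical
  haveI : Fact (Nat.Prime 2) := ⟨Nat.prime_two⟩
  set z := r ^ 2 ^ a with hzd
  set Z := Subgroup.zpowers z
  haveI : Z.Normal := ⟨fun w hw g => by
    rw [Subgroup.mem_center_iff.1 (Subgroup.zpowers_le.2 hz hw) g, mul_inv_cancel_right]; exact hw⟩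
  haveI : Fintype (G ⧸ Z) := Fintype.ofFinite _
  obtain ⟨Bbar, hBb, hDb, hcard⟩ := H22.QuatQuot.exists_quotient_eq h.hM h.hB hz h.orderOf_z
    (H23.isDefectGroup_of_isMax h.hB h.hmax)
  obtain ⟨f1, hmax⟩ := exists_isMax_at h.hM hBb hDb
  set π := QuotientGroup.mk' Z
  have hker : ∀ x : G, π x = 1 ↔ x ∈ Z := fun x => QuotientGroup.eq_one_iff x
  have hZr : Z ≤ Subgroup.zpowers r := Subgroup.zpowers_le.2 (Subgroup.npow_mem_zpowers r _)
  have hmem : ∀ x : G, π x ∈ Subgroup.zpowers (π r) → x ∈ Subgroup.zpowers r := by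
    intro x hx
    obtain ⟨k, hk⟩ := Subgroup.mem_zpowers_iff.1 hx
    rw [← map_zpow, eq_comm, ← div_eq_one, ← map_div, hker] at hk
    have := mul_mem (hZr hk) (Subgroup.zpow_mem_zpowers r k)
    rwa [div_mul_cancel] at this
  have hdih : H12.DihPairs.Dih M Bbar (D.map π) f1 (π r) (π s) a := by
    refine ⟨h.hM, hBb, hmax, h.ha, ?_, ⟨r, h.rD, rfl⟩, ⟨s, h.sD, rfl⟩, ?_,
      fun e => h.snot (hmem s e), ?_, ?_⟩
    · have hord := orderOf_eq_prime_pow (p := 2) (n := a - 1) (x := π r) ?_ ?_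
      · rwa [Nat.sub_add_cancel (le_of_lt h.ha)] at hord
      · rw [← map_pow, hker]
        intro hw
        have h1 := orderOf_dvd_of_mem_zpowers hw
        rw [h.orderOf_w, h.orderOf_z] at h1
        norm_num at h1
      · rw [Nat.sub_add_cancel (le_of_lt h.ha), ← map_pow, hker]
        exact Subgroup.mem_zpowers z
    · rw [← map_mul, h.s2, map_one]
    · rw [← map_inv π s, ← map_mul, ← map_mul, h.sr]
      refine eq_inv_of_mul_eq_one_left ?_
      rw [← map_mul, ← pow_succ, Nat.sub_add_cancel Nat.one_le_two_pow, hker]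
      exact Subgroup.mem_zpowers z
    · rintro _ ⟨d, hd, rfl⟩
      rcases h.cover d hd with hc | hc
      · obtain ⟨k, rfl⟩ := Subgroup.mem_zpowers_iff.1 hc
        exact Or.inl ⟨k, (map_zpow π r k).symm⟩
      · obtain ⟨k, hk⟩ := Subgroup.mem_zpowers_iff.1 hc
        exact Or.inr ⟨k, by rw [← map_mul, ← hk]; exact (map_zpow π r k).symm⟩
  rw [hcard]
  exact (H22.DihBlock.invariants hdih).1

end H22.SD
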