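import Cfsg.Agent.H22.SD.Rot
import Cfsg.Agent.H22.SD.Quot

/-!
# A 2-block with semidihedral defect group and a central involution of it: the sections
-/

set_option autoImplicit false
set_option linter.unusedSectionVars false
set_option linter.style.haveILetI false
set_option maxHeartbeats 800000

open Cfsg Finset
open scoped MonoidAlgebra ComplexConjugate

namespace H22.SD.Semi

universe u

variable {G : Type u} [Group G] [Fintype G] {M : Ideal AlgInt} [hMp : M.IsPrime]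
  [CharP (H20.k M) 2] [IsAlgClosed (H20.k M)]
  {B : Set (IrrCharacter G)} {D : Subgroup G} {f0 : (H20.k M)[G]} {r s : G} {a : ℕ}

local notation "C[" x "]" => (Subgroup.centralizer ({x} : Set _))
local notation "ε" => H19.MajorBound.eps (r ^ 2 ^ a)

theorem sign_cases (h : Semi M B D f0 r s a) (hz : r ^ 2 ^ a ∈ Subgroup.center G)
    (χ : IrrCharacter G) : ε χ = 1 ∨ ε χ = -1 := by
  have e := H19.MajorBound.eps_pow_orderOf hz χ
  rw [h.orderOf_z] at e
  exact sq_eq_one_iff.1 e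

theorem conj_sign (h : Semi M B D f0 r s a) (hz : r ^ 2 ^ a ∈ Subgroup.center G)
    (χ : IrrCharacter G) : conj (ε χ) = ε χ := by
  rcases h.sign_cases hz χ with e | e <;> simp [e]

theorem bl_z (h : Semi M B D f0 r s a) (hz : r ^ 2 ^ a ∈ Subgroup.center G) :
    bl M D f0 (r ^ 2 ^ a) = H23.eB M B := by
  haveI : Fact (Nat.Prime 2) := ⟨Nat.prime_two⟩
  rw [← H12.SubsecFam.eq_eB_of_one h.hB (h.bl_mem (one_mem D)) (h.bl_inBlk (one_mem D))]
  refine eq_of_le_of_centralizer (h.le_bl (pow_mem h.rD _) (one_mem _)) fun g _ => ?_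
  rw [H23.centralizer_zpowers, Subgroup.mem_centralizer_singleton_iff]
  exact Subgroup.mem_center_iff.1 hz g

/-- The pairing at the central involution. -/
theorem pairC_z (h : Semi M B D f0 r s a) (hz : r ^ 2 ^ a ∈ Subgroup.center G)
    {χ ψ : IrrCharacter G} (hχ : χ ∈ B) (hψ : ψ ∈ B) :
    H23.pairC 2 (r ^ 2 ^ a) (bl M D f0 (r ^ 2 ^ a)) χ ψ = ε χ * ε ψ * H22.Delta 2 χ ψ := by
  haveI : Fact (Nat.Prime 2) := ⟨Nat.prime_two⟩
  have e := pairC_central (M := M) hz ⟨1, h.orderOf_z.trans (pow_one 2).symm⟩ 1 (H23.eB M B) χ ψ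
  rw [mul_one, h.conj_sign hz] at e
  rw [h.bl_z hz, e, ← H12.SubsecFam.reg0_eq_Delta (M := M) h.hB hχ hψ]

/-- An element outside `⟨r⟩` is fused to its translate. -/
theorem pairC_sign (h : Semi M B D f0 r s a) (hz : r ^ 2 ^ a ∈ Subgroup.center G) {v : G}
    (hv : v ∈ D) (hn : v ∉ Subgroup.zpowers r) (χ ψ : IrrCharacter G) :
    ε χ * ε ψ * H23.pairC 2 v (bl M D f0 v) χ ψ = H23.pairC 2 v (bl M D f0 v) χ ψ := by
  haveI : Fact (Nat.Prime 2) := ⟨Nat.prime_two⟩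
  set w := r ^ 2 ^ (a - 1) with hw
  have hwr : w ∈ Subgroup.zpowers r := Subgroup.npow_mem_zpowers r _
  have hvw : v * w * v⁻¹ = w⁻¹ := by rw [(h.conj_cases hv hwr).2 hn, hw, h.s_w]
  have hvw' : v * w⁻¹ * v⁻¹ = w := by
    calc v * w⁻¹ * v⁻¹ = (v * w * v⁻¹)⁻¹ := by group
      _ = w := by rw [hvw, inv_inv]
  have hconj : w * v * w⁻¹ = r ^ 2 ^ a * v := by
    calc w * v * w⁻¹ = w * (v * w⁻¹ * v⁻¹) * v := by group
      _ = w * w * v := by rw [hvw']
      _ = _ := by rw [hw, h.w_sq]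
  have hzD : r ^ 2 ^ a ∈ D := pow_mem h.rD _
  have hzv : bl M D f0 (r ^ 2 ^ a * v) = bl M D f0 v := by
    set Q := Subgroup.zpowers v ⊔ Subgroup.zpowers (r ^ 2 ^ a) with hQ
    obtain ⟨fQ, hfQ⟩ := H23.exists_le 2 h.hmax.1 (sup_le (Subgroup.zpowers_le.2 hv)
      (Subgroup.zpowers_le.2 hzD) : Q ≤ D)
    have hpQ := hfQ.pair_left 2 h.hmax.1
    have key : ∀ u ∈ Q, C[u] ≤ C[v] → fQ = bl M D f0 u := by
      intro u hu hle
      obtain ⟨f, hf⟩ := H23.exists_le 2 hpQ (Subgroup.zpowers_le.2 hu)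
      rw [h.bl_eq (hf.trans hfQ)]
      refine eq_of_le_of_centralizer hf ?_
      rw [H23.centralizer_zpowers]
      intro g hg
      have hg' := Subgroup.mem_centralizer_singleton_iff.1 (hle hg)
      have hsub : Q ≤ C[g] := sup_le
        (Subgroup.zpowers_le.2 (Subgroup.mem_centralizer_singleton_iff.2 hg'.symm))
        (Subgroup.zpowers_le.2 (Subgroup.mem_centralizer_singleton_iff.2
          (Subgroup.mem_center_iff.1 hz g).symm))
      exact Subgroup.mem_centralizer_iff.2 fun q hq =>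
        Subgroup.mem_centralizer_singleton_iff.1 (hsub hq)
    refine ((key _ (mul_mem (Subgroup.mem_sup_right (Subgroup.mem_zpowers _))
      (Subgroup.mem_sup_left (Subgroup.mem_zpowers v))) fun g hg => ?_).symm.trans
      (key v (Subgroup.mem_sup_left (Subgroup.mem_zpowers v)) le_rfl))
    rw [Subgroup.mem_centralizer_singleton_iff] at hg ⊢
    rw [← mul_assoc, Subgroup.mem_center_iff.1 hz g, mul_assoc, mul_assoc] at hg
    exact mul_left_cancel hg
  have e := H23.pairC_cj (p := 2) w v (bl M D f0 v) χ ψ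
  rw [h.cj_bl (h.zpowers_le hwr) hv, hconj, hzv,
    pairC_central hz ⟨1, h.orderOf_z.trans (pow_one 2).symm⟩, h.conj_sign hz] at e
  exact e

/-- An outside subsection has rank one. -/
theorem exists_out_col (h : Semi M B D f0 r s a) {v : G} (hv : Out M D f0 r v) :
    ∃ (c : IrrCharacter G → ℂ) (N : ℂ), N ≠ 0 ∧
      (∀ χ ψ, H23.pairC 2 v (bl M D f0 v) χ ψ = c χ * conj (c ψ) / N) ∧
      ∑ χ ∈ H22.blockFinset B, c χ * conj (c χ) = N ∧
      ∀ χ ∈ B, blockHeight 2 B (χ : G → ℂ) = 0 → c χ ≠ 0 := by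
  classical
  haveI : Fact (Nat.Prime 2) := ⟨Nat.prime_two⟩
  haveI : Fintype C[v] := Fintype.ofFinite _
  obtain ⟨β, hβ, hβe⟩ := H20.Klein.exists_block (h.bl_pair hv.1)
  have hx := h.exists_orderOf hv.1
  have hin : H23.InBlk (H23.eB M B) (Subgroup.zpowers v) (H23.eG M C[v] β) := by
    rw [hβe]; exact h.bl_inBlk hv.1
  have hind := H20.Klein.induced_of_inBlk h.hM h.hB hx hβ hin
  have hr : blockRank 2 β = 1 := by
    by_cases hv2 : v * v = 1
    · refine H20.Klein.blockRank_eq_one h.hM hβ (H22.Contrib.self_mem_center v) ?_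
        (h.defect_out hv hv2 hβ hβe)
      rw [← Subgroup.orderOf_coe]
      exact orderOf_eq_prime (by rw [pow_two]; exact hv2) fun e =>
        hv.not_mem ((show v = 1 from e).symm ▸ one_mem _)
    · have e1 := H12.SubsecFam.sum_pairC_self h.hM h.hB hx hβ hin
      rw [hβe, (h.loc_out hv hv2).sum_pairC_eq_one h.hB (h.bl_inBlk hv.1)] at e1
      exact_mod_cast e1.symm
  obtain ⟨Dc⟩ := H22.One.exists_data h.hM hβ hr
  have hp : ∀ χ ψ, H23.pairC 2 v (bl M D f0 v) χ ψ =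
      H22.One.col Dc 1 χ * conj (H22.One.col Dc 1 ψ) / ((2 : ℕ) : ℂ) ^ blockDefect 2 β := by
    intro χ ψ
    rw [← hβe]
    exact pairC_col Dc h.hM hx hind χ ψ
  refine ⟨_, _, pow_ne_zero _ (by norm_num), hp, H22.One.sum_col_sq Dc h.hM hx hind,
    fun χ hχ h0 e => ?_⟩
  apply pairC_ne_zero h.hM hx hind hχ hχ h0 h0
  rw [hβe, hp, e, zero_mul, zero_div]

/-- The outside involution gives an integral column of norm four, odd in height zero. -/
theorem exists_scol (h : Semi M B D f0 r s a) (hs : Out M D f0 r s) :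
    ∃ y : IrrCharacter G → ℤ,
      (∀ χ ψ, H23.pairC 2 s (bl M D f0 s) χ ψ = ((y χ * y ψ : ℤ) : ℂ) / 4) ∧
      ∑ χ ∈ H22.blockFinset B, y χ ^ 2 = 4 ∧
      ∀ χ ∈ B, blockHeight 2 B (χ : G → ℂ) = 0 → ¬ (2 : ℤ) ∣ y χ := by
  classical
  haveI : Fact (Nat.Prime 2) := ⟨Nat.prime_two⟩
  haveI : Fintype C[s] := Fintype.ofFinite _
  obtain ⟨β, hβ, hβe⟩ := H20.Klein.exists_block (h.bl_pair h.sD)
  have hx := h.exists_orderOf h.sD
  have hind := H20.Klein.induced_of_inBlk h.hM h.hB hx hβ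
    (by rw [hβe]; exact h.bl_inBlk h.sD)
  have hd := h.defect_out hs h.s2 hβ hβe
  have hr : blockRank 2 β = 1 := H20.Klein.blockRank_eq_one h.hM hβ (H22.Contrib.self_mem_center s)
    (by rw [← Subgroup.orderOf_coe]
        exact orderOf_eq_prime (by rw [pow_two]; exact h.s2) fun e =>
          h.snot ((show s = 1 from e).symm ▸ one_mem _)) hd
  obtain ⟨Dc⟩ := H22.One.exists_data h.hM hβ hr
  choose y hy using fun χ => H22.One.exists_col_int (G := G) Dc (by rw [pow_two]; exact h.s2) χ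
  have hp : ∀ χ ψ, H23.pairC 2 s (bl M D f0 s) χ ψ = ((y χ * y ψ : ℤ) : ℂ) / 4 := by
    intro χ ψ
    rw [← hβe, pairC_col Dc h.hM hx hind, hy, hy, hd, map_intCast]
    push_cast
    norm_num
  refine ⟨y, hp, ?_, fun χ hχ h0 hdvd => ?_⟩
  · have e := H22.One.sum_col_sq Dc h.hM hx hind
    simp only [hy, map_intCast, hd] at e
    have e2 : ((∑ χ ∈ H22.blockFinset B, y χ ^ 2 : ℤ) : ℂ) = ((4 : ℤ) : ℂ) := by
      push_cast
      rw [sum_congr rfl fun χ _ => pow_two (y χ : ℂ), e]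
      norm_num
    exact_mod_cast e2
  · obtain ⟨S⟩ := H22.Contrib.exists_setup h.hM hx hind
    apply S.aval_not_memIdeal hχ hχ h0 h0
    rw [aval_eq_pairC S hx hβ, hβe, hp, hd,
      show ((2 : ℕ) : ℂ) ^ 2 * (((y χ * y χ : ℤ) : ℂ) / 4) = ((y χ * y χ : ℤ) : ℂ) by
        push_cast; ring,
      H20.intCast_memIdeal_iff h.hM]
    exact_mod_cast dvd_mul_of_dvd_left hdvd (y χ)

theorem out_s (h : Semi M B D f0 r s a) (hz : r ^ 2 ^ a ∈ Subgroup.center G) :
    Out M D f0 r s := by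
  refine ⟨h.sD, fun v hv hf => h.snot ?_⟩
  obtain ⟨g, hg, -⟩ := hf
  have hs : s = g⁻¹ * v * g := by rw [← hg]; group
  have hv2 : v * v = 1 := by
    rw [← hg]
    calc g * s * g⁻¹ * (g * s * g⁻¹) = g * (s * s) * g⁻¹ := by group
      _ = 1 := by rw [h.s2]; group
  rcases h.sq_eq_one_cases hv hv2 with e | e
  · rw [hs, e, mul_one, inv_mul_cancel]; exact one_mem _
  · rw [hs, e, mul_assoc, ← Subgroup.mem_center_iff.1 hz g, inv_mul_cancel_left]
    exact Subgroup.npow_mem_zpowers r _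

/-- The sum over the rotations. -/
theorem sum_reps_pair (h : Semi M B D f0 r s a) (R : RotData M D f0 r a) (χ ψ : IrrCharacter G) :
    4 * ((2 ^ a : ℕ) : ℂ) *
        ∑ i : ↥(reps (2 ^ a)), H23.pairC 2 (r ^ (i : ℕ)) (bl M D f0 (r ^ (i : ℕ))) χ ψ =
      ∑ j ∈ offs (2 ^ a), R.F χ j * conj (R.F ψ j) := by
  have hN : ((2 ^ a : ℕ) : ℂ) ≠ 0 := Nat.cast_ne_zero.2 (by positivity)
  rw [sum_coe_sort (reps (2 ^ a)) (fun i => H23.pairC 2 (r ^ i) (bl M D f0 (r ^ i)) χ ψ),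
    sum_offs_reps h.ha, mul_sum]
  refine sum_congr rfl fun i hi => ?_
  rw [R.F_sig h.ha, R.F_sig h.ha, R.pair i (mem_reps.1 hi).1]
  simp only [RotData.F]
  push_cast
  have hN' : (2 : ℂ) ^ a ≠ 0 := pow_ne_zero _ two_ne_zero
  field_simp
  ring

theorem sum_out {β : Type*} [AddCommMonoid β] (P : Bool → Prop) [DecidablePred P] (f : Bool → β) :
    ∑ b : {b : Bool // P b}, f b =
      (if P true then f true else 0) + (if P false then f false else 0) := by
  rw [← Finset.sum_subtype (univ.filter P) (fun x => by simp) f, sum_filter, Fintype.sum_bool]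

open Classical in
/-- **Orthogonality**, scaled by four times `2 ^ a`. -/
theorem master (h : Semi M B D f0 r s a) (hz : r ^ 2 ^ a ∈ Subgroup.center G)
    (R : RotData M D f0 r a) {y : IrrCharacter G → ℤ}
    (hy : ∀ χ ψ, H23.pairC 2 s (bl M D f0 s) χ ψ = ((y χ * y ψ : ℤ) : ℂ) / 4)
    {χ ψ : IrrCharacter G} (hχ : χ ∈ B) (hψ : ψ ∈ B) :
    4 * ((2 ^ a : ℕ) : ℂ) * classInner (χ : G → ℂ) (ψ : G → ℂ) =
      (1 + ε χ * ε ψ) * (4 * ((2 ^ a : ℕ) : ℂ) * H22.Delta 2 χ ψ) +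
        ∑ j ∈ offs (2 ^ a), R.F χ j * conj (R.F ψ j) +
        ((2 ^ a : ℕ) : ℂ) * ((y χ * y ψ : ℤ) : ℂ) +
        (if Out M D f0 r (s * r) then
          4 * ((2 ^ a : ℕ) : ℂ) * H23.pairC 2 (s * r) (bl M D f0 (s * r)) χ ψ else 0) := by
  haveI : Fact (Nat.Prime 2) := ⟨Nat.prime_two⟩
  rw [H12.SubsecFam.delta_eq h.fam h.hM h.hB hχ ψ, H12.SubsecFam.reg0_eq_Delta h.hB hχ hψ,
    Fintype.sum_sum_type, Fintype.sum_sum_type]
  simp only [rep, Sum.elim_inl, Sum.elim_inr]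
  rw [Fintype.sum_unique (f := fun _ : Unit => H23.pairC 2 (r ^ 2 ^ a) (bl M D f0 (r ^ 2 ^ a)) χ ψ),
    h.pairC_z hz hχ hψ,
    sum_out (fun b => Out M D f0 r (pick r s b))
      (fun b => H23.pairC 2 (pick r s b) (bl M D f0 (pick r s b)) χ ψ)]
  simp only [pick, cond_true, cond_false]
  rw [if_pos (h.out_s hz), hy]
  rw [← h.sum_reps_pair R χ ψ]
  split_ifs <;> ring

end H22.SD.Semi
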