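import Cfsg.Agent.H22.SD.MajorBase

/-!
# A 2-block with semidihedral defect group and a central involution of it: the counts
-/

set_option autoImplicit false
set_option linter.unusedSectionVars false
set_option linter.style.haveILetI false
set_option maxHeartbeats 800000

open Cfsg Finset
open scoped MonoidAlgebra ComplexConjugate

namespace H22.SD

universe u

variable {G : Type u} [Group G] [Fintype G] {M : Ideal AlgInt} [hMp : M.IsPrime]
  [CharP (H20.k M) 2] [IsAlgClosed (H20.k M)]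
  {B : Set (IrrCharacter G)} {D : Subgroup G} {f0 : (H20.k M)[G]} {r s : G} {a : ℕ}

local notation "ε" => H19.MajorBound.eps (r ^ 2 ^ a)

/-- Translating the exponent by `q` multiplies the column by the central sign. -/
theorem RotData.F_shift (R : RotData M D f0 r a) (hz : r ^ 2 ^ a ∈ Subgroup.center G)
    (χ : IrrCharacter G) (j : ℕ) :
    R.F χ ((j + 2 ^ a) % (2 * 2 ^ a)) = ε χ * R.F χ j := by
  simp only [RotData.F, four]
  rw [mul_sum]
  refine sum_congr rfl fun l _ => ?_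
  rw [← R.pow_mod ((j + 2 ^ a) % (2 * 2 ^ a) * l), Nat.mod_mul_mod, R.pow_mod, add_mul, pow_add,
    pow_mul R.ζ (2 ^ a) l, pow_half R.prim (by positivity)]
  by_cases hm : R.m χ l = 0
  · simp [hm]
  · rw [R.sign hz χ l hm]
    ring

/-- The exponents moved by `q` to their partner. -/
theorem filter_shift (ha : 2 ≤ a) :
    (offs (2 ^ a)).filter (fun j => (j + 2 ^ a) % (2 * 2 ^ a) = sig (2 ^ a) j) =
      {2 * 2 ^ (a - 2), 6 * 2 ^ (a - 2)} := by
  obtain ⟨g, hg, hg0⟩ : ∃ g, 2 ^ a = 4 * g ∧ 0 < g := ⟨_, two_pow_eq ha, by positivity⟩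
  rw [show 2 ^ (a - 2) = g by have := two_pow_eq ha; omega, hg]
  ext j
  rw [Finset.mem_filter, mem_offs, mem_insert, mem_singleton]
  simp only [sig]
  constructor
  · rintro ⟨⟨h1, h2, h3⟩, he⟩
    have h8 : ((2 * (4 * g) : ℕ) : ℤ) ∣ (((4 * g - 1) * j : ℕ) : ℤ) - ((j + 4 * g : ℕ) : ℤ) :=
      Nat.modEq_iff_dvd.1 he
    obtain ⟨k, hk⟩ := h8
    push_cast [show 1 ≤ 4 * g by omega] at hk
    have hj : (j : ℤ) = 2 * (g : ℤ) * ((j : ℤ) - 1 - 2 * k) :=
      mul_left_cancel₀ (two_ne_zero' ℤ) (by linear_combination -hk)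
    generalize (j : ℤ) - 1 - 2 * k = t at hj
    have ht1 : 1 ≤ t := by
      by_contra hlt
      have : 2 * (g : ℤ) * t ≤ 0 := mul_nonpos_of_nonneg_of_nonpos (by positivity) (by omega)
      omega
    have ht2 : t < 4 := by
      by_contra hlt
      have : 2 * (g : ℤ) * 4 ≤ 2 * (g : ℤ) * t := mul_le_mul_of_nonneg_left (by omega) (by positivity)
      omega
    interval_cases t <;> omega
  · have key : ∀ c : ℕ, c = 1 ∨ c = 3 → (4 * g - 1) * (2 * c * g) % (2 * (4 * g)) =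
        2 * (4 - c) * g := by
      intro c hc
      obtain ⟨d, hd⟩ : ∃ d, c * g = d + 1 := ⟨c * g - 1, by rcases hc with rfl | rfl <;> omega⟩
      have e : (4 * g - 1) * (2 * c * g) = 2 * (4 - c) * g + 2 * (4 * g) * d := by
        zify [show 1 ≤ 4 * g by omega, show c ≤ 4 by omega] at hd ⊢
        linear_combination (8 * (g : ℤ)) * hd
      rw [e, Nat.add_mul_mod_self_left, Nat.mod_eq_of_lt (by rcases hc with rfl | rfl <;> omega)]
    rintro (rfl | rfl)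
    · refine ⟨by omega, ?_⟩
      rw [show (2 * g) = 2 * 1 * g by ring, key 1 (Or.inl rfl), Nat.mod_eq_of_lt (by omega)]
      omega
    · refine ⟨by omega, ?_⟩
      rw [show (6 * g) = 2 * 3 * g by ring, key 3 (Or.inr rfl),
        show 2 * 3 * g + 4 * g = 2 * g + 2 * (4 * g) by ring, Nat.add_mod_right,
        Nat.mod_eq_of_lt (by omega)]

namespace Semi

/-- The height-zero members are trivial at the central involution. -/
theorem eps_height_zero (h : Semi M B D f0 r s a) (hz : r ^ 2 ^ a ∈ Subgroup.center G)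
    {y : IrrCharacter G → ℤ}
    (hy : ∀ χ ψ, H23.pairC 2 s (bl M D f0 s) χ ψ = ((y χ * y ψ : ℤ) : ℂ) / 4)
    (hodd : ∀ χ ∈ B, blockHeight 2 B (χ : G → ℂ) = 0 → ¬ (2 : ℤ) ∣ y χ) :
    (∀ χ ∈ B, blockHeight 2 B (χ : G → ℂ) = 0 → ε χ = 1) ∧
      ∀ χ, y χ ≠ 0 → ε χ = 1 := by
  classical
  haveI : Fact (Nat.Prime 2) := ⟨Nat.prime_two⟩
  have hsame : ∀ χ ψ, y χ ≠ 0 → y ψ ≠ 0 → ε χ * ε ψ = 1 := by
    intro χ ψ h1 h2
    have e := h.pairC_sign hz h.sD h.snot χ ψ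
    rw [hy] at e
    refine mul_right_cancel₀ (b := ((y χ * y ψ : ℤ) : ℂ) / 4) ?_ (by rw [one_mul]; exact e)
    exact div_ne_zero (Int.cast_ne_zero.2 (mul_ne_zero h1 h2)) (by norm_num)
  obtain ⟨χ₀, hχ₀, he₀⟩ := H22.exists_height_zero (p := 2) (H20.block_nonempty h.hB)
  have h00 : blockHeight 2 B (χ₀ : G → ℂ) = 0 := Nat.sub_eq_zero_of_le he₀.le
  obtain ⟨zm, hzm, hmat⟩ := H22.exists_isDeltaMatrix (p := 2) h.hM h.hB
  obtain ⟨n, hn⟩ := exists_lift h.hM h.hB hz ⟨1, h.orderOf_z.trans (pow_one 2).symm⟩ χ₀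
  obtain ⟨η, hη, hηo⟩ : ∃ η ∈ H19.CentralPrime.triv B (r ^ 2 ^ a), ¬ (2 : ℤ) ∣ zm η χ₀ := by
    by_contra hcon
    push Not at hcon
    apply hmat.exact_zero χ₀ hχ₀ χ₀ hχ₀ h00
    rw [h00, zero_add, pow_one, Nat.cast_ofNat]
    have e : zm χ₀ χ₀ = ∑ η ∈ H19.CentralPrime.triv B (r ^ 2 ^ a), n η * zm η χ₀ := by
      apply Int.cast_injective (α := ℂ)
      push_cast
      rw [hzm χ₀ hχ₀, hn χ₀ hχ₀, mul_sum]
      refine sum_congr rfl fun η hη => ?_
      rw [hzm η (H19.CentralPrime.mem_triv.1 hη).1]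
      push_cast
      ring
    rw [e]
    exact dvd_sum fun η hη => dvd_mul_of_dvd_right (hcon η hη) _
  obtain ⟨hηB, hηz⟩ := H19.CentralPrime.mem_triv.1 hη
  have hη0 : blockHeight 2 B (η : G → ℂ) = 0 := by
    by_contra hne
    exact hηo ((dvd_pow_self (2 : ℤ) hne).trans (by exact_mod_cast hmat.dvd η hηB χ₀ hχ₀))
  have hηy : y η ≠ 0 := fun e => hodd η hηB hη0 (e ▸ dvd_zero _)
  have hall : ∀ χ, y χ ≠ 0 → ε χ = 1 := fun χ hχ => by
    have e := hsame χ η hχ hηy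
    rwa [(H19.CentralPrime.eps_eq_one_iff hz η).2 hηz, mul_one] at e
  exact ⟨fun χ hχ h0 => hall χ fun e => hodd χ hχ h0 (e ▸ dvd_zero _), hall⟩

theorem sum_F_sq (h : Semi M B D f0 r s a) (R : RotData M D f0 r a) :
    ∑ χ ∈ H22.blockFinset B, ∑ j ∈ offs (2 ^ a), R.F χ j * conj (R.F χ j) =
      2 * ((2 ^ a : ℕ) : ℂ) * (2 * ((2 ^ a : ℕ) : ℂ) - 2) := by
  rw [sum_comm, sum_congr rfl fun j hj => show ∑ χ ∈ H22.blockFinset B, R.F χ j * conj (R.F χ j) =
      ((2 * 2 ^ a : ℕ) : ℂ) by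
    rw [sum_congr rfl fun χ _ => mul_comm _ _, h.sum_F R hj hj, if_pos (Or.inl rfl)], sum_const,
    nsmul_eq_mul]
  have e : (((offs (2 ^ a)).card : ℤ) : ℂ) = ((2 * ((2 ^ a : ℕ) : ℤ) - 2 : ℤ) : ℂ) := by
    rw [card_offs (by positivity)]
  push_cast at e ⊢
  rw [e]
  ring

theorem sum_sign_F (h : Semi M B D f0 r s a) (hz : r ^ 2 ^ a ∈ Subgroup.center G)
    (R : RotData M D f0 r a) :
    ∑ χ ∈ H22.blockFinset B, ε χ * ∑ j ∈ offs (2 ^ a), R.F χ j * conj (R.F χ j) =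
      4 * ((2 ^ a : ℕ) : ℂ) := by
  have hq := h.four_le_q
  have e1 : ∀ χ, ε χ * ∑ j ∈ offs (2 ^ a), R.F χ j * conj (R.F χ j) =
      ∑ j ∈ offs (2 ^ a), conj (R.F χ j) * R.F χ ((j + 2 ^ a) % (2 * 2 ^ a)) := fun χ => by
    rw [mul_sum]
    exact sum_congr rfl fun j _ => by rw [R.F_shift hz]; ring
  rw [sum_congr rfl fun χ _ => e1 χ, sum_comm, sum_congr rfl fun j hj => h.sum_F R hj (mem_offs.2
    ⟨Nat.mod_lt _ (by omega), ?_, ?_⟩)]
  · rw [← sum_filter, show (offs (2 ^ a)).filter (fun j => (j + 2 ^ a) % (2 * 2 ^ a) = j ∨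
        (j + 2 ^ a) % (2 * 2 ^ a) = sig (2 ^ a) j) =
        (offs (2 ^ a)).filter (fun j => (j + 2 ^ a) % (2 * 2 ^ a) = sig (2 ^ a) j) from
      filter_congr fun j hj => or_iff_right fun e => by
        have h1 := (mem_offs.1 hj).1
        rcases Nat.lt_or_ge (j + 2 ^ a) (2 * 2 ^ a) with hlt | hge
        · rw [Nat.mod_eq_of_lt hlt] at e; omega
        · rw [Nat.mod_eq_sub_mod hge, Nat.mod_eq_of_lt (by omega)] at e; omega,
      filter_shift h.ha, sum_const, card_pair (by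
        have := Nat.one_le_two_pow (n := a - 2); omega), nsmul_eq_mul]
    push_cast
    ring
  all_goals
    obtain ⟨h1, h2, h3⟩ := mem_offs.1 hj
    rcases Nat.lt_or_ge (j + 2 ^ a) (2 * 2 ^ a) with hlt | hge
    · rw [Nat.mod_eq_of_lt hlt]; omega
    · rw [Nat.mod_eq_sub_mod hge, Nat.mod_eq_of_lt (by omega)]; omega

open Classical in
/-- **Either the outside element of order four gives a subsection and the rank is one, or it
gives none and the rank is two.** -/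
theorem rank_cases (h : Semi M B D f0 r s a) (hz : r ^ 2 ^ a ∈ Subgroup.center G) :
    blockRank 2 B + (if Out M D f0 r (s * r) then 1 else 0) = 2 := by
  haveI : Fact (Nat.Prime 2) := ⟨Nat.prime_two⟩
  obtain ⟨R⟩ := h.exists_rot
  obtain ⟨y, hy, hy4, hyodd⟩ := h.exists_scol (h.out_s hz)
  obtain ⟨hH, hysign⟩ := h.eps_height_zero hz hy hyodd
  set sB := H22.blockFinset B
  set q : ℂ := ((2 ^ a : ℕ) : ℂ) with hqd
  set l : ℂ := (blockRank 2 B : ℂ) with hl
  set T := H19.CentralPrime.triv B (r ^ 2 ^ a) with hT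
  have hmem : ∀ χ ∈ sB, χ ∈ B := fun χ hχ => H22.mem_blockFinset.1 hχ
  have hTs : T ⊆ sB := fun χ hχ => H22.mem_blockFinset.2 (H19.CentralPrime.mem_triv.1 hχ).1
  have hεT : ∀ χ ∈ sB, ε χ = 2 * (if χ ∈ T then (1 : ℂ) else 0) - 1 := by
    intro χ hχ
    by_cases hχT : χ ∈ T
    · rw [if_pos hχT, (H19.CentralPrime.eps_eq_one_iff hz χ).2 (H19.CentralPrime.mem_triv.1 hχT).2]
      norm_num
    · rw [if_neg hχT]
      rcases h.sign_cases hz χ with e | e
      · exact absurd (H19.CentralPrime.mem_triv.2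
          ⟨hmem χ hχ, (H19.CentralPrime.eps_eq_one_iff hz χ).1 e⟩) hχT
      · rw [e]; norm_num
  have hε2 : ∀ χ, ε χ * ε χ = 1 := fun χ => by
    rcases h.sign_cases hz χ with e | e <;> rw [e] <;> norm_num
  -- the sums of the terms
  have hD : ∑ χ ∈ sB, H22.Delta 2 χ χ = l := by
    rw [hl, ← H12.SubsecFam.sum_reg0 h.hM h.hB]
    exact sum_congr rfl fun χ hχ =>
      (H12.SubsecFam.reg0_eq_Delta h.hB (hmem χ hχ) (hmem χ hχ)).symm
  have hDε : ∑ χ ∈ sB, ε χ * H22.Delta 2 χ χ = 0 := by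
    rw [sum_congr rfl fun χ hχ => by rw [hεT χ hχ, sub_mul, one_mul, mul_assoc, ite_mul, one_mul,
      zero_mul], sum_sub_distrib, ← mul_sum, ← sum_filter, filter_mem_eq_inter, inter_eq_right.2 hTs,
      H19.CentralPrime.sum_triv_Delta_self h.hM h.hB hz h.orderOf_z, hD, hl]
    push_cast
    ring
  have hY : ∑ χ ∈ sB, ((y χ * y χ : ℤ) : ℂ) = 4 := by
    rw [sum_congr rfl fun χ _ => show ((y χ * y χ : ℤ) : ℂ) = ((y χ ^ 2 : ℤ) : ℂ) by rw [pow_two],
      ← Int.cast_sum, hy4]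
    norm_num
  have hYε : ∀ χ, ε χ * ((y χ * y χ : ℤ) : ℂ) = ((y χ * y χ : ℤ) : ℂ) := fun χ => by
    by_cases e : y χ = 0
    · simp [e]
    · rw [hysign χ e, one_mul]
  set P : IrrCharacter G → ℂ := fun χ => if Out M D f0 r (s * r) then
    4 * q * H23.pairC 2 (s * r) (bl M D f0 (s * r)) χ χ else 0 with hP
  set τ : ℂ := if Out M D f0 r (s * r) then 1 else 0 with hτ
  have hPsum : ∑ χ ∈ sB, P χ = 4 * q * τ ∧ ∀ χ ∈ sB, ε χ * P χ = P χ := by
    by_cases ht : Out M D f0 r (s * r)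
    · simp only [hP, hτ, if_pos ht, mul_one]
      obtain ⟨c, N, hN, hc, hcs, hc0⟩ := h.exists_out_col ht
      refine ⟨?_, fun χ hχ => ?_⟩
      · rw [← mul_sum, sum_congr rfl fun χ _ => hc χ χ, ← sum_div, hcs, div_self hN, mul_one]
      · obtain ⟨χ₀, hχ₀, he₀⟩ := H22.exists_height_zero (p := 2) (H20.block_nonempty h.hB)
        have h00 : blockHeight 2 B (χ₀ : G → ℂ) = 0 := Nat.sub_eq_zero_of_le he₀.le
        by_cases e : c χ = 0
        · rw [hc, e]; simp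
        · have e2 := h.pairC_sign hz ht.1 ht.not_mem χ χ₀
          rw [hH χ₀ hχ₀ h00, mul_one, hc] at e2
          rw [mul_right_cancel₀ (b := c χ * conj (c χ₀) / N) (div_ne_zero (mul_ne_zero e
            ((map_ne_zero _).2 (hc0 χ₀ hχ₀ h00))) hN) (e2.trans (one_mul _).symm), one_mul]
    · simp [hP, hτ, if_neg ht]
  have hdiag : ∀ χ ∈ sB, 4 * q = 2 * (4 * q * H22.Delta 2 χ χ) +
      ∑ j ∈ offs (2 ^ a), R.F χ j * conj (R.F χ j) + q * ((y χ * y χ : ℤ) : ℂ) + P χ := by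
    intro χ hχ
    have e := h.master hz R hy (hmem χ hχ) (hmem χ hχ)
    rw [H12.classInner_irr_self, mul_one, hε2] at e
    simp only [hP, hqd]
    linear_combination e
  have e1 := sum_congr (s₁ := sB) rfl hdiag
  simp only [sum_add_distrib, ← mul_sum, sum_const, nsmul_eq_mul] at e1
  rw [hD, h.sum_F_sq R, hY, hPsum.1] at e1
  have e2 := sum_congr (s₁ := sB) rfl fun χ hχ => congrArg (ε χ * ·) (hdiag χ hχ)
  simp only [mul_add, sum_add_distrib] at e2
  rw [sum_congr rfl fun χ hχ => hPsum.2 χ hχ, hPsum.1,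
    sum_congr rfl fun χ _ => show ε χ * (q * ((y χ * y χ : ℤ) : ℂ)) = q * ((y χ * y χ : ℤ) : ℂ) by
      rw [mul_left_comm, hYε], ← mul_sum, hY,
    sum_congr rfl fun χ _ => show ε χ * (2 * (4 * q * H22.Delta 2 χ χ)) =
      2 * (4 * q) * (ε χ * H22.Delta 2 χ χ) by ring, ← mul_sum, hDε, h.sum_sign_F hz R,
    sum_congr rfl fun χ hχ => by rw [hεT χ hχ, sub_mul, one_mul, mul_assoc, ite_mul, one_mul,
      zero_mul], sum_sub_distrib, ← mul_sum, ← sum_filter, filter_mem_eq_inter,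
    inter_eq_right.2 hTs, sum_const, sum_const, nsmul_eq_mul, nsmul_eq_mul,
    h.card_triv hz] at e2
  have ha : (2 : ℂ) ^ a = 2 * 2 ^ (a - 1) := by
    rw [← pow_succ', Nat.sub_add_cancel (le_of_lt h.ha)]
  have hq0 : q ≠ 0 := Nat.cast_ne_zero.2 (by positivity)
  have e3 : (4 * q) * (2 * (l + τ - 2)) = 0 := by
    push_cast [hqd] at e1 e2 ⊢
    linear_combination -e1 - e2 - (4 * (2 : ℂ) ^ a) * ha
  have e4 := sub_eq_zero.1 ((mul_eq_zero.1 ((mul_eq_zero.1 e3).resolve_left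
    (mul_ne_zero (by norm_num) hq0))).resolve_left two_ne_zero)
  rw [hl, hτ] at e4
  split_ifs at e4 ⊢
  · exact_mod_cast e4
  · rw [add_zero] at e4 ⊢
    exact_mod_cast e4

end Semi

end H22.SD
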