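import Cfsg.Agent.H22.SD.Fourier

/-!
# The involution `i ↦ (q - 1) i` on the exponents modulo `2 q`, `q = 2 ^ a`
-/

set_option autoImplicit false
set_option linter.unusedSectionVars false

open Finset
open scoped ComplexConjugate

namespace H22.SD

/-- Multiplication by `q - 1` modulo `2 q`. -/
def sig (q i : ℕ) : ℕ := (q - 1) * i % (2 * q)

/-- One exponent from each pair. -/
def reps (q : ℕ) : Finset ℕ := (offs q).filter fun i => i < sig q i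

variable {a : ℕ}

theorem two_pow_eq (ha : 2 ≤ a) : 2 ^ a = 4 * 2 ^ (a - 2) := by
  rw [show (4 : ℕ) = 2 ^ 2 by norm_num, ← pow_add]
  congr 1
  omega

theorem four_le_pow (ha : 2 ≤ a) : 4 ≤ 2 ^ a := by
  rw [two_pow_eq ha]
  have : 1 ≤ 2 ^ (a - 2) := Nat.one_le_two_pow
  omega

theorem pred_sq (ha : 2 ≤ a) :
    (2 ^ a - 1) * (2 ^ a - 1) ≡ 1 [MOD 2 * 2 ^ a] := by
  obtain ⟨h, hh⟩ : ∃ h, 2 ^ a = 2 * h + 2 := ⟨2 ^ a / 2 - 1, by
    have := two_pow_eq ha; have := four_le_pow ha; omega⟩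
  rw [hh, Nat.ModEq.comm, Nat.modEq_iff_dvd' (by nlinarith [show 2 * h + 2 - 1 = 2 * h + 1 by omega])]
  refine ⟨h, ?_⟩
  rw [show 2 * h + 2 - 1 = 2 * h + 1 by omega]
  have : (2 * h + 1) * (2 * h + 1) = 2 * (2 * h + 2) * h + 1 := by ring
  omega

theorem sig_lt (i : ℕ) : sig (2 ^ a) i < 2 * 2 ^ a := Nat.mod_lt _ (by positivity)

theorem sig_sig (ha : 2 ≤ a) {i : ℕ} (hi : i < 2 * 2 ^ a) : sig (2 ^ a) (sig (2 ^ a) i) = i := by
  have h : (2 ^ a - 1) * sig (2 ^ a) i ≡ i [MOD 2 * 2 ^ a] := by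
    refine ((Nat.mod_modEq _ _).mul_left _).trans ?_
    rw [← mul_assoc]
    simpa using (pred_sq ha).mul_right i
  exact Eq.trans h (Nat.mod_eq_of_lt hi)

/-- The fixed exponents. -/
theorem dvd_of_fixed (ha : 2 ≤ a) {i : ℕ} (h : (2 ^ a - 1) * i ≡ i [MOD 2 * 2 ^ a]) :
    2 ^ a ∣ i := by
  have h4 := four_le_pow ha
  have h1 : 2 * 2 ^ a ∣ (2 ^ a - 2) * i := by
    have h2 := (Nat.modEq_iff_dvd' (Nat.le_mul_of_pos_left i (by omega))).1 h.symm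
    rwa [show (2 ^ a - 1) * i - i = (2 ^ a - 2) * i by
      rw [← Nat.sub_one_mul, Nat.sub_sub]] at h2
  obtain ⟨h', hh⟩ : ∃ h, 2 ^ a - 2 = 2 * (2 * h + 1) :=
    ⟨2 ^ (a - 2) - 1, by have := two_pow_eq ha; omega⟩
  rw [hh, mul_assoc] at h1
  exact (Nat.Coprime.pow_left a (Nat.coprime_two_left.2 (odd_two_mul_add_one h'))).dvd_of_dvd_mul_left
    (Nat.dvd_of_mul_dvd_mul_left two_pos h1)

theorem pow_dvd_sig_iff (ha : 2 ≤ a) {i : ℕ} : 2 ^ a ∣ sig (2 ^ a) i ↔ 2 ^ a ∣ i := by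
  rw [sig, Nat.dvd_mod_iff (dvd_mul_left _ 2)]
  have h4 := four_le_pow ha
  refine Nat.Coprime.dvd_mul_left (Nat.Coprime.pow_left a (Nat.coprime_two_left.2 ?_))
  rw [Nat.odd_iff]
  have := two_pow_eq ha
  omega

theorem sig_mem (ha : 2 ≤ a) {i : ℕ} (hi : i ∈ offs (2 ^ a)) : sig (2 ^ a) i ∈ offs (2 ^ a) := by
  obtain ⟨h1, h2, h3⟩ := mem_offs.1 hi
  have hnd : ¬ 2 ^ a ∣ i := by
    rintro ⟨c, rfl⟩
    rcases c with _ | _ | c
    · simp at h2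
    · simp at h3
    · nlinarith [four_le_pow ha]
  rw [← pow_dvd_sig_iff ha] at hnd
  exact mem_offs.2 ⟨sig_lt i, fun h => hnd (h ▸ dvd_zero _), fun h => hnd (by rw [h])⟩

theorem sig_ne (ha : 2 ≤ a) {i : ℕ} (hi : i ∈ offs (2 ^ a)) : sig (2 ^ a) i ≠ i := by
  intro h
  obtain ⟨h1, h2, h3⟩ := mem_offs.1 hi
  obtain ⟨c, rfl⟩ := dvd_of_fixed ha (show (2 ^ a - 1) * i ≡ i [MOD 2 * 2 ^ a] from
    (by rw [Nat.ModEq, Nat.mod_eq_of_lt h1]; exact h))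
  rcases c with _ | _ | c
  · simp at h2
  · simp at h3
  · nlinarith [four_le_pow ha]

theorem mem_reps {i : ℕ} : i ∈ reps (2 ^ a) ↔ i ∈ offs (2 ^ a) ∧ i < sig (2 ^ a) i := by
  simp [reps]

/-- A sum over the exponents is a sum over pairs. -/
theorem sum_offs_reps (ha : 2 ≤ a) {β : Type*} [AddCommMonoid β] (f : ℕ → β) :
    ∑ i ∈ offs (2 ^ a), f i =
      ∑ i ∈ reps (2 ^ a), (f i + f (sig (2 ^ a) i)) := by
  rw [sum_add_distrib, reps, ← sum_filter_add_sum_filter_not (offs (2 ^ a)) (fun i => i < sig (2 ^ a) i) f]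
  congr 1
  refine sum_nbij' (sig (2 ^ a)) (sig (2 ^ a)) ?_ ?_ ?_ ?_ ?_
  · intro i hi
    simp only [mem_filter] at hi ⊢
    obtain ⟨hi, hn⟩ := hi
    refine ⟨sig_mem ha hi, ?_⟩
    rw [sig_sig ha (mem_offs.1 hi).1]
    have := sig_ne ha hi
    omega
  · intro i hi
    simp only [mem_filter] at hi ⊢
    obtain ⟨hi, hn⟩ := hi
    refine ⟨sig_mem ha hi, ?_⟩
    rw [sig_sig ha (mem_offs.1 hi).1]
    omega
  · intro i hi
    simp only [mem_filter] at hi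
    exact sig_sig ha (mem_offs.1 hi.1).1
  · intro i hi
    simp only [mem_filter] at hi
    exact sig_sig ha (mem_offs.1 hi.1).1
  · intro i hi
    simp only [mem_filter] at hi
    rw [sig_sig ha (mem_offs.1 hi.1).1]

theorem card_reps (ha : 2 ≤ a) : (reps (2 ^ a)).card = 2 ^ a - 1 := by
  have h := sum_offs_reps ha fun _ => (1 : ℤ)
  simp only [sum_const, nsmul_eq_mul, mul_one] at h
  rw [card_offs (by positivity)] at h
  have := Nat.one_le_two_pow (n := a)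
  omega

/-- The exponents lie in exactly one pair. -/
theorem exists_rep (ha : 2 ≤ a) {i : ℕ} (hi : i ∈ offs (2 ^ a)) :
    ∃ j ∈ reps (2 ^ a), i = j ∨ i = sig (2 ^ a) j := by
  by_cases h : i < sig (2 ^ a) i
  · exact ⟨i, mem_reps.2 ⟨hi, h⟩, Or.inl rfl⟩
  · refine ⟨sig (2 ^ a) i, mem_reps.2 ⟨sig_mem ha hi, ?_⟩, Or.inr ?_⟩
    · rw [sig_sig ha (mem_offs.1 hi).1]
      have := sig_ne ha hi
      omega
    · rw [sig_sig ha (mem_offs.1 hi).1]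

theorem eq_of_pair (ha : 2 ≤ a) {i j : ℕ} (hi : i ∈ reps (2 ^ a)) (hj : j ∈ reps (2 ^ a))
    (h : j = i ∨ j = sig (2 ^ a) i) : i = j := by
  rcases h with h | h
  · exact h.symm
  · have h1 := (mem_reps.1 hj).2
    rw [h, sig_sig ha (mem_offs.1 (mem_reps.1 hi).1).1] at h1
    have := (mem_reps.1 hi).2
    omega

/-- A symmetric sum reduces modulo two to the two fixed exponents. -/
theorem sum_symm_parity (ha : 2 ≤ a) (v : ℕ → ℤ)
    (hv : ∀ i ∈ offs (2 ^ a), v (sig (2 ^ a) i) = v i) :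
    (2 : ℤ) ∣ (∑ l ∈ range (2 * 2 ^ a), v l) - v 0 - v (2 ^ a) := by
  rw [← sum_offs (by positivity) v, sum_offs_reps ha]
  exact dvd_sum fun i hi => ⟨v i, by rw [hv i (mem_reps.1 hi).1]; ring⟩

end H22.SD
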