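import Cfsg.Agent.H22.SD.Group
import Cfsg.Agent.H23.LocalBlock
import Cfsg.Agent.H20.KleinLocal

/-!
# A 2-block with semidihedral defect group: the subsections

Blocks below the maximal pair, the local data at the rotations and at the outside elements of
order four, the block at an outside involution and representatives of all subsections.
-/

set_option autoImplicit false
set_option linter.unusedSectionVars false
set_option linter.style.haveILetI false
set_option maxHeartbeats 800000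

open Cfsg Finset
open scoped MonoidAlgebra

namespace H22.SD

universe u

variable {G : Type u} [Group G] [Fintype G] {M : Ideal AlgInt} [hMp : M.IsPrime]
  [CharP (H20.k M) 2] [IsAlgClosed (H20.k M)]

local notation "C[" x "]" => (Subgroup.centralizer ({x} : Set _))

/-- A pair and one above it with the same centralizer have the same block. -/
theorem eq_of_le_of_centralizer {Q R : Subgroup G} {f e : (H20.k M)[G]}
    (h : H23.Le 2 (Q, f) (R, e))
    (hc : Subgroup.centralizer (Q : Set G) ≤ Subgroup.centralizer (R : Set G)) : e = f := by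
  haveI : Fact (Nat.Prime 2) := ⟨Nat.prime_two⟩
  suffices hh : ∀ b : Subgroup G × (H20.k M)[G], H23.Le 2 (Q, f) b →
      Subgroup.centralizer (Q : Set G) ≤ Subgroup.centralizer (b.1 : Set G) → b.2 = f from hh _ h hc
  intro b hb
  induction hb with
  | refl => exact fun _ => rfl
  | @tail x y h1 h2 ih =>
    intro hy
    have hQx : Subgroup.centralizer (x.1 : Set G) ≤ Subgroup.centralizer (Q : Set G) :=
      Subgroup.centralizer_le (SetLike.coe_subset_coe.2 ((show H23.Le 2 (Q, f) x from h1).le 2))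
    have hxy : Subgroup.centralizer (x.1 : Set G) ≤ Subgroup.centralizer (y.1 : Set G) :=
      hQx.trans hy
    have hxf : x.2 = f :=
      ih (hy.trans (Subgroup.centralizer_le (SetLike.coe_subset_coe.2 h2.le)))
    rw [← hxf]
    have hm := h2.mul
    rw [H23.Br_eq_self (h2.fst.2.cidem.supp.mono hxy)] at hm
    have heq : Subgroup.centralizer (x.1 : Set G) = Subgroup.centralizer (y.1 : Set G) :=
      le_antisymm hxy (Subgroup.centralizer_le (SetLike.coe_subset_coe.2 h2.le))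
    exact h2.snd.2.eq_of_mul_ne_zero (heq ▸ h2.fst.2) (by rw [hm]; exact h2.snd.2.ne_zero)

open Classical in
/-- The block below `(D, f₀)` at `x`. -/
noncomputable def bl (M : Ideal AlgInt) [M.IsPrime] (D : Subgroup G) (f0 : (H20.k M)[G]) (x : G) :
    (H20.k M)[G] :=
  if h : ∃ f, H23.Le 2 (Subgroup.zpowers x, f) (D, f0) then h.choose else 0

/-- Two elements of `D` whose pairs are conjugate. -/
def Fused (M : Ideal AlgInt) [M.IsPrime] (D : Subgroup G) (f0 : (H20.k M)[G]) (x y : G) : Prop :=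
  ∃ g : G, g * x * g⁻¹ = y ∧ H23.cj g (bl M D f0 x) = bl M D f0 y

theorem Fused.refl (D : Subgroup G) (f0 : (H20.k M)[G]) (x : G) : Fused M D f0 x x :=
  ⟨1, by group, H23.cj_one _⟩

theorem Fused.symm {D : Subgroup G} {f0 : (H20.k M)[G]} {x y : G} (h : Fused M D f0 x y) :
    Fused M D f0 y x := by
  obtain ⟨g, h1, h2⟩ := h
  refine ⟨g⁻¹, by rw [← h1]; group, ?_⟩
  rw [← h2, H23.cj_inv_cancel]

theorem Fused.trans {D : Subgroup G} {f0 : (H20.k M)[G]} {x y w : G} (h : Fused M D f0 x y)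
    (h' : Fused M D f0 y w) : Fused M D f0 x w := by
  obtain ⟨g, h1, h2⟩ := h
  obtain ⟨g', h1', h2'⟩ := h'
  refine ⟨g' * g, ?_, by rw [← H23.cj_cj, h2, h2']⟩
  rw [← h1', ← h1]
  group

theorem Fused.orderOf_eq {D : Subgroup G} {f0 : (H20.k M)[G]} {x y : G} (h : Fused M D f0 x y) :
    orderOf x = orderOf y := by
  obtain ⟨g, h1, -⟩ := h
  rw [← h1, ← MulAut.conj_apply, MulEquiv.orderOf_eq]

/-- The pair at `w` is not fused into `⟨r⟩`. -/
def Out (M : Ideal AlgInt) [M.IsPrime] (D : Subgroup G) (f0 : (H20.k M)[G]) (r w : G) : Prop :=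
  w ∈ D ∧ ∀ v ∈ Subgroup.zpowers r, ¬ Fused M D f0 w v

theorem Out.not_mem {D : Subgroup G} {f0 : (H20.k M)[G]} {r w : G} (hw : Out M D f0 r w) :
    w ∉ Subgroup.zpowers r := fun hn => hw.2 w hn (Fused.refl _ _ _)

/-- The outside representatives. -/
abbrev pick (r s : G) (b : Bool) : G := bif b then s * r else s

/-- The index set of the subsections. -/
abbrev Idx (M : Ideal AlgInt) [M.IsPrime] (D : Subgroup G) (f0 : (H20.k M)[G]) (r s : G) (a : ℕ) :
    Type :=
  ↥(reps (2 ^ a)) ⊕ Unit ⊕ {b : Bool // Out M D f0 r (pick r s b)}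

/-- The representatives. -/
def rep (M : Ideal AlgInt) [M.IsPrime] (D : Subgroup G) (f0 : (H20.k M)[G]) (r s : G) (a : ℕ) :
    Idx M D f0 r s a → G :=
  Sum.elim (fun i => r ^ (i : ℕ)) (Sum.elim (fun _ => r ^ 2 ^ a) (fun b => pick r s b.1))

namespace Semi

variable {B : Set (IrrCharacter G)} {D : Subgroup G} {f0 : (H20.k M)[G]} {r s : G} {a : ℕ}

theorem bl_le (h : Semi M B D f0 r s a) {x : G} (hx : x ∈ D) :
    H23.Le 2 (Subgroup.zpowers x, bl M D f0 x) (D, f0) := by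
  haveI : Fact (Nat.Prime 2) := ⟨Nat.prime_two⟩
  have he := H23.exists_le 2 h.hmax.1 (Subgroup.zpowers_le.2 hx)
  rw [bl, dif_pos he]
  exact he.choose_spec

theorem bl_eq (h : Semi M B D f0 r s a) {x : G} {f : (H20.k M)[G]}
    (hf : H23.Le 2 (Subgroup.zpowers x, f) (D, f0)) : bl M D f0 x = f := by
  haveI : Fact (Nat.Prime 2) := ⟨Nat.prime_two⟩
  exact H23.le_unique 2 h.hmax.1 (h.bl_le (hf.le 2 (Subgroup.mem_zpowers x))) hf

theorem le_bl (h : Semi M B D f0 r s a) {x w : G} (hw : w ∈ D) (hx : x ∈ Subgroup.zpowers w) :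
    H23.Le 2 (Subgroup.zpowers x, bl M D f0 x) (Subgroup.zpowers w, bl M D f0 w) := by
  haveI : Fact (Nat.Prime 2) := ⟨Nat.prime_two⟩
  have hp := (h.bl_le hw).pair_left 2 h.hmax.1
  obtain ⟨f, hf⟩ := H23.exists_le 2 hp (Subgroup.zpowers_le.2 hx)
  rwa [h.bl_eq (hf.trans (h.bl_le hw))]

theorem bl_pair (h : Semi M B D f0 r s a) {x : G} (hx : x ∈ D) :
    H23.IsPair 2 (Subgroup.zpowers x) (bl M D f0 x) := by
  haveI : Fact (Nat.Prime 2) := ⟨Nat.prime_two⟩
  exact (h.bl_le hx).pair_left 2 h.hmax.1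

theorem bl_mem (h : Semi M B D f0 r s a) {x : G} (hx : x ∈ D) :
    bl M D f0 x ∈ H23.Bls M x :=
  H23.mem_Bls.2 (h.bl_pair hx).2

theorem bl_inBlk (h : Semi M B D f0 r s a) {x : G} (hx : x ∈ D) :
    H23.InBlk (H23.eB M B) (Subgroup.zpowers x) (bl M D f0 x) := by
  haveI : Fact (Nat.Prime 2) := ⟨Nat.prime_two⟩
  exact ((h.bl_le hx).inBlk_iff 2 (H23.cidem_eB h.hB)).1 h.hmax.2.1

theorem cj_bl (h : Semi M B D f0 r s a) {d x : G} (hd : d ∈ D) (hx : x ∈ D) :
    H23.cj d (bl M D f0 x) = bl M D f0 (d * x * d⁻¹) := by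
  haveI : Fact (Nat.Prime 2) := ⟨Nat.prime_two⟩
  have h1 := (h.bl_le hx).cj 2 d
  simp only at h1
  rw [H23.cjS_zpowers, H23.cjS_eq_self (Subgroup.le_normalizer hd),
    (H23.le_stab 2 h.hmax.1 hd).2] at h1
  exact (h.bl_eq h1).symm

theorem fused_conj (h : Semi M B D f0 r s a) {d x : G} (hd : d ∈ D) (hx : x ∈ D) :
    Fused M D f0 x (d * x * d⁻¹) := ⟨d, rfl, h.cj_bl hd hx⟩

theorem bl_congr (h : Semi M B D f0 r s a) {x y : G} (hx : x ∈ D)
    (he : Subgroup.zpowers x = Subgroup.zpowers y) : bl M D f0 x = bl M D f0 y := by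
  have h1 := h.bl_le hx
  rw [he] at h1
  exact (h.bl_eq h1).symm

/-- Fused elements of `⟨r⟩`. -/
theorem fused_pow (h : Semi M B D f0 r s a) {c c' : G} (hc : c ∈ Subgroup.zpowers r)
    (hc' : c' ∈ Subgroup.zpowers r) (hf : Fused M D f0 c c') : c' = c ∨ c' = s * c * s⁻¹ := by
  obtain ⟨g, hg, hgb⟩ := hf
  have hord : orderOf c' = orderOf c := by rw [← hg, ← MulAut.conj_apply, MulEquiv.orderOf_eq]
  have hz : Subgroup.zpowers c' = Subgroup.zpowers c :=
    H28.PG.zpowers_eq_of_orderOf_eq hc' hc hord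
  rw [h.bl_congr (h.zpowers_le hc') hz] at hgb
  have hgn : g ∈ Subgroup.normalizer (Subgroup.zpowers c : Set G) := by
    apply H23.mem_normalizer_of_cjS_eq
    rw [H23.cjS_zpowers, hg, hz]
  have := h.fusion_pow hc (h.bl_le (h.zpowers_le hc)) ⟨hgn, hgb⟩
  rwa [hg] at this

/-- `R` above a pair below `(D, f₀)` moves into `D`. -/
theorem exists_move (h : Semi M B D f0 r s a) {x : G} (hx : x ∈ D) {R : Subgroup G}
    {e' : (H20.k M)[G]} (hle : H23.Le 2 (Subgroup.zpowers x, bl M D f0 x) (R, e')) :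
    ∃ g : G, g * x * g⁻¹ ∈ D ∧ H23.cj g (bl M D f0 x) = bl M D f0 (g * x * g⁻¹) ∧
      H23.cjS g R ≤ D := by
  haveI : Fact (Nat.Prime 2) := ⟨Nat.prime_two⟩
  have hpR : H23.IsPair 2 R e' := by
    rcases hle.cases_tail with e | ⟨c, -, hc⟩
    · rw [Prod.mk.injEq] at e
      rw [e.1, e.2]
      exact h.bl_pair hx
    · exact hc.snd
  obtain ⟨g, hg⟩ := H23.exists_conj_le 2 (H23.isBlk_eB h.hB) h.hmax hpR
    ((hle.inBlk_iff 2 (H23.cidem_eB h.hB)).2 (h.bl_inBlk hx))
  have h1 := (hle.cj 2 g).trans hg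
  simp only at h1
  rw [H23.cjS_zpowers] at h1
  exact ⟨g, H23.Le.le 2 h1 (Subgroup.mem_zpowers _), (h.bl_eq h1).symm, H23.Le.le 2 hg⟩

theorem comm_cjS {g u : G} {R : Subgroup G} (hc : ∀ t ∈ R, t * u = u * t) :
    ∀ d ∈ H23.cjS g R, d * (g * u * g⁻¹) = g * u * g⁻¹ * d := by
  rintro _ ⟨t, ht, rfl⟩
  show g * t * g⁻¹ * (g * u * g⁻¹) = g * u * g⁻¹ * (g * t * g⁻¹)
  calc g * t * g⁻¹ * (g * u * g⁻¹) = g * (t * u) * g⁻¹ := by group
    _ = g * (u * t) * g⁻¹ := by rw [hc t ht]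
    _ = _ := by group

theorem w_mem (h : Semi M B D f0 r s a) {c : G} (hc : c ∈ Subgroup.zpowers r) (hc2 : c * c ≠ 1) :
    r ^ 2 ^ (a - 1) ∈ Subgroup.zpowers c := by
  refine H22.SD.Local.mem_zpowers_of_dvd (Subgroup.npow_mem_zpowers r _) hc ?_
  obtain ⟨j, -, hj⟩ := (Nat.dvd_prime_pow Nat.prime_two).1
    (h.hord ▸ orderOf_dvd_of_mem_zpowers hc : orderOf c ∣ 2 ^ (a + 1))
  rw [h.orderOf_w, hj, show 4 = 2 ^ 2 by norm_num]
  refine pow_dvd_pow 2 (le_of_not_gt fun hj2 => hc2 ?_)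
  rw [← pow_two, ← orderOf_dvd_iff_pow_eq_one, hj]
  calc 2 ^ j ∣ 2 ^ 1 := pow_dvd_pow 2 (by omega)
    _ = 2 := pow_one 2

theorem w_ne_inv (h : Semi M B D f0 r s a) : (r ^ 2 ^ (a - 1))⁻¹ ≠ r ^ 2 ^ (a - 1) := fun e => by
  have h4 : r ^ 2 ^ (a - 1) * r ^ 2 ^ (a - 1) = 1 := by
    nth_rw 1 [← e]
    exact inv_mul_cancel _
  rw [h.w_sq] at h4
  exact h.z_ne_one h4

/-- The local hypotheses at a rotation. -/
theorem loc_rot (h : Semi M B D f0 r s a) {c : G} (hc : c ∈ Subgroup.zpowers r)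
    (hc2 : c * c ≠ 1) :
    H22.SD.Local.Loc4 M c (r ^ 2 ^ (a - 1)) r (bl M D f0 r) (bl M D f0 c) := by
  haveI : Fact (Nat.Prime 2) := ⟨Nat.prime_two⟩
  refine ⟨h.hM, h.orderOf_w, h.w_mem hc hc2, hc, ⟨a + 1, h.hord⟩, h.le_bl h.rD hc,
    h.bl_pair h.rD, fun R e' hle hcomm => ?_, fun y hy hy0 g b h1 h2 => ?_⟩
  · obtain ⟨g, -, -, hR⟩ := h.exists_move h.rD hle
    set v := g * c * g⁻¹ with hv
    have hvD : v ∈ D := hR ⟨c, hle.le 2 hc, rfl⟩
    have hv2 : v * v ≠ 1 := fun e => hc2 (by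
      calc c * c = g⁻¹ * (v * v) * g := by rw [hv]; group
        _ = 1 := by rw [e]; group)
    have hcard : Nat.card R ≤ Nat.card (Subgroup.zpowers r) := by
      rw [← H23.card_cjS g R]
      by_cases hvr : v ∈ Subgroup.zpowers r
      · exact Subgroup.card_le_of_le fun d hd =>
          h.mem_of_comm hvr hv2 (hR hd) (comm_cjS hcomm d hd)
      · refine (h.card_le_four hvD hvr hR (comm_cjS hcomm)).trans ?_
        rw [Nat.card_zpowers, h.hord2]
        have := h.four_le_q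
        omega
    exact (Subgroup.eq_of_le_of_card_ge (hle.le 2) hcard).ge
  · have hgy : g * y * g⁻¹ ∈ Subgroup.zpowers r := h2.le 2 (Subgroup.mem_zpowers _)
    refine (h.fused_pow hy hgy ⟨g, rfl, ?_⟩).imp_right fun e => ?_
    · rw [h.bl_eq (h1.trans (h.bl_le h.rD)), h.bl_eq (h2.trans (h.bl_le h.rD))]
    · obtain ⟨i, hi⟩ := Subgroup.mem_zpowers_iff.1 hy0
      rw [← hi, ← conj_zpow, e, conj_zpow, hi, h.s_w]
      exact h.w_ne_inv

/-- The local hypotheses at an outside element of order four. -/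
theorem loc_out (h : Semi M B D f0 r s a) {w : G} (hw : Out M D f0 r w) (hw2 : w * w ≠ 1) :
    H22.SD.Local.Loc4 M w w w (bl M D f0 w) (bl M D f0 w) := by
  haveI : Fact (Nat.Prime 2) := ⟨Nat.prime_two⟩
  have hw4 := h.orderOf_outside hw.1 hw.not_mem hw2
  refine ⟨h.hM, hw4, Subgroup.mem_zpowers w, Subgroup.mem_zpowers w, ⟨2, by rw [hw4]; norm_num⟩,
    Relation.ReflTransGen.refl, h.bl_pair hw.1,
    fun R e' hle hcomm => ?_, fun y hy hy0 g b h1 h2 => ?_⟩
  · obtain ⟨g, hvD, hgb, hR⟩ := h.exists_move hw.1 hle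
    have hvn : g * w * g⁻¹ ∉ Subgroup.zpowers r := fun hn => hw.2 _ hn ⟨g, rfl, hgb⟩
    have hcard : Nat.card R ≤ Nat.card (Subgroup.zpowers w) := by
      rw [← H23.card_cjS g R, Nat.card_zpowers, hw4]
      exact h.card_le_four hvD hvn hR (comm_cjS hcomm)
    exact (Subgroup.eq_of_le_of_card_ge (hle.le 2) hcard).ge
  · have hyw : orderOf y = 4 := by
      refine Nat.dvd_antisymm (hw4 ▸ orderOf_dvd_of_mem_zpowers hy) ?_
      exact hw4 ▸ orderOf_dvd_of_mem_zpowers hy0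
    have hgy : g * y * g⁻¹ ∈ Subgroup.zpowers y :=
      Subgroup.zpowers_le.2 hy0 (h2.le 2 (Subgroup.mem_zpowers _))
    obtain ⟨i, hi, e⟩ : ∃ i, (i = 1 ∨ i = 3) ∧ g * y * g⁻¹ = y ^ i := by
      classical
      obtain ⟨i, hi, hi'⟩ := Finset.mem_image.1
        (show g * y * g⁻¹ ∈ (Finset.range (orderOf y)).image (y ^ ·) from
          mem_zpowers_iff_mem_range_orderOf.1 hgy)
      rw [hyw, Finset.mem_range] at hi
      refine ⟨i, ?_, hi'.symm⟩
      have ho : orderOf (y ^ i) = 4 := by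
        rw [show y ^ i = g * y * g⁻¹ from hi', ← MulAut.conj_apply, MulEquiv.orderOf_eq, hyw]
      interval_cases i
      · simp at ho
      · exact Or.inl rfl
      · rw [orderOf_pow' _ two_ne_zero, hyw] at ho
        norm_num at ho
      · exact Or.inr rfl
    rcases hi with rfl | rfl
    · exact Or.inl (e.trans (pow_one y))
    · refine Or.inr fun hfix => ?_
      obtain ⟨k, hk⟩ := Subgroup.mem_zpowers_iff.1 hy0
      rw [← hk, ← conj_zpow, e, ← zpow_natCast y 3, ← zpow_mul, ← orderOf_dvd_sub_iff_zpow_eq_zpow,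
        hyw] at hfix
      have hodd : ¬ (2 : ℤ) ∣ k := by
        rintro ⟨j, rfl⟩
        have h2 : (y ^ (2 * j)) ^ 2 = 1 := by
          rw [← zpow_natCast (y ^ (2 * j)) 2, ← zpow_mul, ← orderOf_dvd_iff_zpow_eq_one, hyw]
          exact ⟨j, by push_cast; ring⟩
        rw [hk, pow_two] at h2
        exact hw2 h2
      omega

/-- The block at an outside involution has defect two. -/
theorem defect_out (h : Semi M B D f0 r s a) {v : G} (hv : Out M D f0 r v) (hv2 : v * v = 1)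
    [Fintype C[v]] {β : Set (IrrCharacter C[v])} (hβ : IsPBlock M β)
    (he : H23.eG M C[v] β = bl M D f0 v) : blockDefect 2 β = 2 := by
  classical
  haveI : Fact (Nat.Prime 2) := ⟨Nat.prime_two⟩
  set z := r ^ 2 ^ a with hz
  have hvn := hv.not_mem
  have hv1 : v ≠ 1 := fun e => hvn (e ▸ one_mem _)
  have hvz : v ≠ z := fun e => hvn (e ▸ Subgroup.npow_mem_zpowers r _)
  have hzv : v * z = z * v := h.z_central hv.1
  have hT : Subgroup.centralizer ((Subgroup.zpowers v : Subgroup G) : Set G) = C[v] :=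
    H17.Major.centralizer_zpowers_eq v
  set Q := Subgroup.zpowers v ⊔ Subgroup.zpowers z with hQ
  have hQD : Q ≤ D := sup_le (Subgroup.zpowers_le.2 hv.1)
    (Subgroup.zpowers_le.2 (pow_mem h.rD _))
  have hQC : Q ≤ C[v] := sup_le (Subgroup.zpowers_le.2 (Subgroup.mem_centralizer_singleton_iff.2 rfl))
    (Subgroup.zpowers_le.2 (Subgroup.mem_centralizer_singleton_iff.2 hzv.symm))
  obtain ⟨fQ, hfQ⟩ := H23.exists_le 2 h.hmax.1 hQD
  have hpQ := hfQ.pair_left 2 h.hmax.1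
  obtain ⟨f, hf⟩ := H23.exists_le 2 hpQ (le_sup_left : Subgroup.zpowers v ≤ Q)
  obtain rfl : bl M D f0 v = f := h.bl_eq (hf.trans hfQ)
  have hfp := h.bl_pair hv.1
  have hcid : H23.CIdem C[v] (bl M D f0 v) := hT ▸ hfp.2.cidem
  have hself : H23.InBlk (bl M D f0 v) (Subgroup.zpowers v) (bl M D f0 v) := by
    show _ * H23.Br _ _ = _
    rw [H23.Br_eq_self hfp.2.cidem.supp, hfp.2.cidem.idem]
  obtain ⟨R, e, hm, hle⟩ := H23.exists_maxIn 2 (H := C[v]) hpQ hQC
    ((hf.inBlk_rel 2 hQC hT.le hcid).2 hself)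
  have hl : H23.LocMax 2 (Subgroup.zpowers v) (bl M D f0 v) C[v] R e :=
    ⟨hfp, le_sup_left.trans hQC, hT.le, hT.ge.trans (H23.centralizer_le_stab 2 hfp), hm,
      hf.trans hle⟩
  have h1 := H20.card_defectGroup h.hM hβ (H23.isDefectGroup_locMax h.hM hl hβ he)
  rw [H23.card_subgroupOf hm.2.1] at h1
  have hle4 : Nat.card R ≤ 4 := by
    obtain ⟨g, hvD, hgb, hR⟩ := h.exists_move hv.1 (hf.trans hle)
    have hvn' : g * v * g⁻¹ ∉ Subgroup.zpowers r := fun hn => hv.2 _ hn ⟨g, rfl, hgb⟩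
    rw [← H23.card_cjS g R]
    refine h.card_le_four hvD hvn' hR (comm_cjS fun t ht => ?_)
    exact Subgroup.mem_centralizer_singleton_iff.1 (hm.2.1 ht)
  have hge : 3 ≤ Nat.card R := by
    rw [Nat.card_eq_fintype_card]
    have hmv : v ∈ R := hle.le 2 (le_sup_left (b := Subgroup.zpowers z) (Subgroup.mem_zpowers v))
    have hmz : z ∈ R := hle.le 2 (le_sup_right (a := Subgroup.zpowers v) (Subgroup.mem_zpowers z))
    calc 3 = ({1, (⟨v, hmv⟩ : R), (⟨z, hmz⟩ : R)} : Finset R).card := by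
          refine (Finset.card_eq_three.2 ⟨1, (⟨v, hmv⟩ : R), (⟨z, hmz⟩ : R), ?_, ?_, ?_, rfl⟩).symm
          · exact fun e => hv1 (congrArg Subtype.val e).symm
          · exact fun e => h.z_ne_one (congrArg Subtype.val e).symm
          · exact fun e => hvz (congrArg Subtype.val e)
      _ ≤ _ := Finset.card_le_univ _
  obtain ⟨d, hdef⟩ : ∃ d, blockDefect 2 β = d := ⟨_, rfl⟩
  rw [hdef] at h1 ⊢
  rcases Nat.lt_or_ge d 2 with hd | hd
  · interval_cases d <;> simp only [pow_zero, pow_one] at h1 <;> omega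
  · by_contra hne
    have : 2 ^ 3 ≤ 2 ^ d := Nat.pow_le_pow_right (by norm_num) (by omega)
    omega

/-- Elements outside `⟨r⟩` are conjugate in `D` to `s` or `s * r`. -/
theorem fused_s (h : Semi M B D f0 r s a) {y : G} (hy : y ∈ D) (hn : y ∉ Subgroup.zpowers r) :
    ∃ b : Bool, Fused M D f0 (pick r s b) y := by
  obtain ⟨c, hc, rfl⟩ := h.exists_eq hy hn
  obtain ⟨i, -, rfl⟩ := h.exists_pow hc
  have h4 := h.four_le_q
  have key : ∀ k l : ℕ, r ^ k * (s * r ^ l) * (r ^ k)⁻¹ =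
      s * (r ^ ((2 ^ a - 1) * k) * r ^ l * (r ^ k)⁻¹) := by
    intro k l
    have e : s⁻¹ * r ^ k * s = r ^ ((2 ^ a - 1) * k) := by
      rw [← h.s_pow, h.s_inv]
    rw [← e]
    group
  have hsol : ∀ j : ℕ, ∃ k : ℕ, (2 ^ a - 2) * k ≡ 2 * j [MOD 2 * 2 ^ a] := by
    intro j
    obtain ⟨h', hh⟩ : ∃ h, 2 ^ a - 2 = 2 * (2 * h + 1) :=
      ⟨2 ^ (a - 2) - 1, by have := two_pow_eq h.ha; omega⟩
    have hcop : Nat.Coprime (2 * h' + 1) (2 ^ a) :=
      ((Nat.coprime_two_left.2 (odd_two_mul_add_one h')).pow_left a).symm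
    obtain ⟨m, -, hm⟩ := Nat.exists_mul_mod_eq_one_of_coprime hcop (by omega)
    refine ⟨m * j, ?_⟩
    rw [hh, mul_assoc]
    refine Nat.ModEq.mul_left' 2 ?_
    rw [← mul_assoc]
    have : (2 * h' + 1) * m ≡ 1 [MOD 2 ^ a] := by
      rw [Nat.ModEq, hm, Nat.mod_eq_of_lt (by omega : 1 < 2 ^ a)]
    simpa using this.mul_right j
  obtain ⟨j, l, hl, hil⟩ : ∃ j l, l ≤ 1 ∧ i = 2 * j + l := ⟨i / 2, i % 2, by omega, by omega⟩
  obtain ⟨k, hk⟩ := hsol j
  have e : r ^ k * (s * r ^ l) * (r ^ k)⁻¹ = s * r ^ i := by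
    rw [key]
    congr 1
    rw [mul_inv_eq_iff_eq_mul, ← pow_add, ← pow_add, h.pow_eq_iff, hil]
    have hk' := (hk.add_right (k + l))
    rw [show (2 ^ a - 2) * k + (k + l) = (2 ^ a - 1) * k + l by
      rw [show 2 ^ a - 1 = (2 ^ a - 2) + 1 by omega, add_mul, one_mul]; ring] at hk'
    rw [show 2 * j + (k + l) = 2 * j + l + k by ring] at hk'
    exact hk'
  rcases Nat.le_one_iff_eq_zero_or_eq_one.1 hl with rfl | rfl
  · rw [pow_zero, mul_one] at e
    exact ⟨false, e ▸ h.fused_conj (pow_mem h.rD k) h.sD⟩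
  · rw [pow_one] at e
    exact ⟨true, e ▸ h.fused_conj (pow_mem h.rD k) (mul_mem h.sD h.rD)⟩

theorem pick_mem (h : Semi M B D f0 r s a) (b : Bool) : pick r s b ∈ D := by
  cases b
  · exact h.sD
  · exact mul_mem h.sD h.rD

theorem sr_sq (h : Semi M B D f0 r s a) : s * r * (s * r) = r ^ 2 ^ a := by
  have := h.sq_outside 1
  rwa [pow_one, pow_one] at this

theorem pick_inj (h : Semi M B D f0 r s a) {b b' : Bool}
    (hf : Fused M D f0 (pick r s b) (pick r s b')) : b = b' := by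
  have hne : orderOf (s * r) ≠ orderOf s := by
    intro e
    have h2 : (s * r) ^ 2 = 1 := by
      rw [← orderOf_dvd_iff_pow_eq_one, e, orderOf_dvd_iff_pow_eq_one, pow_two]
      exact h.s2
    rw [pow_two, h.sr_sq] at h2
    exact h.z_ne_one h2
  cases b <;> cases b' <;> first | rfl | exact absurd hf.orderOf_eq.symm hne |
    exact absurd hf.orderOf_eq hne

theorem rep_pow_mem (h : Semi M B D f0 r s a) {i : ℕ} (hi : i ∈ offs (2 ^ a)) :
    r ^ i * r ^ i ≠ 1 := by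
  intro e
  obtain ⟨h1, h2, h3⟩ := mem_offs.1 hi
  rw [← pow_add] at e
  obtain ⟨k, hk⟩ := h.hord2 ▸ orderOf_dvd_of_pow_eq_one e
  rcases k with _ | _ | k
  · omega
  · omega
  · nlinarith

open Classical in
/-- Representatives of the nontrivial subsections. -/
theorem fam (h : Semi M B D f0 r s a) :
    H12.SubsecFam.Fam (M := M) 2 B (rep M D f0 r s a)
      (fun i => bl M D f0 (rep M D f0 r s a i)) := by
  haveI : Fact (Nat.Prime 2) := ⟨Nat.prime_two⟩
  have hmemD : ∀ i, rep M D f0 r s a i ∈ D := by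
    rintro (i | i | i)
    · exact pow_mem h.rD _
    · exact pow_mem h.rD _
    · exact h.pick_mem _
  refine ⟨fun i => h.exists_orderOf (hmemD i), ?_, fun i => h.bl_mem (hmemD i),
    fun i => h.bl_inBlk (hmemD i), fun i j g h1 h2 => ?_, fun x hx hx1 b hb hin => ?_⟩
  · rintro (i | i | i) e
    · exact h.rep_pow_mem (mem_reps.1 i.2).1 (by rw [show r ^ (i : ℕ) = 1 from e, one_mul])
    · exact h.z_ne_one e
    · exact i.2.not_mem (by rw [show pick r s i.1 = 1 from e]; exact one_mem _)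
  · have hf : Fused M D f0 (rep M D f0 r s a i) (rep M D f0 r s a j) := ⟨g, h1, h2⟩
    have hz : ∀ c : G, c * c ≠ 1 → ¬ Fused M D f0 c (r ^ 2 ^ a) := by
      rintro c hc ⟨g', e, -⟩
      refine hc ?_
      calc c * c = g'⁻¹ * ((g' * c * g'⁻¹) * (g' * c * g'⁻¹)) * g' := by group
        _ = 1 := by rw [e, h.z_sq]; group
    rcases i with i | i | i <;> rcases j with j | j | j
    · refine congrArg Sum.inl (Subtype.ext (eq_of_pair h.ha i.2 j.2 ?_))
      have hi := (mem_offs.1 (mem_reps.1 i.2).1).1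
      have hj := (mem_offs.1 (mem_reps.1 j.2).1).1
      rcases h.fused_pow (Subgroup.npow_mem_zpowers r (i : ℕ))
        (Subgroup.npow_mem_zpowers r (j : ℕ)) hf with e | e
      · exact Or.inl (h.pow_inj hj hi e)
      · exact Or.inr (h.pow_inj hj (sig_lt _) (e.trans (h.s_sig _)))
    · exact absurd hf (hz _ (h.rep_pow_mem (mem_reps.1 i.2).1))
    · exact absurd hf.symm (j.2.2 _ (Subgroup.npow_mem_zpowers r _))
    · exact absurd hf.symm (hz _ (h.rep_pow_mem (mem_reps.1 j.2).1))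
    · rfl
    · exact absurd hf.symm (j.2.2 _ (Subgroup.npow_mem_zpowers r _))
    · exact absurd hf (i.2.2 _ (Subgroup.npow_mem_zpowers r _))
    · exact absurd hf (i.2.2 _ (Subgroup.npow_mem_zpowers r _))
    · exact congrArg (fun t => Sum.inr (Sum.inr t)) (Subtype.ext (h.pick_inj hf))
  · obtain ⟨z, hz⟩ := H23.exists_below h.hB h.hmax hx hb hin
    have h1 := H23.le_pull hz
    set y := z⁻¹ * x * z with hy
    have hyD : y ∈ D := h1.le 2 (Subgroup.mem_zpowers _)
    suffices hf : ∃ i, Fused M D f0 (rep M D f0 r s a i) y by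
      obtain ⟨i, g, hg, hgb⟩ := hf
      refine ⟨i, z * g, ?_, ?_⟩
      · calc z * g * rep M D f0 r s a i * (z * g)⁻¹ =
              z * (g * rep M D f0 r s a i * g⁻¹) * z⁻¹ := by group
          _ = x := by rw [hg, hy]; group
      · show H23.cj (z * g) (bl M D f0 (rep M D f0 r s a i)) = b
        rw [← H23.cj_cj, hgb, h.bl_eq h1, H23.cj_cancel_inv]
    have hy1 : y ≠ 1 := fun e => hx1 (by
      calc x = z * y * z⁻¹ := by rw [hy]; group
        _ = 1 := by rw [e]; group)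
    have hpow : ∀ v ∈ Subgroup.zpowers r, v ≠ 1 → ∃ i, Fused M D f0 (rep M D f0 r s a i) v := by
      intro v hv hv1
      obtain ⟨i, hi, rfl⟩ := h.exists_pow hv
      by_cases hiq : i = 2 ^ a
      · subst hiq
        exact ⟨Sum.inr (Sum.inl ()), Fused.refl _ _ _⟩
      obtain ⟨j, hj, e⟩ := exists_rep h.ha (mem_offs.2 ⟨hi, fun e => hv1 (by rw [e, pow_zero]), hiq⟩)
      refine ⟨Sum.inl ⟨j, hj⟩, ?_⟩
      show Fused M D f0 (r ^ j) (r ^ i)
      rcases e with rfl | rfl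
      · exact Fused.refl _ _ _
      · rw [← h.s_sig]
        exact h.fused_conj h.sD (pow_mem h.rD _)
    by_cases hn : y ∈ Subgroup.zpowers r
    · exact hpow y hn hy1
    obtain ⟨bb, hbb⟩ := h.fused_s hyD hn
    by_cases hout : Out M D f0 r (pick r s bb)
    · exact ⟨Sum.inr (Sum.inr ⟨bb, hout⟩), hbb⟩
    · simp only [Out, h.pick_mem bb, true_and, not_forall, not_not] at hout
      obtain ⟨v, hv, hfv⟩ := hout
      obtain ⟨i, hi⟩ := hpow v hv (fun e1 => hy1 (by
        have e2 := (hbb.symm.trans hfv).orderOf_eq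
        rwa [e1, orderOf_one, orderOf_eq_one_iff] at e2))
      exact ⟨i, hi.trans (hfv.symm.trans hbb)⟩

end Semi

end H22.SD
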