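import Cfsg.Agent.H22.SD.Invariants
import Cfsg.Agent.H22.TameSolvable

/-!
# A 2-block of rank three with semidihedral defect group
-/

set_option autoImplicit false
set_option linter.unusedSectionVars false

open Cfsg Finset
open scoped MonoidAlgebra

namespace H22.SD.Semi

universe u

variable {G : Type u} [Group G] [Fintype G] {M : Ideal AlgInt} [hMp : M.IsPrime]
  [CharP (H20.k M) 2] [IsAlgClosed (H20.k M)]
  {B : Set (IrrCharacter G)} {D : Subgroup G} {f0 : (H20.k M)[G]} {r s : G} {a : ℕ}

/-- Rank three forces an odd centre and a group that is not solvable. -/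
theorem rank_three (h : Semi M B D f0 r s a) (hD : IsDefectGroup 2 M B D)
    (hl : blockRank 2 B = 3) :
    Odd (Nat.card (Subgroup.center G)) ∧ ¬ Group.IsSolvable G := by
  classical
  obtain ⟨-, -, -, -, -, -, -, -, hout⟩ := h.invariants
  obtain ⟨hs, -⟩ := hout hl
  simp only [Out, h.sD, true_and, not_forall, not_not] at hs
  obtain ⟨v, hv, g, hg, -⟩ := hs
  have hvz : v = r ^ 2 ^ a := by
    refine (h.sq_eq_one_cases hv (by
      rw [← hg]
      calc g * s * g⁻¹ * (g * s * g⁻¹) = g * (s * s) * g⁻¹ := by group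
        _ = 1 := by rw [h.s2]; group)).resolve_left fun e => h.snot ?_
    rw [e] at hg
    rw [conj_eq_one_iff.1 hg]
    exact one_mem _
  subst hvz
  refine ⟨H22.Tame.odd_center h.hM h.hB hD fun t ht ht2 htc => ?_, ?_⟩
  · have hfix : ∀ x : G, x * t * x⁻¹ = t := fun x => by
      rw [Subgroup.mem_center_iff.1 htc x, mul_inv_cancel_right]
    have ht2' : t * t = 1 := by rw [← pow_two, ← ht2, pow_orderOf_eq_one]
    suffices e : t = s by
      subst e
      exact h.snot (by rw [hfix g] at hg; rw [hg]; exact Subgroup.npow_mem_zpowers r _)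
    by_cases hn : t ∈ Subgroup.zpowers r
    · rcases h.sq_eq_one_cases hn ht2' with e | e
      · rw [e, orderOf_one] at ht2; norm_num at ht2
      · calc t = g⁻¹ * t * g := by have := hfix g⁻¹; rwa [inv_inv, eq_comm] at this
          _ = g⁻¹ * (g * s * g⁻¹) * g := by rw [hg, e]
          _ = s := by group
    · obtain ⟨b, g', hg', -⟩ := h.fused_s ht hn
      have : pick r s b = t := by
        calc pick r s b = g'⁻¹ * (g' * pick r s b * g'⁻¹) * g' := by group
          _ = t := by rw [hg']; simpa using hfix g'⁻¹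
      cases b
      · exact this.symm
      · exfalso
        apply h.z_ne_one
        rw [← h.sr_sq, show s * r = t from this, ht2']
  · set w := r ^ 2 ^ (a - 1) with hw
    have hsz : IsConj s (r ^ 2 ^ a) := isConj_iff.2 ⟨g, hg⟩
    have hy2 : s * r ^ 2 * (s * r ^ 2) = 1 := by rw [h.sq_outside, pow_two, h.z_sq]
    obtain ⟨b, g', hg', -⟩ := h.fused_s (mul_mem h.sD (pow_mem h.rD 2))
      (h.not_mem (Subgroup.npow_mem_zpowers r 2))
    have hbf : b = false := by
      cases b
      · rfl
      · exfalso
        apply h.z_ne_one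
        rw [← h.sr_sq]
        have e : s * r = g'⁻¹ * (s * r ^ 2) * g' := by
          rw [← hg']
          show _ = g'⁻¹ * (g' * (s * r) * g'⁻¹) * g'
          group
        rw [e]
        calc g'⁻¹ * (s * r ^ 2) * g' * (g'⁻¹ * (s * r ^ 2) * g') =
              g'⁻¹ * (s * r ^ 2 * (s * r ^ 2)) * g' := by group
          _ = 1 := by rw [hy2]; group
    subst hbf
    have hnorm : ∀ N : Subgroup G, N.Normal → ∀ {x y : G}, IsConj x y → x ∈ N → y ∈ N := by
      intro N hN x y hxy hx
      obtain ⟨c, rfl⟩ := isConj_iff.1 hxy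
      exact hN.conj_mem x hx c
    refine H22.Tame.not_isSolvable_of_commutator (s := s) (t := w) h.z_ne_one
      (fun N hN hzN => hnorm N hN hsz.symm hzN) (fun N hN hzN => ?_) ?_
    · have hsN := hnorm N hN hsz.symm hzN
      have hsrN : s * r ^ 2 ∈ N := hnorm N hN (isConj_iff.2 ⟨g', hg'⟩) hsN
      have hr2 : r ^ 2 ∈ N := by
        have := mul_mem hsN hsrN
        rwa [← mul_assoc, h.s2, one_mul] at this
      have ha := h.ha
      have := pow_mem hr2 (2 ^ (a - 2))
      rwa [← pow_mul, ← pow_succ', show a - 2 + 1 = a - 1 by omega] at this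
    · rw [commutatorElement_def, mul_assoc w s, mul_assoc w, show s * w⁻¹ * s⁻¹ = (s * w * s⁻¹)⁻¹ by
        group, hw, h.s_w, inv_inv, h.w_sq]

end H22.SD.Semi
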