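import Cfsg.Agent.H12.SubsecFam
import Cfsg.Agent.H22.RankOne
import Cfsg.Agent.H19.CentralPrime
import Cfsg.Agent.H21.SelfCentralBlock
import Cfsg.Agent.H23.NilpotentCount
import Cfsg.Agent.H14.BrauerInduction

/-!
# Pairings on sections: integral normalisation, translation by a central element, and the lift
of the regular part through a central element of prime power order
-/

set_option autoImplicit false
set_option linter.unusedSectionVars false
set_option linter.style.haveILetI false

open Cfsg Finset
open scoped MonoidAlgebra ComplexConjugate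

namespace H22.SD

universe u

variable {G : Type u} [Group G] [Fintype G] {p : ℕ} [hp : Fact p.Prime] {M : Ideal AlgInt}
  [hMp : M.IsPrime] [CharP (H20.k M) p] [IsAlgClosed (H20.k M)]

local notation "C[" x "]" => (Subgroup.centralizer ({x} : Set _))

section Aval

variable {B : Set (IrrCharacter G)} {x : G} [Fintype C[x]] {b : Set (IrrCharacter C[x])}

/-- The normalised pairing is the contribution. -/
theorem aval_eq_pairC (S : H22.Contrib.Setup p M x B b) (hx : ∃ j : ℕ, orderOf x = p ^ j)
    (hb : IsPBlock M b) (χ ψ : IrrCharacter G) :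
    S.aval 1 χ ψ = (p : ℂ) ^ blockDefect p b * H23.pairC p x (H23.eG M C[x] b) χ ψ := by
  rw [S.aval_one, H23.pairC_eq hx C[x] (H17.Major.centralizer_zpowers_eq x).symm hb]
  rfl

theorem pairC_ne_zero (hM : IsPModular p M) (hx : ∃ j : ℕ, orderOf x = p ^ j)
    (hind : IsInducedBlock M C[x] b B) {χ ψ : IrrCharacter G} (hχ : χ ∈ B) (hψ : ψ ∈ B)
    (h0 : blockHeight p B (χ : G → ℂ) = 0) (h1 : blockHeight p B (ψ : G → ℂ) = 0) :
    H23.pairC p x (H23.eG M C[x] b) χ ψ ≠ 0 := by
  obtain ⟨S⟩ := H22.Contrib.exists_setup hM hx hind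
  intro h
  apply S.aval_not_memIdeal hχ hψ h0 h1
  rw [aval_eq_pairC S hx hind.1, h, mul_zero]
  exact H20.memIdeal_zero

/-- The pairing of a subsection of rank one. -/
theorem pairC_col (D : H22.One.Data p b) (hM : IsPModular p M)
    (hx : ∃ j : ℕ, orderOf x = p ^ j) (hind : IsInducedBlock M C[x] b B) (χ ψ : IrrCharacter G) :
    H23.pairC p x (H23.eG M C[x] b) χ ψ =
      H22.One.col D 1 χ * conj (H22.One.col D 1 ψ) / (p : ℂ) ^ blockDefect p b := by
  obtain ⟨S⟩ := H22.Contrib.exists_setup hM hx hind
  rw [eq_div_iff (pow_ne_zero _ (Nat.cast_ne_zero.2 hp.out.ne_zero)), mul_comm,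
    ← aval_eq_pairC S hx hind.1, H22.One.aval_eq D S]

/-- The regular part of a translate through the characters of the centralizer. -/
theorem part_eq_sum (χ : IrrCharacter G) :
    H22.Contrib.part p x b χ = ∑ η ∈ H22.blockFinset b,
      ((H22.Contrib.nres C[x] χ η : ℂ) * H22.Contrib.twist x η) •
        pRegularPart p (η : C[x] → ℂ) := by
  classical
  have hcl : IsClassFunction C[x] (fun h : C[x] => (χ : G → ℂ) h) := fun a b =>
    H12.irr_isClassFunction χ (a : G) (b : G)
  have hshift : (fun c : C[x] => (χ : G → ℂ) (x * (c : G))) =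
      ∑ η : IrrCharacter C[x],
        ((H22.Contrib.nres C[x] χ η : ℂ) * H22.Contrib.twist x η) • (η : C[x] → ℂ) := by
    funext c
    rw [show x * (c : G) = (((⟨x, H22.Contrib.mem_self x⟩ : C[x]) * c : C[x]) : G) from rfl,
      H12.classFunction_apply_eq_sum hcl ((⟨x, H22.Contrib.mem_self x⟩ : C[x]) * c),
      Finset.sum_apply]
    refine sum_congr rfl fun η _ => ?_
    rw [H22.Contrib.classInner_res, Pi.smul_apply, smul_eq_mul]
    have h := H22.One.twist_pow_mul η 1 c
    rw [pow_one, pow_one] at h
    rw [h]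
    ring
  rw [H22.Contrib.part, H22.Sub.blockPart_eq_smul_sum, map_sum]
  refine sum_congr rfl fun η hη => ?_
  rw [map_smul, H22.Sub.regMap_apply]
  congr 1
  show classInner (fun c : C[x] => (χ : G → ℂ) (x * (c : G))) (η : C[x] → ℂ) = _
  rw [hshift, H12.classInner_sum_smul_irr]

theorem classInner_regPart (α β : IrrCharacter G) :
    classInner (pRegularPart p (α : G → ℂ)) (pRegularPart p (β : G → ℂ)) =
      H22.Delta p α β := by
  classical
  rw [H22.Delta, H12.classInner_def, H12.classInner_def]
  congr 1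
  refine sum_congr rfl fun g _ => ?_
  simp only [pRegularPart_apply]
  split <;> simp

end Aval

/-! ### Translation by a central element -/

theorem chiLin_central_mul {z : G} (hz : z ∈ Subgroup.center G) (χ : IrrCharacter G)
    (L : MonoidAlgebra (H20.O M) G) :
    H23.chiLin χ (H23.gO M z * L) = H19.MajorBound.eps z χ * H23.chiLin χ L := by
  classical
  rw [H23.chiLin, H23.chiLin, mul_sum]
  refine (Fintype.sum_equiv (Equiv.mulLeft z) _ _ fun x => ?_).symm
  rw [Equiv.coe_mulLeft, H20.coeff_single_one_mul, inv_mul_cancel_left]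
  have h := H19.MajorBound.irr_pow_central hz χ 1 x
  rw [pow_one, pow_one] at h
  rw [h]
  ring

theorem T_central {z : G} (hz : z ∈ Subgroup.center G) (χ : IrrCharacter G) (g : G)
    (a : (H20.k M)[G]) :
    H23.T χ (z * g) a = H19.MajorBound.eps z χ * H23.T χ g a := by
  classical
  have hzfix : H23.cj z a = a := by
    ext x
    rw [H23.coeff_cj, Subgroup.mem_center_iff.1 (Subgroup.inv_mem _ hz) x |>.symm,
      inv_mul_cancel_right]
  have hiff : H23.cj (z * g) a = a ↔ H23.cj g a = a := by
    constructor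
    · intro h
      rw [← H23.cj_cj] at h
      exact (H23.cj z).injective (h.trans hzfix.symm)
    · intro h
      rw [← H23.cj_cj, h, hzfix]
  by_cases h : H23.IsId g a
  · obtain ⟨e, he, her, hc⟩ := h.lift
    have hcz : Commute (H23.gO M z) e := by
      rw [H20.commute_single_iff]
      intro x
      congr 1
      rw [← Subgroup.mem_center_iff.1 hz x, mul_inv_cancel_right]
    have hc' : Commute (H23.gO M (z * g)) e := by
      rw [← H23.gO_mul]
      exact hcz.mul_left hc
    rw [H23.T_eq χ he her hc', H23.T_eq χ he her hc, ← H23.gO_mul, mul_assoc,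
      chiLin_central_mul hz]
  · have h' : ¬ H23.IsId (z * g) a := fun h' => h ⟨h'.idem, hiff.1 h'.fix⟩
    rw [H23.T, H23.T, dif_neg h, dif_neg h', mul_zero]

theorem pPart_central_mul {z : G} (hz : z ∈ Subgroup.center G)
    (hzp : ∃ j : ℕ, orderOf z = p ^ j) (g : G) :
    H20.pPart p (z * g) = z * H20.pPart p g := by
  have hc : Commute z (H20.pPart p g) := (Subgroup.mem_center_iff.1 hz _).symm
  have hpp : ∃ j : ℕ, orderOf (z * H20.pPart p g) = p ^ j := by
    obtain ⟨j, hj⟩ := hzp
    obtain ⟨k, hk⟩ := H20.exists_orderOf_pPart (p := p) g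
    have hd : orderOf (z * H20.pPart p g) ∣ p ^ (max j k) := by
      refine hc.orderOf_mul_dvd_lcm.trans (Nat.lcm_dvd ?_ ?_)
      · exact hj ▸ pow_dvd_pow p (le_max_left _ _)
      · exact hk ▸ pow_dvd_pow p (le_max_right _ _)
    obtain ⟨i, -, hi⟩ := (Nat.dvd_prime_pow hp.out).1 hd
    exact ⟨i, hi⟩
  refine ((H20.isPPart_unique' (p := p) (g := z * g) (x := z * H20.pPart p g)
    (y := H20.qPart p g) ?_ ?_ hpp (H20.not_dvd_orderOf_qPart g)).1).symm
  · rw [mul_assoc, H20.pPart_mul_qPart]
  · exact Commute.mul_left (Subgroup.mem_center_iff.1 hz _).symm (H20.commute_pPart_qPart g)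

theorem pairC_central {z : G} (hz : z ∈ Subgroup.center G) (hzp : ∃ j : ℕ, orderOf z = p ^ j)
    (u : G) (b : (H20.k M)[G]) (χ ψ : IrrCharacter G) :
    H23.pairC p (z * u) b χ ψ = H19.MajorBound.eps z χ * conj (H19.MajorBound.eps z ψ) *
      H23.pairC p u b χ ψ := by
  classical
  have hC : Subgroup.centralizer (Subgroup.zpowers (z * u) : Set G) =
      Subgroup.centralizer (Subgroup.zpowers u : Set G) := by
    rw [H23.centralizer_zpowers, H23.centralizer_zpowers]
    ext g
    rw [Subgroup.mem_centralizer_singleton_iff, Subgroup.mem_centralizer_singleton_iff,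
      ← mul_assoc, Subgroup.mem_center_iff.1 hz g, mul_assoc, mul_assoc]
    exact ⟨mul_left_cancel, congrArg _⟩
  rw [H23.pairC, H23.pairC, hC, mul_left_comm]
  congr 1
  rw [mul_sum]
  refine (Fintype.sum_equiv (Equiv.mulLeft z) _ _ fun g => ?_).symm
  rw [Equiv.coe_mulLeft, pPart_central_mul hz hzp]
  by_cases h : H20.pPart p g = u
  · rw [if_pos h, if_pos (by rw [h]), T_central hz, T_central hz, map_mul]
    ring
  · rw [if_neg h, if_neg fun h' => h (mul_left_cancel h'), mul_zero]

/-! ### The lift of the regular part -/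

section Lift

variable {b : Set (IrrCharacter G)} {z : G}

theorem isGeneralizedCharacter_comp_qPart (α : IrrCharacter G) :
    IsGeneralizedCharacter G fun g => (α : G → ℂ) (H20.qPart p g) := by
  classical
  refine H14.isGeneralizedCharacter_of_elementary _ (fun a c => ?_) fun E ℓ hℓ hE => ?_
  · show (α : G → ℂ) (H20.qPart p (c * a * c⁻¹)) = (α : G → ℂ) (H20.qPart p a)
    have e : H20.qPart p (c * a * c⁻¹) = c * H20.qPart p a * c⁻¹ := by
      apply mul_left_cancel (a := H20.pPart p (c * a * c⁻¹))
      rw [H20.pPart_mul_qPart, H20.pPart_conj]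
      calc c * a * c⁻¹ = c * (H20.pPart p a * H20.qPart p a) * c⁻¹ := by rw [H20.pPart_mul_qPart]
        _ = _ := by group
    rw [e, H12.irr_isClassFunction α]
  · obtain ⟨-, hmul⟩ := H21.qPart_mul_of_elementary (p := p) hℓ hE
    let φ : E →* E := MonoidHom.mk' (H20.qPart p) hmul
    have hcoe : ∀ e : E, ((H20.qPart p e : E) : G) = H20.qPart p (e : G) := fun e =>
      (H20.isPPart_unique' (p := p) (g := (e : G)) (x := ((H20.pPart p e : E) : G))
        (y := ((H20.qPart p e : E) : G))
        (by rw [← Subgroup.coe_mul, H20.pPart_mul_qPart])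
        ((H20.commute_pPart_qPart e).map E.subtype)
        (by rw [Subgroup.orderOf_coe]; exact H20.exists_orderOf_pPart e)
        (by rw [Subgroup.orderOf_coe]; exact H20.not_dvd_orderOf_qPart e)).2
    refine ⟨_, 0, H12.IsCharacter.comp (H12.IsCharacter.comp (H12.isCharacter_irr α) E.subtype) φ,
      H12.isCharacter_zero, ?_⟩
    funext e
    simp [φ, hcoe]

/-- The row of a member through the members trivial at the central element. -/
theorem exists_lift (hM : IsPModular p M) (hb : IsPBlock M b) (hz : z ∈ Subgroup.center G)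
    (hzp : ∃ j : ℕ, orderOf z = p ^ j) (α : IrrCharacter G) :
    ∃ n : IrrCharacter G → ℤ, ∀ β ∈ b,
      H22.Delta p α β = ∑ η ∈ H19.CentralPrime.triv b z, (n η : ℂ) * H22.Delta p η β := by
  classical
  set f : G → ℂ := fun g => (α : G → ℂ) (H20.qPart p g) with hf
  obtain ⟨hcl, hint⟩ := H12.isGeneralizedCharacter_iff.1
    (isGeneralizedCharacter_comp_qPart (p := p) α)
  choose n hn using hint
  refine ⟨n, fun β hβ => ?_⟩
  have hreg : pRegularPart p f = pRegularPart p (α : G → ℂ) := by
    funext g
    by_cases hg : p ∣ orderOf g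
    · rw [H22.pRegularPart_of_dvd _ hg, H22.pRegularPart_of_dvd _ hg]
    · rw [H22.pRegularPart_of_not_dvd _ hg, H22.pRegularPart_of_not_dvd _ hg]
      show (α : G → ℂ) (H20.qPart p g) = _
      have h1 := H20.pPart_mul_qPart (p := p) g
      rw [H20.pPart_eq_one_iff.2 hg, one_mul] at h1
      rw [h1]
  have hper : ∀ g, f (z * g) = f g := by
    intro g
    show (α : G → ℂ) (H20.qPart p (z * g)) = (α : G → ℂ) (H20.qPart p g)
    refine congrArg (α : G → ℂ) ?_
    have h1 := pPart_central_mul hz hzp g
    have h2 := H20.pPart_mul_qPart (p := p) (z * g)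
    rw [h1, mul_assoc] at h2
    have h3 := mul_left_cancel h2
    conv_rhs at h3 => rw [← H20.pPart_mul_qPart (p := p) g]
    exact mul_left_cancel h3
  have hvan : ∀ η : IrrCharacter G, (η : G → ℂ) z ≠ (η : G → ℂ) 1 → n η = 0 := by
    intro η hη
    have hne : H19.MajorBound.eps z η ≠ 1 := fun h =>
      hη ((H19.CentralPrime.eps_eq_one_iff hz η).1 h)
    have h1 : classInner f (η : G → ℂ) =
        conj (H19.MajorBound.eps z η) * classInner f (η : G → ℂ) := by
      rw [H12.classInner_def, mul_left_comm (conj _)]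
      congr 1
      rw [mul_sum]
      refine (Fintype.sum_equiv (Equiv.mulLeft z) _ _ fun g => ?_).symm
      rw [Equiv.coe_mulLeft, hper]
      have h := H19.MajorBound.irr_pow_central hz η 1 g
      rw [pow_one, pow_one] at h
      rw [h, map_mul]
      ring
    have h2 : (conj (H19.MajorBound.eps z η) - 1) * classInner f (η : G → ℂ) = 0 := by
      rw [sub_mul, one_mul, ← h1, sub_self]
    rw [hn η] at h2
    rcases mul_eq_zero.1 h2 with h3 | h3
    · exfalso
      apply hne
      have h4 := congrArg conj (sub_eq_zero.1 h3)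
      rwa [Complex.conj_conj, map_one] at h4
    · exact_mod_cast h3
  have hout : ∀ η : IrrCharacter G, η ∉ b → H22.Delta p η β = 0 := by
    intro η hη
    rw [← H22.conj_Delta p β η]
    have hmem := H22.Sub.regSpan_le_irrSpan hM hb
      (Submodule.subset_span ⟨β, hβ, rfl⟩ :
        pRegularPart p (β : G → ℂ) ∈ H22.Sub.regSpan p b)
    rw [H22.Delta, ← H22.Sub.blockPart_of_mem_irrSpan hmem, H22.Sub.blockPart_eq_smul_sum,
      H12.classInner_sum_left, sum_eq_zero, map_zero]
    intro ψ hψ
    rw [H12.classInner_smul_left, H12.classInner_irr_ne (fun h =>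
      hη (by rw [← h]; exact H22.mem_blockFinset.1 hψ)), mul_zero]
  calc H22.Delta p α β = classInner (pRegularPart p f) (β : G → ℂ) := by rw [hreg]; rfl
    _ = ∑ η : IrrCharacter G, (n η : ℂ) * H22.Delta p η β := by
        simp only [H22.Delta, H12.classInner_def, mul_sum]
        rw [sum_comm]
        refine sum_congr rfl fun g _ => ?_
        by_cases hg : p ∣ orderOf g
        · simp [H22.pRegularPart_of_dvd _ hg]
        · simp only [H22.pRegularPart_of_not_dvd _ hg]
          rw [show f g = ∑ η : IrrCharacter G, classInner f (η : G → ℂ) * (η : G → ℂ) g from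
            H12.classFunction_apply_eq_sum hcl g, sum_mul, mul_sum]
          refine sum_congr rfl fun η _ => ?_
          rw [hn η]
          ring
    _ = ∑ η ∈ H19.CentralPrime.triv b z, (n η : ℂ) * H22.Delta p η β := by
        refine (sum_subset (subset_univ _) fun η _ hη => ?_).symm
        by_cases hb' : η ∈ b
        · rw [hvan η fun h => hη (H19.CentralPrime.mem_triv.2 ⟨hb', h⟩), Int.cast_zero, zero_mul]
        · rw [hout η hb', mul_zero]

end Lift

end H22.SD
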