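import Cfsg.Agent.H22.SD.Pairs
import Cfsg.Agent.H22.SD.Sections
import Cfsg.Agent.H19.Dyadic

/-!
# The rotation columns of a 2-block with semidihedral defect group

One integral family on the exponents modulo `2 q` gives the sections at all rotations.
-/

set_option autoImplicit false
set_option linter.unusedSectionVars false
set_option linter.style.haveILetI false
set_option maxHeartbeats 800000

open Cfsg Finset Polynomial
open scoped MonoidAlgebra ComplexConjugate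

namespace H22.SD

universe u

variable {G : Type u} [Group G] [Fintype G] {M : Ideal AlgInt} [hMp : M.IsPrime]
  [CharP (H20.k M) 2] [IsAlgClosed (H20.k M)]

local notation "C[" x "]" => (Subgroup.centralizer ({x} : Set _))

/-- The rotation data. -/
structure RotData (M : Ideal AlgInt) [M.IsPrime] [CharP (H20.k M) 2] [IsAlgClosed (H20.k M)]
    (D : Subgroup G) (f0 : (H20.k M)[G]) (r : G) (a : ℕ) where
  ζ : ℂ
  m : IrrCharacter G → ℕ → ℤ
  prim : IsPrimitiveRoot ζ (2 * 2 ^ a)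
  sym : ∀ χ l, l < 2 * 2 ^ a → m χ (sig (2 ^ a) l) = m χ l
  sign : r ^ 2 ^ a ∈ Subgroup.center G → ∀ χ l, m χ l ≠ 0 →
    H19.MajorBound.eps (r ^ 2 ^ a) χ = (-1 : ℂ) ^ l
  pair : ∀ j ∈ offs (2 ^ a), ∀ χ ψ : IrrCharacter G,
    H23.pairC 2 (r ^ j) (bl M D f0 (r ^ j)) χ ψ =
      four (2 ^ a) ζ (m χ) j * conj (four (2 ^ a) ζ (m ψ) j) / ((2 * 2 ^ a : ℕ) : ℂ)

variable {B : Set (IrrCharacter G)} {D : Subgroup G} {f0 : (H20.k M)[G]} {r s : G} {a : ℕ}

theorem Semi.s_cj (h : Semi M B D f0 r s a) :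
    H23.cj s (bl M D f0 r) = bl M D f0 r := by
  rw [h.cj_bl h.sD h.rD]
  exact h.bl_congr (h.zpowers_le (h.s_conj_mem (Subgroup.mem_zpowers r)))
    (h.zpowers_s_conj (Subgroup.mem_zpowers r))

theorem Semi.exists_rot (h : Semi M B D f0 r s a) : Nonempty (RotData M D f0 r a) := by
  classical
  haveI : Fact (Nat.Prime 2) := ⟨Nat.prime_two⟩
  set w := r ^ 2 ^ (a - 1) with hw
  haveI : Fintype C[w] := Fintype.ofFinite _
  have hwr : w ∈ Subgroup.zpowers r := Subgroup.npow_mem_zpowers r _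
  have hw2 : w * w ≠ 1 := by rw [hw, h.w_sq]; exact h.z_ne_one
  have hgen : Subgroup.zpowers (r ^ (2 ^ a - 1)) = Subgroup.zpowers r := by
    rw [← h.sr]
    exact h.zpowers_s_conj (Subgroup.mem_zpowers r)
  obtain ⟨ζ, hζ⟩ := H19.exists_root (2 * 2 ^ a) (by positivity)
  have hζ' : IsPrimitiveRoot ζ (orderOf r) := by rw [h.hord2]; exact hζ
  have hshift : ∀ ν : ℕ, ∃ ν₀ : ℕ, ν₀ % 2 = ν % 2 ∧
      2 * ν + (2 ^ a - 1) * ν₀ ≡ ν₀ [MOD orderOf r] := by
    intro ν
    obtain ⟨g, hg⟩ : ∃ g, 2 ^ a = 4 * g := ⟨_, two_pow_eq h.ha⟩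
    have hg1 : 1 ≤ g := by have := h.four_le_q; omega
    refine ⟨ν * (1 + 2 * g), by rw [Nat.mul_mod, show (1 + 2 * g) % 2 = 1 by omega, mul_one,
      Nat.mod_mod], ?_⟩
    rw [h.hord2, hg]
    obtain ⟨g', rfl⟩ : ∃ g', g = g' + 1 := ⟨g - 1, by omega⟩
    have hid : 2 * ν + (4 * g' + 3) * (ν * (1 + 2 * (g' + 1))) =
        ν * (1 + 2 * (g' + 1)) + 2 * (4 * (g' + 1)) * (ν * (g' + 1)) := by ring
    rw [show 4 * (g' + 1) - 1 = 4 * g' + 3 by omega, Nat.ModEq.comm,
      Nat.modEq_iff_dvd' (hid ▸ Nat.le_add_right _ _)]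
    exact ⟨ν * (g' + 1), by rw [hid, Nat.add_sub_cancel_left]⟩
  obtain ⟨m, hsym, hsign, hpair⟩ := (h.loc_rot hwr hw2).exists_cols h.sr h.s_w hgen h.s_cj hshift hζ'
  have hcol : ∀ χ j, H22.SD.Local.Loc4.col (orderOf r) ζ (m χ) j =
      four (2 ^ a) ζ (fun l => (m χ l : ℤ)) j := by
    intro χ j
    rw [H22.SD.Local.Loc4.col, four, h.hord2]
    simp only [Int.cast_natCast]
  refine ⟨⟨ζ, fun χ l => (m χ l : ℤ), hζ, fun χ l hl => ?_, fun hz χ l hl => ?_, fun j hj χ ψ => ?_⟩⟩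
  · have := hsym χ l (sig (2 ^ a) l) (by rw [h.hord2]; exact Nat.mod_modEq _ _)
    exact congrArg Nat.cast this
  · have e : w * w = r ^ 2 ^ a := h.w_sq
    rw [← e] at hz ⊢
    exact hsign hz χ l (fun e0 => hl (by simp [e0]))
  · have hj2 := h.rep_pow_mem hj
    have hjr : r ^ j ∈ Subgroup.zpowers r := Subgroup.npow_mem_zpowers r j
    have e := hpair j (bl M D f0 (r ^ j)) (h.w_mem hjr hj2) (h.le_bl h.rD hjr) χ ψ
    rw [hcol, hcol] at e
    rw [e, h.hord2]

namespace RotData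

variable (R : RotData M D f0 r a)

/-- The column at the exponent `j`. -/
noncomputable def F (χ : IrrCharacter G) (j : ℕ) : ℂ := four (2 ^ a) R.ζ (R.m χ) j

/-- The averaged column. -/
def avg (χ : IrrCharacter G) : ℤ := R.m χ 0 - R.m χ (2 ^ a)

theorem pow_mod (k : ℕ) : R.ζ ^ (k % (2 * 2 ^ a)) = R.ζ ^ k :=
  (pow_eq_pow_mod k R.prim.pow_eq_one).symm

theorem F_sig (ha : 2 ≤ a) (χ : IrrCharacter G) (j : ℕ) :
    R.F χ (sig (2 ^ a) j) = R.F χ j := by
  rw [F, F, four, four]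
  refine sum_nbij' (sig (2 ^ a)) (sig (2 ^ a)) ?_ ?_ ?_ ?_ ?_
  · exact fun l _ => mem_range.2 (sig_lt l)
  · exact fun l _ => mem_range.2 (sig_lt l)
  · exact fun l hl => sig_sig ha (mem_range.1 hl)
  · exact fun l hl => sig_sig ha (mem_range.1 hl)
  · intro l hl
    rw [R.sym χ l (mem_range.1 hl)]
    congr 1
    rw [← R.pow_mod (sig (2 ^ a) j * l), ← R.pow_mod (j * sig (2 ^ a) l)]
    congr 1
    simp only [sig]
    rw [Nat.mod_mul_mod, Nat.mul_mod_mod, mul_left_comm, mul_assoc]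

theorem sum_F_par (χ : IrrCharacter G) :
    ∑ j ∈ par (2 ^ a) 1, R.F χ j = ((2 ^ a : ℕ) : ℂ) * (R.avg χ : ℂ) := by
  have hq : 0 < 2 ^ a := by positivity
  set q := 2 ^ a with hqdef
  have hin : ∀ l < 2 * q, ∑ j ∈ par q 1, R.ζ ^ (j * l) =
      if l = 0 then (q : ℂ) else if l = q then -(q : ℂ) else 0 := by
    intro l hl
    have hsplit : ∀ k, ∑ j ∈ range (2 * q), R.ζ ^ (j * k) =
        if k % (2 * q) = 0 then ((2 * q : ℕ) : ℂ) else 0 := by
      intro k
      have h1 := sum_pow_mul_conj R.prim hq (Nat.mod_lt k (by omega : 0 < 2 * q))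
        (show 0 < 2 * q by omega)
      rw [← h1]
      refine sum_congr rfl fun i _ => ?_
      rw [mul_zero, pow_zero, map_one, mul_one, pow_mul, pow_mul, ← pow_eq_pow_mod]
      rw [← pow_mul, mul_comm, pow_mul, R.prim.pow_eq_one, one_pow]
    have h1 : ∑ j ∈ par q 0, R.ζ ^ (j * l) + ∑ j ∈ par q 1, R.ζ ^ (j * l) =
        if l % (2 * q) = 0 then ((2 * q : ℕ) : ℂ) else 0 := by
      rw [← sum_range_par, hsplit]
    have h2 : ∑ j ∈ par q 0, R.ζ ^ (j * l) - ∑ j ∈ par q 1, R.ζ ^ (j * l) =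
        if (l + q) % (2 * q) = 0 then ((2 * q : ℕ) : ℂ) else 0 := by
      rw [← hsplit, sum_range_par, sub_eq_add_neg, ← sum_neg_distrib]
      congr 1 <;> refine sum_congr rfl fun j hj => ?_
      · rw [mul_add, pow_add, mul_comm j q, pow_q_mul R.prim hq, if_pos (mem_par.1 hj).2, mul_one]
      · rw [mul_add, pow_add, mul_comm j q, pow_q_mul R.prim hq,
          if_neg (by rw [(mem_par.1 hj).2]; omega), mul_neg_one]
    rw [Nat.mod_eq_of_lt hl] at h1
    rcases lt_trichotomy l q with hlq | hlq | hlq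
    · rw [Nat.mod_eq_of_lt (by omega : l + q < 2 * q), if_neg (by omega : ¬ l + q = 0)] at h2
      by_cases h0 : l = 0
      · rw [if_pos h0] at h1 ⊢
        push_cast at h1
        linear_combination (h1 - h2) / 2
      · rw [if_neg h0] at h1 ⊢
        rw [if_neg (by omega)]
        linear_combination (h1 - h2) / 2
    · rw [hlq, ← two_mul, Nat.mod_self, if_pos rfl] at h2
      rw [hlq, if_neg (by omega)] at h1 ⊢
      rw [if_pos rfl]
      push_cast at h2
      linear_combination (h1 - h2) / 2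
    · rw [Nat.mod_eq_sub_mod (by omega), Nat.mod_eq_of_lt (by omega : l + q - 2 * q < 2 * q),
        if_neg (by omega)] at h2
      rw [if_neg (by omega : ¬ l = 0)] at h1 ⊢
      rw [if_neg (by omega)]
      linear_combination (h1 - h2) / 2
  simp only [F, four]
  rw [sum_comm, sum_congr rfl fun l hl => by rw [← mul_sum, hin l (mem_range.1 hl)]]
  rw [← add_sum_erase _ _ (mem_range.2 (by omega : (0 : ℕ) < 2 * q)),
    ← add_sum_erase _ _ (mem_erase.2 ⟨hq.ne', mem_range.2 (by omega : q < 2 * q)⟩),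
    sum_eq_zero (fun l hl => by
      simp only [mem_erase] at hl
      rw [if_neg hl.2.1, if_neg hl.1, mul_zero]), if_pos rfl, if_neg hq.ne', if_pos rfl, avg]
  push_cast
  ring

end RotData

namespace Semi

/-- Norms and orthogonality of the rotation columns. -/
theorem sum_F (h : Semi M B D f0 r s a) (R : RotData M D f0 r a) {j k : ℕ}
    (hj : j ∈ offs (2 ^ a)) (hk : k ∈ offs (2 ^ a)) :
    ∑ χ ∈ H22.blockFinset B, conj (R.F χ j) * R.F χ k =
      if k = j ∨ k = sig (2 ^ a) j then ((2 * 2 ^ a : ℕ) : ℂ) else 0 := by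
  classical
  haveI : Fact (Nat.Prime 2) := ⟨Nat.prime_two⟩
  have hN : ((2 * 2 ^ a : ℕ) : ℂ) ≠ 0 := Nat.cast_ne_zero.2 (by positivity)
  have hnorm : ∀ i ∈ offs (2 ^ a),
      ∑ χ ∈ H22.blockFinset B, R.F χ i * conj (R.F χ i) = ((2 * 2 ^ a : ℕ) : ℂ) := by
    intro i hi
    have hir : r ^ i ∈ Subgroup.zpowers r := Subgroup.npow_mem_zpowers r i
    haveI : Fintype C[r ^ i] := Fintype.ofFinite _
    have h1 := (h.loc_rot hir (h.rep_pow_mem hi)).sum_pairC_eq_one h.hB (h.bl_inBlk (h.zpowers_le hir))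
    rw [sum_congr rfl fun χ _ => R.pair i hi χ χ, ← sum_div, div_eq_iff hN, one_mul] at h1
    exact h1
  by_cases he : k = j ∨ k = sig (2 ^ a) j
  · rw [if_pos he, ← hnorm j hj]
    refine sum_congr rfl fun χ _ => ?_
    rcases he with rfl | rfl
    · ring
    · rw [R.F_sig h.ha]; ring
  rw [if_neg he]
  obtain ⟨j', hj', ej⟩ := exists_rep h.ha hj
  obtain ⟨k', hk', ek⟩ := exists_rep h.ha hk
  have hFj : ∀ χ, R.F χ j = R.F χ j' := fun χ => by
    rcases ej with rfl | rfl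
    · rfl
    · exact R.F_sig h.ha χ j'
  have hFk : ∀ χ, R.F χ k = R.F χ k' := fun χ => by
    rcases ek with rfl | rfl
    · rfl
    · exact R.F_sig h.ha χ k'
  have hne : j' ≠ k' := by
    rintro rfl
    have hs := sig_sig h.ha (mem_offs.1 (mem_reps.1 hj').1).1
    rcases ej with rfl | rfl <;> rcases ek with rfl | rfl
    · exact he (Or.inl rfl)
    · exact he (Or.inr rfl)
    · exact he (Or.inr hs.symm)
    · exact he (Or.inl rfl)
  rw [sum_congr rfl fun χ _ => by rw [hFj χ, hFk χ]]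
  have hjo := (mem_reps.1 hj').1
  have hko := (mem_reps.1 hk').1
  exact H12.SubsecFam.sum_col_eq_zero h.fam h.hM h.hB
    (i := (Sum.inl ⟨j', hj'⟩ : Idx M D f0 r s a)) (k := Sum.inl ⟨k', hk'⟩)
    (fun e => hne (congrArg Subtype.val (Sum.inl.inj e)))
    hN hN (fun χ _ ψ _ => R.pair j' hjo χ ψ) (hnorm j' hjo) (fun χ _ ψ _ => R.pair k' hko χ ψ)

theorem par_one_offs (h : Semi M B D f0 r s a) {j : ℕ} (hj : j ∈ par (2 ^ a) 1) :
    j ∈ offs (2 ^ a) := by
  obtain ⟨hj1, hj2⟩ := mem_par.1 hj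
  have := two_pow_eq h.ha
  exact mem_offs.2 ⟨hj1, by omega, by omega⟩

theorem sig_par (h : Semi M B D f0 r s a) {j : ℕ} (hj : j ∈ par (2 ^ a) 1) :
    sig (2 ^ a) j ∈ par (2 ^ a) 1 := by
  refine mem_par.2 ⟨sig_lt j, ?_⟩
  rw [sig, Nat.mod_mod_of_dvd _ (dvd_mul_right 2 _), Nat.mul_mod, (mem_par.1 hj).2]
  have := two_pow_eq h.ha
  have := h.four_le_q
  show (2 ^ a - 1) % 2 * 1 % 2 = 1
  omega

/-- The averaged column has norm four. -/
theorem sum_avg (h : Semi M B D f0 r s a) (R : RotData M D f0 r a) :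
    ∑ χ ∈ H22.blockFinset B, R.avg χ ^ 2 = 4 := by
  classical
  have hq : ((2 ^ a : ℕ) : ℂ) ≠ 0 := Nat.cast_ne_zero.2 (by positivity)
  have key : ∑ χ ∈ H22.blockFinset B,
      conj (∑ j ∈ par (2 ^ a) 1, R.F χ j) * (∑ k ∈ par (2 ^ a) 1, R.F χ k) =
      4 * ((2 ^ a : ℕ) : ℂ) * ((2 ^ a : ℕ) : ℂ) := by
    simp only [map_sum, sum_mul, mul_sum]
    rw [sum_comm, sum_congr rfl fun j hj => by
      rw [sum_comm, sum_congr rfl fun k hk =>
        h.sum_F R (h.par_one_offs hk) (h.par_one_offs hj)]]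
    have hinner : ∀ j ∈ par (2 ^ a) 1, ∑ k ∈ par (2 ^ a) 1,
        (if j = k ∨ j = sig (2 ^ a) k then ((2 * 2 ^ a : ℕ) : ℂ) else 0) =
        2 * ((2 * 2 ^ a : ℕ) : ℂ) := by
      intro j hj
      rw [← sum_filter, show (par (2 ^ a) 1).filter (fun k => j = k ∨ j = sig (2 ^ a) k) =
          {j, sig (2 ^ a) j} by
        ext k
        simp only [mem_filter, mem_insert, mem_singleton]
        refine ⟨?_, ?_⟩
        · rintro ⟨hk, rfl | rfl⟩
          · exact Or.inl rfl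
          · exact Or.inr (sig_sig h.ha (mem_par.1 hk).1).symm
        · rintro (rfl | rfl)
          · exact ⟨hj, Or.inl rfl⟩
          · exact ⟨h.sig_par hj, Or.inr (sig_sig h.ha (mem_par.1 hj).1).symm⟩,
        sum_pair (sig_ne h.ha (h.par_one_offs hj)).symm]
      ring
    rw [sum_congr rfl hinner, sum_const, card_par (by norm_num), nsmul_eq_mul]
    push_cast
    ring
  simp only [R.sum_F_par, map_mul, Complex.conj_natCast, map_intCast] at key
  have h2 : ((2 ^ a : ℕ) : ℂ) * ((2 ^ a : ℕ) : ℂ) *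
      (((∑ χ ∈ H22.blockFinset B, R.avg χ ^ 2 : ℤ) : ℂ) - 4) = 0 := by
    rw [Int.cast_sum, mul_sub, mul_sum]
    push_cast
    rw [sub_eq_zero]
    calc _ = _ := sum_congr rfl fun χ _ => by push_cast; ring
      _ = _ := key
      _ = _ := by push_cast; ring
  have h3 := (mul_eq_zero.1 h2).resolve_left (mul_ne_zero hq hq)
  exact_mod_cast sub_eq_zero.1 h3

/-- The averaged column is odd at height zero. -/
theorem avg_odd (h : Semi M B D f0 r s a) (R : RotData M D f0 r a) {χ : IrrCharacter G}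
    (hχ : χ ∈ B) (h0 : blockHeight 2 B (χ : G → ℂ) = 0) : ¬ (2 : ℤ) ∣ R.avg χ := by
  classical
  haveI : Fact (Nat.Prime 2) := ⟨Nat.prime_two⟩
  haveI : Fintype C[r] := Fintype.ofFinite _
  intro hdvd
  obtain ⟨β, hβ, hβe⟩ := H20.Klein.exists_block (h.bl_pair h.rD)
  have hind := H20.Klein.induced_of_inBlk h.hM h.hB (h.exists_orderOf h.rD) hβ
    (by rw [hβe]; exact h.bl_inBlk h.rD)
  have hr2 : r * r ≠ 1 := by
    intro e
    have h1 := Nat.le_of_dvd two_pos (h.hord2 ▸ orderOf_dvd_of_pow_eq_one ((pow_two r).trans e))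
    have := h.four_le_q
    omega
  have hl := h.loc_rot (Subgroup.mem_zpowers r) hr2
  obtain ⟨bK, hbK, hbe⟩ := hl.exists_bK
  obtain rfl : β = bK := H23.eG_injective hβ hbK (by rw [hβe, hl.eB_eq_eG hbe])
  have hd : blockDefect 2 β = a + 1 := by
    have h1 := H20.card_defectGroup h.hM hβ (H23.isDefectGroup_of_isMax hβ (hl.isMax_K hbe))
    rw [hl.card_P, h.hord] at h1
    exact (Nat.pow_right_injective le_rfl h1).symm
  obtain ⟨S⟩ := H22.Contrib.exists_setup h.hM (h.exists_orderOf h.rD) hind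
  apply S.aval_not_memIdeal hχ hχ h0 h0
  have h1o : (1 : ℕ) ∈ offs (2 ^ a) := mem_offs.2 ⟨by have := h.four_le_q; omega, one_ne_zero,
    by have := h.four_le_q; omega⟩
  have hp := R.pair 1 h1o χ χ
  rw [pow_one] at hp
  rw [aval_eq_pairC S (h.exists_orderOf h.rD) hβ, hβe, hp, hd, Nat.cast_ofNat, pow_succ',
    show ((2 * 2 ^ a : ℕ) : ℂ) = 2 * 2 ^ a by push_cast; ring,
    mul_div_cancel₀ _ (mul_ne_zero two_ne_zero (pow_ne_zero _ two_ne_zero))]
  have hζ : IsPrimitiveRoot R.ζ (2 ^ (a + 1)) := by rw [pow_succ']; exact R.prim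
  have hsum : MemLocalIdeal M (((∑ l ∈ range (2 * 2 ^ a), R.m χ l : ℤ) : ℂ)) := by
    refine (H20.intCast_memIdeal_iff h.hM _).2 ?_
    have h2 := sum_symm_parity h.ha (R.m χ) fun i hi => R.sym χ i (mem_offs.1 hi).1
    have h3 : (2 : ℤ) ∣ R.m χ 0 + R.m χ (2 ^ a) := by
      have h4 : (2 : ℤ) ∣ R.m χ 0 - R.m χ (2 ^ a) := hdvd
      omega
    omega
  have hF : MemLocalIdeal M (four (2 ^ a) R.ζ (R.m χ) 1) := by
    have e : four (2 ^ a) R.ζ (R.m χ) 1 =
        ∑ l ∈ range (2 * 2 ^ a), (R.m χ l : ℂ) * (R.ζ ^ l - 1) +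
          ((∑ l ∈ range (2 * 2 ^ a), R.m χ l : ℤ) : ℂ) := by
      rw [four, Int.cast_sum, ← sum_add_distrib]
      exact sum_congr rfl fun l _ => by rw [one_mul]; ring
    rw [e]
    refine H20.memIdeal_add (sum_induction _ (MemLocalIdeal M) (fun _ _ => H20.memIdeal_add)
      H20.memIdeal_zero fun l _ => H20.memIdeal_mul (H20.memRing_intCast _) ?_) hsum
    have := H19.Dyadic.memIdeal_aeval_sub_eval h.hM hζ (X ^ l)
    simpa using this
  rw [mul_comm]
  refine H20.memIdeal_mul ?_ hF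
  rw [four, map_sum]
  refine H20.memRing_sum _ _ fun l _ => ?_
  rw [map_mul, map_intCast]
  refine H20.memRing_mul (H20.memRing_intCast _) (H20.memRing_of_pow_eq_one
    (n := 2 * 2 ^ a) (by positivity) ?_)
  rw [← map_pow, ← pow_mul, mul_comm, pow_mul, R.prim.pow_eq_one, one_pow, map_one]

end Semi

end H22.SD
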